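import Cfsg.Agent.Lib.Helper6.SzSimple

set_option autoImplicit false

/-! # Sylow 2-subgroups of the Suzuki groups -/

namespace Cfsg.Agent.Lib.Helper6.Sz

open Matrix
open scoped Pointwise commutatorElement

section transfer

lemma mem_center_iff_of_mulEquiv {H K : Type*} [Group H] [Group K] (e : H ≃* K) (x : H) :
    x ∈ Subgroup.center H ↔ e x ∈ Subgroup.center K := by
  rw [Subgroup.mem_center_iff, Subgroup.mem_center_iff]
  constructor
  · intro hk g
    have := congrArg e (hk (e.symm g))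
    rw [map_mul, map_mul, e.apply_symm_apply] at this
    exact this
  · intro hk g
    apply e.injective
    rw [map_mul, map_mul]
    exact hk (e g)

lemma center_eq_commutator_of_mulEquiv {H K : Type*} [Group H] [Group K] (e : H ≃* K)
    (h : Subgroup.center H = commutator H) : Subgroup.center K = commutator K := by
  have h2 : commutator K = Subgroup.map e.toMonoidHom (commutator H) := by
    rw [commutator_def, commutator_def, Subgroup.map_commutator,
      Subgroup.map_top_of_surjective _ e.surjective]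
  ext k
  rw [h2, Subgroup.mem_map, ← h]
  constructor
  · intro hk
    refine ⟨e.symm k, ?_, e.apply_symm_apply k⟩
    rw [mem_center_iff_of_mulEquiv e, e.apply_symm_apply]
    exact hk
  · rintro ⟨x, hx, rfl⟩
    exact (mem_center_iff_of_mulEquiv e x).1 hx

lemma card_center_of_mulEquiv {H K : Type*} [Group H] [Group K] (e : H ≃* K) :
    Nat.card (Subgroup.center H) = Nat.card (Subgroup.center K) :=
  Nat.card_congr (e.toEquiv.subtypeEquiv (fun x => mem_center_iff_of_mulEquiv e x))

end transfer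

section algebra
variable {F : Type*} [Field F] [CharP F 2] [Finite F] (s : F →+* F)
  (hs : ∀ x, s (s x) = x ^ 2)

include hs in
lemma exists_mul_s_eq {c : F} (hc : c ≠ 0) : ∃ t : F, t ≠ 0 ∧ t * s t = c := by
  let κ : Fˣ →* Fˣ :=
    { toFun := fun t => t * Units.map (s : F →* F) t
      map_one' := by simp
      map_mul' := by intro a b; simp [mul_mul_mul_comm] }
  have hinj : Function.Injective κ := by
    rw [injective_iff_map_eq_one]
    intro t ht
    have h1 : (t : F) * s t = 1 := by
      have := congrArg Units.val ht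
      simpa [κ] using this
    have h2 : s (t : F) * (t : F) ^ 2 = 1 := by
      have := congrArg s h1
      rw [map_mul, hs, map_one] at this
      exact this
    apply Units.ext
    have h3 : (t : F) * s t * t = 1 := by linear_combination h2
    rw [h1, one_mul] at h3
    simpa using h3
  obtain ⟨t, ht⟩ := (Finite.injective_iff_surjective.1 hinj) (Units.mk0 c hc)
  refine ⟨t, t.ne_zero, ?_⟩
  have := congrArg Units.val ht
  simpa [κ] using this

include hs in
omit [Finite F] in
lemma exists_s_ne (hnt : ∃ y : F, s y ≠ y ^ 2) : ∃ y : F, s y ≠ y := by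
  by_contra h
  push Not at h
  obtain ⟨y, hy0, hy1⟩ := exists_ne_zero_one s hnt
  have h1 := hs y
  rw [h, h] at h1
  have h2 : y * (y - 1) = 0 := by linear_combination (-1 : F) * h1
  rcases mul_eq_zero.1 h2 with h3 | h3
  · exact hy0 h3
  · exact hy1 (sub_eq_zero.1 h3)

include hs in
lemma exists_comm_val (hnt : ∃ y : F, s y ≠ y ^ 2) (c : F) :
    ∃ a a' : F, s a * a' + a * s a' = c := by
  have h2 : (2 : F) = 0 := CharTwo.two_eq_zero
  by_cases hc : c = 0
  · exact ⟨0, 0, by simp [hc]⟩
  obtain ⟨y, hy⟩ := exists_s_ne s hs hnt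
  have hv : y + s y ≠ 0 := by
    intro h
    apply hy
    linear_combination h - y * h2
  obtain ⟨t, ht0, ht⟩ := exists_mul_s_eq s hs (div_ne_zero hc hv)
  refine ⟨t, t * y, ?_⟩
  rw [map_mul]
  have : t * s t * (y + s y) = c := by rw [ht]; field_simp
  linear_combination this

end algebra

section sylow
variable {F : Type*} [Field F] [CharP F 2] [Finite F] (s : F →+* F)
  (hs : ∀ x, s (s x) = x ^ 2)

/-- the unipotent subgroup `{T a b}`. -/
def Qs : Subgroup (G s) where
  carrier := {g | ∃ a b, g = Tg s hs a b}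
  mul_mem' := by
    rintro _ _ ⟨a, b, rfl⟩ ⟨a', b', rfl⟩
    exact ⟨_, _, Tg_mul s hs a b a' b'⟩
  one_mem' := ⟨0, 0, (Tg_zero s hs).symm⟩
  inv_mem' := by
    rintro _ ⟨a, b, rfl⟩
    exact ⟨_, _, Tg_inv s hs a b⟩

lemma Tg_inj {a b a' b' : F} (h : Tg s hs a b = Tg s hs a' b') : a = a' ∧ b = b' := by
  have := congrArg (fun g : G s => g • opt s 0 0) h
  simp only [Tg_smul_opt00] at this
  exact opt_inj s this

/-- elements of the unipotent subgroup -/
def qT (a b : F) : Qs s hs := ⟨Tg s hs a b, a, b, rfl⟩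

lemma qT_surj (g : Qs s hs) : ∃ a b, g = qT s hs a b := by
  obtain ⟨g, a, b, rfl⟩ := g
  exact ⟨a, b, rfl⟩

lemma qT_inj {a b a' b' : F} (h : qT s hs a b = qT s hs a' b') : a = a' ∧ b = b' :=
  Tg_inj s hs (congrArg Subtype.val h)

lemma qT_mul (a b a' b' : F) :
    qT s hs a b * qT s hs a' b' = qT s hs (a + a') (b + b' + s a * a') :=
  Subtype.ext (Tg_mul s hs a b a' b')

lemma qT_zero : qT s hs 0 0 = 1 := Subtype.ext (Tg_zero s hs)

lemma qT_eq_one_iff {a b : F} : qT s hs a b = 1 ↔ a = 0 ∧ b = 0 := by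
  rw [← qT_zero s hs]
  constructor
  · exact qT_inj s hs
  · rintro ⟨rfl, rfl⟩; rfl

lemma card_Qs : Nat.card (Qs s hs) = Nat.card F ^ 2 := by
  have hbij : Function.Bijective (fun ab : F × F => qT s hs ab.1 ab.2) := by
    constructor
    · rintro ⟨a, b⟩ ⟨a', b'⟩ h
      obtain ⟨h1, h2⟩ := qT_inj s hs h
      simp only at h1 h2
      rw [h1, h2]
    · intro g
      obtain ⟨a, b, rfl⟩ := qT_surj s hs g
      exact ⟨(a, b), rfl⟩
  rw [← Nat.card_congr (Equiv.ofBijective _ hbij), Nat.card_prod, sq]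

lemma qT_sq (a b : F) : qT s hs a b ^ 2 = qT s hs 0 (s a * a) := by
  have h2 : (2 : F) = 0 := CharTwo.two_eq_zero
  rw [sq, qT_mul]
  congr 1
  · linear_combination a * h2
  · linear_combination b * h2

lemma qT_pow_four (a b : F) : qT s hs a b ^ 4 = 1 := by
  have h2 : (2 : F) = 0 := CharTwo.two_eq_zero
  have : qT s hs a b ^ 4 = (qT s hs a b ^ 2) ^ 2 := by rw [← pow_mul]
  rw [this, qT_sq, qT_sq, ← qT_zero s hs]
  congr 1
  simp

theorem exponent_Qs : Monoid.exponent (Qs s hs) = 4 := by
  apply Nat.dvd_antisymm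
  · rw [Monoid.exponent_dvd_iff_forall_pow_eq_one]
    intro g
    obtain ⟨a, b, rfl⟩ := qT_surj s hs g
    exact qT_pow_four s hs a b
  · have h4 : orderOf (qT s hs 1 0) = 2 ^ (1 + 1) := by
      haveI : Fact (Nat.Prime 2) := ⟨Nat.prime_two⟩
      apply orderOf_eq_prime_pow
      · rw [pow_one, qT_sq, qT_eq_one_iff]
        simp
      · exact qT_pow_four s hs 1 0
    have := Monoid.order_dvd_exponent (qT s hs 1 0)
    rw [h4] at this
    exact this

include hs in
lemma mem_center_Qs_iff (hnt : ∃ y : F, s y ≠ y ^ 2) (z : Qs s hs) :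
    z ∈ Subgroup.center (Qs s hs) ↔ ∃ c, z = qT s hs 0 c := by
  rw [Subgroup.mem_center_iff]
  constructor
  · intro h
    obtain ⟨a, b, rfl⟩ := qT_surj s hs z
    have key : ∀ a' : F, s a' * a = s a * a' := by
      intro a'
      have := h (qT s hs a' 0)
      rw [qT_mul, qT_mul] at this
      have := (qT_inj s hs this).2
      linear_combination this
    by_cases ha : a = 0
    · exact ⟨b, by rw [ha]⟩
    · exfalso
      obtain ⟨y, hy⟩ := exists_s_ne s hs hnt
      have h1 := key 1
      rw [map_one, one_mul, mul_one] at h1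
      have h2 := key y
      rw [← h1] at h2
      apply hy
      have : (s y - y) * a = 0 := by linear_combination h2
      rcases mul_eq_zero.1 this with h' | h'
      · exact sub_eq_zero.1 h'
      · exact absurd h' ha
  · rintro ⟨c, rfl⟩ g
    obtain ⟨a, b, rfl⟩ := qT_surj s hs g
    rw [qT_mul, qT_mul]
    congr 1
    · ring
    · simp; ring

lemma comm_qT (a b a' b' : F) :
    ⁅qT s hs a b, qT s hs a' b'⁆ = qT s hs 0 (s a * a' + a * s a') := by
  have h2 : (2 : F) = 0 := CharTwo.two_eq_zero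
  rw [commutatorElement_def]
  have e1 : qT s hs a b * qT s hs a' b' =
      qT s hs 0 (s a * a' + a * s a') * (qT s hs a' b' * qT s hs a b) := by
    rw [qT_mul, qT_mul, qT_mul]
    congr 1
    · ring
    · simp; linear_combination (-(a * s a')) * h2
  rw [e1]
  group

include hs in
lemma mem_commutator_Qs_iff (hnt : ∃ y : F, s y ≠ y ^ 2) (z : Qs s hs) :
    z ∈ commutator (Qs s hs) ↔ ∃ c, z = qT s hs 0 c := by
  constructor
  · intro h
    have hle : commutator (Qs s hs) ≤ Subgroup.center (Qs s hs) := by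
      rw [commutator_def, Subgroup.commutator_le]
      intro g _ g' _
      obtain ⟨a, b, rfl⟩ := qT_surj s hs g
      obtain ⟨a', b', rfl⟩ := qT_surj s hs g'
      rw [comm_qT, mem_center_Qs_iff s hs hnt]
      exact ⟨_, rfl⟩
    exact (mem_center_Qs_iff s hs hnt z).1 (hle h)
  · rintro ⟨c, rfl⟩
    obtain ⟨a, a', h⟩ := exists_comm_val s hs hnt c
    rw [← h, ← comm_qT s hs a 0 a' 0, commutator_def]
    exact Subgroup.commutator_mem_commutator (Subgroup.mem_top _) (Subgroup.mem_top _)

include hs in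
theorem center_eq_commutator_Qs (hnt : ∃ y : F, s y ≠ y ^ 2) :
    Subgroup.center (Qs s hs) = commutator (Qs s hs) := by
  ext z
  rw [mem_center_Qs_iff s hs hnt, mem_commutator_Qs_iff s hs hnt]

include hs in
theorem card_center_Qs (hnt : ∃ y : F, s y ≠ y ^ 2) :
    Nat.card (Subgroup.center (Qs s hs)) = Nat.card F := by
  let φ : F → Subgroup.center (Qs s hs) := fun c =>
    ⟨qT s hs 0 c, (mem_center_Qs_iff s hs hnt _).2 ⟨c, rfl⟩⟩
  have hbij : Function.Bijective φ := by
    constructor
    · intro c c' h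
      have := congrArg Subtype.val h
      exact (qT_inj s hs this).2
    · rintro ⟨z, hz⟩
      obtain ⟨c, rfl⟩ := (mem_center_Qs_iff s hs hnt z).1 hz
      exact ⟨c, rfl⟩
  rw [← Nat.card_congr (Equiv.ofBijective φ hbij)]

include hs in
lemma not_two_dvd_index_Qs (hnt : ∃ y : F, s y ≠ y ^ 2) {k : ℕ} (hk : Nat.card F = 2 ^ k) :
    ¬ 2 ∣ (Qs s hs).index := by
  have hcard := card_G s hs hnt
  have hQ := card_Qs s hs
  have hmul := Subgroup.card_mul_index (Qs s hs)
  rw [hQ, hcard] at hmul
  have hk1 : 1 ≤ k := by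
    by_contra h
    have hk0 : k = 0 := by omega
    rw [hk0, pow_zero] at hk
    have := Finite.one_lt_card (α := F)
    omega
  set q := Nat.card F with hq
  have hq2 : 2 ≤ q := by
    rw [hk]; calc 2 = 2 ^ 1 := by norm_num
      _ ≤ 2 ^ k := Nat.pow_le_pow_right (by norm_num) hk1
  have hqpos : 0 < q ^ 2 := by positivity
  have hidx : (Qs s hs).index = (q ^ 2 + 1) * (q - 1) := by
    apply Nat.eq_of_mul_eq_mul_left hqpos
    rw [hmul]; ring
  rw [hidx]
  have heven : Even q := by
    rw [hk]; exact (Nat.even_pow.2 ⟨even_two, by omega⟩)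
  have ho1 : Odd (q ^ 2 + 1) := Even.add_one (Nat.even_pow.2 ⟨heven, by norm_num⟩)
  have ho2 : Odd (q - 1) := Nat.Even.sub_odd (by omega) heven odd_one
  have := ho1.mul ho2
  rw [← Nat.not_even_iff_odd, even_iff_two_dvd] at this
  exact this

/-- the standard Sylow 2-subgroup. -/
noncomputable def Q0 (hnt : ∃ y : F, s y ≠ y ^ 2) {k : ℕ} (hk : Nat.card F = 2 ^ k) :
    Sylow 2 (G s) :=
  haveI : Fact (Nat.Prime 2) := ⟨Nat.prime_two⟩
  (IsPGroup.of_card (n := 2 * k) (by rw [card_Qs, hk, ← pow_mul, mul_comm])).toSylow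
    (not_two_dvd_index_Qs s hs hnt hk)

include hs in
theorem sylow_two_structure (hnt : ∃ y : F, s y ≠ y ^ 2) {k : ℕ} (hk : Nat.card F = 2 ^ k)
    (P : Sylow 2 (G s)) :
    Nat.card P = Nat.card F ^ 2 ∧ Monoid.exponent P = 4 ∧
      Subgroup.center P = commutator P ∧ Nat.card (Subgroup.center P) = Nat.card F := by
  have : Fact (Nat.Prime 2) := ⟨Nat.prime_two⟩
  let e : Qs s hs ≃* P := Sylow.equiv (Q0 s hs hnt hk) P
  refine ⟨?_, ?_, ?_, ?_⟩
  · rw [← Nat.card_congr e.toEquiv, card_Qs]
  · rw [← Monoid.exponent_eq_of_mulEquiv e, exponent_Qs]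
  · exact center_eq_commutator_of_mulEquiv e (center_eq_commutator_Qs s hs hnt)
  · rw [← card_center_of_mulEquiv e, card_center_Qs s hs hnt]

end sylow

end Cfsg.Agent.Lib.Helper6.Sz
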