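import Cfsg.Agent.Lib.Helper6.SzStab

set_option autoImplicit false

/-! # Points of the ovoid, decomposition of the group and its order -/

namespace Cfsg.Agent.Lib.Helper6.Sz

open Matrix
open scoped Pointwise

section pts
variable {F : Type*} [Field F] (s : F →+* F)

/-- the point at infinity -/
def pinf : Projectivization F (Fin 4 → F) := Projectivization.mk F e0 e0_ne_zero

/-- the affine points of the ovoid -/
def pt (x y : F) : Projectivization F (Fin 4 → F) :=
  Projectivization.mk F (Pv s x y) (Pv_ne_zero s x y)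

lemma pinf_mem : (pinf : Projectivization F (Fin 4 → F)) ∈ Ov s :=
  (mk_mem_Ov_iff s _).2 onO_e0

lemma pt_mem (x y : F) : pt s x y ∈ Ov s := (mk_mem_Ov_iff s _).2 (onO_Pv x y)

lemma pt_ne_pinf (x y : F) : pt s x y ≠ pinf := by
  intro h
  rw [pt, pinf, Projectivization.mk_eq_mk_iff'] at h
  obtain ⟨a, ha⟩ := h
  have := congr_fun ha 3
  simp at this

lemma pt_inj {x y x' y' : F} (h : pt s x y = pt s x' y') : x = x' ∧ y = y' := by
  rw [pt, pt, Projectivization.mk_eq_mk_iff'] at h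
  obtain ⟨a, ha⟩ := h
  have h3 := congr_fun ha 3
  have h2 := congr_fun ha 2
  have h1 := congr_fun ha 1
  simp at h1 h2 h3
  rw [h3, one_mul] at h1 h2
  exact ⟨h2.symm, h1.symm⟩

variable {s} in
lemma mem_Ov_cases {p : Projectivization F (Fin 4 → F)} (hp : p ∈ Ov s) :
    p = pinf ∨ ∃ x y, p = pt s x y := by
  obtain ⟨v, hv, rfl, h | ⟨x, y, h⟩⟩ := hp
  · left; subst h; rfl
  · right; subst h; exact ⟨x, y, rfl⟩

lemma Ov_eq : Ov s = insert pinf (Set.range fun xy : F × F => pt s xy.1 xy.2) := by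
  ext p
  constructor
  · intro hp
    rcases mem_Ov_cases hp with h | ⟨x, y, h⟩
    · rw [h]; exact Set.mem_insert _ _
    · rw [h]; exact Set.mem_insert_of_mem _ ⟨(x, y), rfl⟩
  · rintro (h | ⟨⟨x, y⟩, h⟩)
    · rw [h]; exact pinf_mem s
    · rw [← h]; exact pt_mem s x y

lemma ncard_Ov [Finite F] : (Ov s).ncard = Nat.card F ^ 2 + 1 := by
  rw [Ov_eq, Set.ncard_insert_of_notMem, ← Nat.card_coe_set_eq, Nat.card_range_of_injective,
    Nat.card_prod, sq]
  · rintro ⟨x, y⟩ ⟨x', y'⟩ h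
    obtain ⟨h1, h2⟩ := pt_inj s h
    simp only at h1 h2
    rw [h1, h2]
  · rintro ⟨⟨x, y⟩, h⟩
    exact pt_ne_pinf s x y h

lemma smul_mk_eq (g : Matrix.SpecialLinearGroup (Fin 4) F) {v w : Fin 4 → F} (hv : v ≠ 0)
    (hw : w ≠ 0) {c : F} (h : g.1 *ᵥ v = c • w) :
    g • Projectivization.mk F v hv = Projectivization.mk F w hw := by
  have e := Projectivization.smul_mk (K := F) g hv
  rw [e, Projectivization.mk_eq_mk_iff']
  exact ⟨c, h.symm⟩

lemma smul_mk_eq_iff (g : Matrix.SpecialLinearGroup (Fin 4) F) {v w : Fin 4 → F} (hv : v ≠ 0)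
    (hw : w ≠ 0) :
    g • Projectivization.mk F v hv = Projectivization.mk F w hw ↔ ∃ c : F, g.1 *ᵥ v = c • w := by
  constructor
  · intro h
    have e := Projectivization.smul_mk (K := F) g hv
    rw [e, Projectivization.mk_eq_mk_iff'] at h
    obtain ⟨c, hc⟩ := h
    exact ⟨c, hc.symm⟩
  · rintro ⟨c, hc⟩
    exact smul_mk_eq g hv hw hc

end pts

section grp
variable {F : Type*} [Field F] [CharP F 2] (s : F →+* F) (hs : ∀ x, s (s x) = x ^ 2)

lemma T_smul_pinf (a b : F) : T s a b • (pinf : Projectivization F (Fin 4 → F)) = pinf :=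
  smul_mk_eq _ _ _ (c := 1) (by rw [one_smul]; exact Tm_e0 s a b)

include hs in
lemma T_smul_pt (a b x y : F) : T s a b • pt s x y = pt s (x + a) (y + b + s a * x) :=
  smul_mk_eq _ _ _ (c := 1) (by rw [one_smul]; exact Tm_Pv s hs a b x y)

lemma D_smul_pinf (t : Fˣ) : D s t • (pinf : Projectivization F (Fin 4 → F)) = pinf :=
  smul_mk_eq _ _ _ (Dm_e0 s t)

include hs in
lemma D_smul_pt (t : Fˣ) (x y : F) :
    D s t • pt s x y = pt s (s t * x) ((t : F) ^ 2 * s t * y) :=
  smul_mk_eq _ _ _ (Dm_Pv s hs t.ne_zero x y)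

include hs in
lemma D_smul_pt00 (t : Fˣ) : D s t • pt s 0 0 = pt s 0 0 := by
  rw [D_smul_pt s hs]; simp

lemma W_smul_pinf : (W : Matrix.SpecialLinearGroup (Fin 4) F) • pinf = pt s 0 0 :=
  smul_mk_eq _ _ _ (c := 1) (by rw [one_smul]; exact Wm_e0 s)

lemma W_smul_pt00 : (W : Matrix.SpecialLinearGroup (Fin 4) F) • pt s 0 0 = pinf :=
  smul_mk_eq _ _ _ (c := 1) (by rw [one_smul]; exact Wm_Pv00 s)

include hs in
lemma T_smul_pt00 (a b : F) : T s a b • pt s 0 0 = pt s a b := by
  rw [T_smul_pt s hs]; simp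

variable [Finite F]

lemma smul_mem_Ov {g : Matrix.SpecialLinearGroup (Fin 4) F} (hg : g ∈ G s)
    {p : Projectivization F (Fin 4 → F)} (hp : p ∈ Ov s) : g • p ∈ Ov s := by
  have h2 : g • p ∈ g • Ov s := Set.smul_mem_smul_set hp
  rwa [MulAction.mem_stabilizer_iff.1 hg] at h2

include hs in
/-- elements of the group fixing `∞` have the form `T a b * D t`. -/
theorem exists_T_D (hnt : ∃ y : F, s y ≠ y ^ 2) {g : Matrix.SpecialLinearGroup (Fin 4) F}
    (hg : g ∈ G s) (hfix : g • (pinf : Projectivization F (Fin 4 → F)) = pinf) :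
    ∃ a b t, g = T s a b * D s t := by
  have h1 : g • pt s 0 0 ∈ Ov s := smul_mem_Ov s hg (pt_mem s 0 0)
  rcases mem_Ov_cases h1 with h | ⟨a, b, h⟩
  · exfalso
    rw [← hfix] at h
    exact pt_ne_pinf s 0 0 (MulAction.injective g h)
  · have hT := T_mem s hs a b
    have hg' : (T s a b)⁻¹ * g ∈ G s := (G s).mul_mem ((G s).inv_mem hT) hg
    have f1 : ((T s a b)⁻¹ * g) • (pinf : Projectivization F (Fin 4 → F)) = pinf := by
      rw [mul_smul, hfix, inv_smul_eq_iff, T_smul_pinf]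
    have f2 : ((T s a b)⁻¹ * g) • pt s 0 0 = pt s 0 0 := by
      rw [mul_smul, h, inv_smul_eq_iff, T_smul_pt00 s hs]
    obtain ⟨α, hα⟩ := (smul_mk_eq_iff _ _ _).1 f1
    obtain ⟨δ, hδ⟩ := (smul_mk_eq_iff _ _ _).1 f2
    obtain ⟨t, ht⟩ := two_point_stab s hs hnt hg' hα hδ
    exact ⟨a, b, t, by rw [← ht]; group⟩

include hs in
/-- Bruhat decomposition of the group of the ovoid. -/
theorem exists_decomp (hnt : ∃ y : F, s y ≠ y ^ 2) {g : Matrix.SpecialLinearGroup (Fin 4) F}
    (hg : g ∈ G s) :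
    (∃ a b t, g = T s a b * D s t) ∨ ∃ a b a' b' t, g = T s a b * W * (T s a' b' * D s t) := by
  have h1 : g • (pinf : Projectivization F (Fin 4 → F)) ∈ Ov s := smul_mem_Ov s hg (pinf_mem s)
  rcases mem_Ov_cases h1 with h | ⟨a, b, h⟩
  · exact Or.inl (exists_T_D s hs hnt hg h)
  · right
    have hTW : T s a b * W ∈ G s := (G s).mul_mem (T_mem s hs a b) (W_mem s hs)
    have hg' : (T s a b * W)⁻¹ * g ∈ G s := (G s).mul_mem ((G s).inv_mem hTW) hg
    have f1 : ((T s a b * W)⁻¹ * g) • (pinf : Projectivization F (Fin 4 → F)) = pinf := by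
      rw [mul_smul, h, inv_smul_eq_iff, mul_smul, W_smul_pinf s, T_smul_pt00 s hs]
    obtain ⟨a', b', t, ht⟩ := exists_T_D s hs hnt hg' f1
    exact ⟨a, b, a', b', t, by rw [← ht]; group⟩

include hs in
lemma orbit_pinf : MulAction.orbit (G s) (pinf : Projectivization F (Fin 4 → F)) = Ov s := by
  ext p
  constructor
  · rintro ⟨g, rfl⟩
    exact smul_mem_Ov s g.2 (pinf_mem s)
  · intro hp
    rcases mem_Ov_cases hp with h | ⟨a, b, h⟩
    · rw [h]; exact MulAction.mem_orbit_self _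
    · refine ⟨⟨T s a b * W, (G s).mul_mem (T_mem s hs a b) (W_mem s hs)⟩, ?_⟩
      show (T s a b * W) • (pinf : Projectivization F (Fin 4 → F)) = p
      rw [h, mul_smul, W_smul_pinf s, T_smul_pt00 s hs]

lemma D_injective : Function.Injective (D s : Fˣ → Matrix.SpecialLinearGroup (Fin 4) F) := by
  intro t t' h
  have := congr_arg (fun g : Matrix.SpecialLinearGroup (Fin 4) F => g.1 1 1) h
  simp [D, Dm] at this
  exact Units.ext this

include hs in
theorem card_stab_pinf (hnt : ∃ y : F, s y ≠ y ^ 2) :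
    Nat.card (MulAction.stabilizer (G s) (pinf : Projectivization F (Fin 4 → F))) =
      Nat.card F ^ 2 * (Nat.card F - 1) := by
  let φ : F × F × Fˣ → MulAction.stabilizer (G s) (pinf : Projectivization F (Fin 4 → F)) :=
    fun x => ⟨⟨T s x.1 x.2.1 * D s x.2.2,
      (G s).mul_mem (T_mem s hs _ _) (D_mem s hs _)⟩, by
        rw [MulAction.mem_stabilizer_iff]
        show (T s x.1 x.2.1 * D s x.2.2) • (pinf : Projectivization F (Fin 4 → F)) = pinf
        rw [mul_smul, D_smul_pinf, T_smul_pinf]⟩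
  have hinj : Function.Injective φ := by
    rintro ⟨a, b, t⟩ ⟨a', b', t'⟩ h
    have h1 : T s a b * D s t = T s a' b' * D s t' := by
      have := congr_arg (fun g : MulAction.stabilizer (G s)
        (pinf : Projectivization F (Fin 4 → F)) =>
          (g.1.1 : Matrix.SpecialLinearGroup (Fin 4) F)) h
      exact this
    have h2 := congr_arg (fun g : Matrix.SpecialLinearGroup (Fin 4) F => g • pt s 0 0) h1
    simp only [mul_smul, D_smul_pt00 s hs, T_smul_pt00 s hs] at h2
    obtain ⟨ha, hb⟩ := pt_inj s h2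
    subst ha hb
    have h3 : D s t = D s t' := mul_left_cancel h1
    rw [D_injective s h3]
  have hsurj : Function.Surjective φ := by
    rintro ⟨⟨g, hg⟩, hfix⟩
    rw [MulAction.mem_stabilizer_iff] at hfix
    have hfix' : g • (pinf : Projectivization F (Fin 4 → F)) = pinf := hfix
    obtain ⟨a, b, t, h⟩ := exists_T_D s hs hnt hg hfix'
    refine ⟨(a, b, t), ?_⟩
    apply Subtype.ext
    apply Subtype.ext
    exact h.symm
  rw [← Nat.card_congr (Equiv.ofBijective φ ⟨hinj, hsurj⟩), Nat.card_prod, Nat.card_prod,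
    Nat.card_units, sq, mul_assoc]

include hs in
theorem card_G (hnt : ∃ y : F, s y ≠ y ^ 2) :
    Nat.card (G s) = (Nat.card F ^ 2 + 1) * (Nat.card F ^ 2 * (Nat.card F - 1)) := by
  rw [← Subgroup.index_mul_card (MulAction.stabilizer (G s)
    (pinf : Projectivization F (Fin 4 → F))), MulAction.index_stabilizer, orbit_pinf s hs,
    ncard_Ov, card_stab_pinf s hs hnt]

end grp

end Cfsg.Agent.Lib.Helper6.Sz
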