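import Cfsg.Prelude.Def_LieExceptional
import Cfsg.Agent.Lib.Helper6.SzCount

set_option autoImplicit false

/-! # Bridging the abstract ovoid theory to `Cfsg.suzukiOvoid` / `Cfsg.Sz` -/

namespace Cfsg.Agent.Lib.Helper6.Sz

open Matrix
open scoped Pointwise

section bridge
variable {F : Type*} [Field F]

lemma charP_two [Fintype F] {m : ℕ} (hF : Fintype.card F = 2 ^ (2 * m + 1)) : CharP F 2 := by
  haveI : Fact (Nat.Prime 2) := ⟨Nat.prime_two⟩
  exact charP_of_card_eq_prime_pow hF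

/-- the Tits endomorphism `x ↦ x^(2^(m+1))`. -/
noncomputable def sig (F : Type*) [Field F] [CharP F 2] (m : ℕ) : F →+* F :=
  iterateFrobenius F 2 (m + 1)

lemma sig_apply [CharP F 2] (m : ℕ) (x : F) : sig F m x = x ^ 2 ^ (m + 1) := rfl

lemma sig_sig [CharP F 2] [Fintype F] {m : ℕ} (hF : Fintype.card F = 2 ^ (2 * m + 1)) (x : F) :
    sig F m (sig F m x) = x ^ 2 := by
  rw [sig_apply, sig_apply, ← pow_mul]
  have e : 2 ^ (m + 1) * 2 ^ (m + 1) = 2 ^ (2 * m + 1) * 2 := by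
    rw [← pow_add, ← pow_succ]; congr 1; omega
  rw [e, pow_mul, ← hF, FiniteField.pow_card]

lemma sig_nt [CharP F 2] [Fintype F] {m : ℕ} (hm : 1 ≤ m)
    (hF : Fintype.card F = 2 ^ (2 * m + 1)) : ∃ y : F, sig F m y ≠ y ^ 2 := by
  by_contra hcon
  push_neg at hcon
  have h2 : (2 : F) = 0 := CharTwo.two_eq_zero
  have h01 : ∀ y : F, y = 0 ∨ y = 1 := by
    intro y
    have h1 := sig_sig hF y
    rw [hcon, hcon] at h1
    have h3 : y ^ 2 * (y - 1) ^ 2 = 0 := by
      linear_combination h1 + (y ^ 2 - y ^ 3) * h2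
    rcases mul_eq_zero.1 h3 with h | h
    · left; exact pow_eq_zero_iff (two_ne_zero) |>.1 h
    · right; exact sub_eq_zero.1 (pow_eq_zero_iff (two_ne_zero) |>.1 h)
  have hcard : 2 < Fintype.card F := by
    rw [hF]
    calc 2 < 2 ^ 3 := by norm_num
      _ ≤ 2 ^ (2 * m + 1) := Nat.pow_le_pow_right (by norm_num) (by omega)
  obtain ⟨a, b, c, hab, hac, hbc⟩ := Fintype.two_lt_card_iff.1 hcard
  rcases h01 a with ha | ha <;> rcases h01 b with hb | hb <;> rcases h01 c with hc | hc <;>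
    simp_all

lemma ovoid_eq [CharP F 2] (m : ℕ) : Cfsg.suzukiOvoid F m = Ov (sig F m) := by
  ext p
  constructor
  · rintro ⟨v, hv, rfl, h⟩
    refine ⟨v, hv, rfl, ?_⟩
    rcases h with h | ⟨x, y, h⟩
    · left; exact h
    · right
      refine ⟨x, y, ?_⟩
      rw [h]
      simp [Pv, ff, sig_apply, pow_add]
  · rintro ⟨v, hv, rfl, h⟩
    refine ⟨v, hv, rfl, ?_⟩
    rcases h with h | ⟨x, y, h⟩
    · left; exact h
    · right
      refine ⟨x, y, ?_⟩
      rw [h]
      simp [Pv, ff, sig_apply, pow_add]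

lemma pinf_eq : (pinf : Projectivization F (Fin 4 → F)) = Cfsg.suzukiPointInfinity F := rfl

lemma pt00_eq (s : F →+* F) : pt s 0 0 = Cfsg.suzukiPointZero F := by
  unfold pt Cfsg.suzukiPointZero
  congr 1
  simp [Pv, ff]

lemma form_eq : (Wm : Matrix (Fin 4) (Fin 4) F) = Cfsg.suzukiForm F := rfl

end bridge

end Cfsg.Agent.Lib.Helper6.Sz
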