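import Cfsg.Agent.Lib.Helper6.SzCount

set_option autoImplicit false

/-! # The two-point stabilizer is the torus; the group preserves the symplectic form -/

namespace Cfsg.Agent.Lib.Helper6.Sz

open Matrix
open scoped Pointwise

section form
variable {F : Type*} [Field F] [CharP F 2] (s : F →+* F) (hs : ∀ x, s (s x) = x ^ 2)

lemma form_Tm (a b : F) : (Tm s a b)ᵀ * Wm * Tm s a b = Wm := by
  have h2 : (2 : F) = 0 := CharTwo.two_eq_zero
  ext i j
  fin_cases i <;> fin_cases j <;>
    simp [Tm, Wm, Matrix.mul_apply, Fin.sum_univ_four, CharTwo.add_self_eq_zero]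
  · linear_combination (b + a * s a) * h2
  · linear_combination (b + a * s a) * h2
  · linear_combination (ff s a b + a * b) * h2

lemma form_Dm {t : F} (ht : t ≠ 0) : (Dm s t)ᵀ * Wm * Dm s t = Wm := by
  have hst : s t ≠ 0 := by simpa using ht
  ext i j
  fin_cases i <;> fin_cases j <;>
    simp [Dm, Wm, Matrix.mul_apply, Fin.sum_univ_four, ht] <;> field_simp

lemma form_Wm : (Wm : Matrix (Fin 4) (Fin 4) F)ᵀ * Wm * Wm = Wm := by
  ext i j
  fin_cases i <;> fin_cases j <;>
    simp [Wm, Matrix.mul_apply, Fin.sum_univ_four]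

lemma form_mul {A B : Matrix (Fin 4) (Fin 4) F} (hA : Aᵀ * Wm * A = Wm) (hB : Bᵀ * Wm * B = Wm) :
    (A * B)ᵀ * Wm * (A * B) = Wm := by
  rw [Matrix.transpose_mul]
  calc Bᵀ * Aᵀ * Wm * (A * B) = Bᵀ * (Aᵀ * Wm * A) * B := by
        simp only [Matrix.mul_assoc]
    _ = Wm := by rw [hA, hB]

end form

section main
variable {F : Type*} [Field F] [CharP F 2] [Finite F] (s : F →+* F)
  (hs : ∀ x, s (s x) = x ^ 2)

include hs in
/-- every element of the group of the ovoid preserves the symplectic form. -/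
theorem preserves_form (hnt : ∃ y : F, s y ≠ y ^ 2) {g : Matrix.SpecialLinearGroup (Fin 4) F}
    (hg : g ∈ G s) : (g.1)ᵀ * Wm * g.1 = Wm := by
  have hT : ∀ a b, ((T s a b).1)ᵀ * Wm * (T s a b).1 = Wm := fun a b => form_Tm s a b
  have hD : ∀ t : Fˣ, ((D s t).1)ᵀ * Wm * (D s t).1 = Wm := fun t => form_Dm s t.ne_zero
  have hW : ((W : Matrix.SpecialLinearGroup (Fin 4) F).1)ᵀ * Wm *
      (W : Matrix.SpecialLinearGroup (Fin 4) F).1 = Wm := form_Wm
  rcases exists_decomp s hs hnt hg with ⟨a, b, t, rfl⟩ | ⟨a, b, a', b', t, rfl⟩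
  · rw [Matrix.SpecialLinearGroup.coe_mul]; exact form_mul (hT a b) (hD t)
  · simp only [Matrix.SpecialLinearGroup.coe_mul]
    exact form_mul (form_mul (hT a b) hW) (form_mul (hT a' b') (hD t))

omit [CharP F 2] [Finite F] in
lemma D_one : D s 1 = 1 := by
  apply Subtype.ext
  simp [D, Dm_one]

omit [CharP F 2] [Finite F] in
lemma D_mul (t t' : Fˣ) : D s (t * t') = D s t * D s t' := by
  apply Subtype.ext
  show Dm s ((t * t' : Fˣ) : F) = Dm s (t : F) * Dm s (t' : F)
  rw [Units.val_mul, Dm_mul]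

/-- the torus as a homomorphism onto the two-point stabilizer. -/
noncomputable def torusHom : Fˣ →* ↥(MulAction.stabilizer (G s)
    (pinf : Projectivization F (Fin 4 → F)) ⊓ MulAction.stabilizer (G s) (pt s 0 0)) where
  toFun t := ⟨⟨D s t, D_mem s hs t⟩,
    ⟨by change D s t • (pinf : Projectivization F (Fin 4 → F)) = pinf; exact D_smul_pinf s t,
     by change D s t • pt s 0 0 = pt s 0 0; exact D_smul_pt00 s hs t⟩⟩
  map_one' := by
    apply Subtype.ext; apply Subtype.ext
    exact D_one s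
  map_mul' t t' := by
    apply Subtype.ext; apply Subtype.ext
    exact D_mul s t t'

theorem torusHom_bijective (hnt : ∃ y : F, s y ≠ y ^ 2) :
    Function.Bijective (torusHom s hs) := by
  constructor
  · intro t t' h
    have := congr_arg (fun g : ↥(MulAction.stabilizer (G s)
      (pinf : Projectivization F (Fin 4 → F)) ⊓ MulAction.stabilizer (G s) (pt s 0 0)) =>
        (g.1.1 : Matrix.SpecialLinearGroup (Fin 4) F)) h
    exact D_injective s this
  · rintro ⟨⟨g, hg⟩, h1, h2⟩
    have h1' : g • (pinf : Projectivization F (Fin 4 → F)) = pinf := h1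
    have h2' : g • pt s 0 0 = pt s 0 0 := h2
    obtain ⟨α, hα⟩ := (smul_mk_eq_iff _ _ _).1 h1'
    obtain ⟨δ, hδ⟩ := (smul_mk_eq_iff _ _ _).1 h2'
    obtain ⟨t, ht⟩ := two_point_stab s hs hnt hg hα hδ
    refine ⟨t, ?_⟩
    apply Subtype.ext; apply Subtype.ext
    exact ht.symm

end main

end Cfsg.Agent.Lib.Helper6.Sz
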