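import Mathlib

set_option autoImplicit false

namespace Cfsg.Agent.Lib.Helper6.SuzA

open Polynomial

universe u

section fieldModel

variable {M : Type u} [AddCommGroup M] [Module (ZMod 2) M]
  (T : M →ₗ[ZMod 2] M) (a₀ : M)

/-- the annihilator ideal of `a₀` -/
noncomputable abbrev annI : Ideal (ZMod 2)[X] :=
  LinearMap.ker (LinearMap.toSpanSingleton (ZMod 2)[X] (Module.AEval' T) (Module.AEval'.of T a₀))

theorem span_surj (horb : ∀ a : M, a ≠ 0 → ∃ i : ℕ, (T ^ i) a₀ = a) :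
    Function.Surjective
      (LinearMap.toSpanSingleton (ZMod 2)[X] (Module.AEval' T) (Module.AEval'.of T a₀)) := by
  intro y
  obtain ⟨a, rfl⟩ := (Module.AEval'.of T).surjective y
  by_cases ha : a = 0
  · exact ⟨0, by simp [ha]⟩
  · obtain ⟨i, hi⟩ := horb a ha
    refine ⟨X ^ i, ?_⟩
    rw [LinearMap.toSpanSingleton_apply, Module.AEval'.X_pow_smul_of, ← hi]
    rfl

/-- the linear equivalence -/
noncomputable def modelEquiv (horb : ∀ a : M, a ≠ 0 → ∃ i : ℕ, (T ^ i) a₀ = a) :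
    ((ZMod 2)[X] ⧸ annI T a₀) ≃ₗ[(ZMod 2)[X]] Module.AEval' T :=
  LinearMap.quotKerEquivOfSurjective _ (span_surj T a₀ horb)

theorem modelEquiv_mk (horb : ∀ a : M, a ≠ 0 → ∃ i : ℕ, (T ^ i) a₀ = a) (p : (ZMod 2)[X]) :
    modelEquiv T a₀ horb (Ideal.Quotient.mk _ p) = p • Module.AEval'.of T a₀ := by
  rfl

theorem modelEquiv_X_pow (horb : ∀ a : M, a ≠ 0 → ∃ i : ℕ, (T ^ i) a₀ = a) (i : ℕ) :
    modelEquiv T a₀ horb (Ideal.Quotient.mk _ (X ^ i)) = Module.AEval'.of T ((T ^ i) a₀) := by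
  rw [modelEquiv_mk, Module.AEval'.X_pow_smul_of]
  rfl

theorem annI_isMaximal (horb : ∀ a : M, a ≠ 0 → ∃ i : ℕ, (T ^ i) a₀ = a) (ha₀ : a₀ ≠ 0)
    {m : ℕ} (hm : 0 < m) (hTm : (T ^ m) a₀ = a₀) : (annI T a₀).IsMaximal := by
  apply Ideal.Quotient.maximal_of_isField
  have h1 : modelEquiv T a₀ horb 1 = Module.AEval'.of T a₀ := by
    have := modelEquiv_X_pow T a₀ horb 0
    simpa using this
  have hXm : (Ideal.Quotient.mk (annI T a₀) X) ^ m = 1 := by
    apply (modelEquiv T a₀ horb).injective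
    rw [← map_pow, modelEquiv_X_pow, hTm, h1]
  refine ⟨⟨0, 1, ?_⟩, mul_comm, ?_⟩
  · intro h
    have := congrArg (modelEquiv T a₀ horb) h
    rw [h1, map_zero] at this
    exact ha₀ ((Module.AEval'.of T).injective (by rw [← this, map_zero]))
  · intro y hy
    obtain ⟨a, ha⟩ := (Module.AEval'.of T).surjective (modelEquiv T a₀ horb y)
    have ha0 : a ≠ 0 := by
      rintro rfl
      rw [map_zero] at ha
      exact hy ((modelEquiv T a₀ horb).injective (by rw [← ha, map_zero]))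
    obtain ⟨i, hi⟩ := horb a ha0
    have hy' : y = (Ideal.Quotient.mk (annI T a₀) X) ^ i := by
      apply (modelEquiv T a₀ horb).injective
      rw [← map_pow, modelEquiv_X_pow, hi, ha]
    refine ⟨(Ideal.Quotient.mk (annI T a₀) X) ^ (i * (m - 1)), ?_⟩
    rw [hy', ← pow_add]
    have : i + i * (m - 1) = m * i := by
      obtain ⟨m', rfl⟩ : ∃ m', m = m' + 1 := ⟨m - 1, by omega⟩
      simp; ring
    rw [this, pow_mul, hXm, one_pow]

theorem fieldModelAdd [Finite M] (horb : ∀ a : M, a ≠ 0 → ∃ i : ℕ, (T ^ i) a₀ = a) (ha₀ : a₀ ≠ 0)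
    {m : ℕ} (hm : 0 < m) (hTm : (T ^ m) a₀ = a₀)
    (F : Type) [Field F] [Fintype F] (hF : Fintype.card F = Nat.card M) :
    ∃ (j : F →+ M) (ν : F), Function.Bijective j ∧ j 1 = a₀ ∧ ∀ x, j (ν * x) = T (j x) := by
  haveI := annI_isMaximal T a₀ horb ha₀ hm hTm
  letI := Ideal.Quotient.field (annI T a₀)
  let e := modelEquiv T a₀ horb
  let o := Module.AEval'.of T
  haveI : Finite ((ZMod 2)[X] ⧸ annI T a₀) := Finite.of_injective (fun y => o.symm (e y))
    (fun y y' h => e.injective (o.symm.injective h))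
  letI : Fintype ((ZMod 2)[X] ⧸ annI T a₀) := Fintype.ofFinite _
  have hcard : Fintype.card ((ZMod 2)[X] ⧸ annI T a₀) = Fintype.card F := by
    rw [hF, ← Nat.card_eq_fintype_card]
    exact Nat.card_congr (e.toEquiv.trans o.symm.toEquiv)
  let κ : ((ZMod 2)[X] ⧸ annI T a₀) ≃+* F := FiniteField.ringEquivOfCardEq hcard
  have hadd : ∀ x y : F, o.symm (e (κ.symm (x + y))) = o.symm (e (κ.symm x)) + o.symm (e (κ.symm y)) := by
    intro x y
    rw [map_add, map_add, map_add]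
  refine ⟨AddMonoidHom.mk' (fun x => o.symm (e (κ.symm x))) hadd, κ (Ideal.Quotient.mk _ X), ?_, ?_, ?_⟩
  · exact (o.symm.bijective.comp e.bijective).comp κ.symm.bijective
  · rw [AddMonoidHom.mk'_apply, map_one]
    have h1 : e 1 = o a₀ := by
      have := modelEquiv_X_pow T a₀ horb 0
      simpa using this
    rw [h1]
    exact o.symm_apply_apply a₀
  · intro x
    rw [AddMonoidHom.mk'_apply]
    rw [map_mul, RingEquiv.symm_apply_apply]
    obtain ⟨p, hp⟩ := Ideal.Quotient.mk_surjective (κ.symm x)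
    rw [← hp, ← map_mul]
    have h2 : e (Ideal.Quotient.mk (annI T a₀) (X * p)) = (X : (ZMod 2)[X]) • e (Ideal.Quotient.mk (annI T a₀) p) := by
      rw [modelEquiv_mk, modelEquiv_mk, ← smul_eq_mul, smul_assoc]
    rw [h2]
    exact Module.AEval'.of_symm_X_smul T _

end fieldModel

theorem mul_comm_of_exp {A : Type u} [Group A] (hexp : ∀ a : A, a * a = 1) (a b : A) :
    a * b = b * a := by
  have h1 := hexp (a * b)
  have ha : a⁻¹ = a := inv_eq_of_mul_eq_one_right (hexp a)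
  have hb : b⁻¹ = b := inv_eq_of_mul_eq_one_right (hexp b)
  have h2 : (a * b)⁻¹ = a * b := inv_eq_of_mul_eq_one_right h1
  rw [mul_inv_rev, ha, hb] at h2
  exact h2.symm

theorem fieldModelComm {A : Type u} [CommGroup A] [Finite A] (hexp : ∀ a : A, a * a = 1)
    (T : A →* A) (a₀ : A) (ha₀ : a₀ ≠ 1) (horb : ∀ a : A, a ≠ 1 → ∃ i : ℕ, (T^[i]) a₀ = a)
    {m : ℕ} (hm : 0 < m) (hTm : (T^[m]) a₀ = a₀)
    (F : Type) [Field F] [Fintype F] (hF : Fintype.card F = Nat.card A) :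
    ∃ (j : F → A) (ν : F), Function.Bijective j ∧ (∀ x y, j (x + y) = j x * j y) ∧ j 1 = a₀ ∧
      ∀ x, j (ν * x) = T (j x) := by
  letI : Module (ZMod 2) (Additive A) := AddCommGroup.zmodModule (fun x => by
    rw [two_nsmul]; exact congrArg Additive.ofMul (hexp (Additive.toMul x)))
  let T' : Additive A →ₗ[ZMod 2] Additive A := (MonoidHom.toAdditive T).toZModLinearMap 2
  have hT' : ∀ (i : ℕ) (a : Additive A), (T' ^ i) a = Additive.ofMul ((T^[i]) (Additive.toMul a)) := by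
    intro i
    induction i with
    | zero => intro a; simp
    | succ n ih =>
      intro a
      rw [pow_succ', Module.End.mul_apply, ih, Function.iterate_succ_apply']
      rfl
  obtain ⟨j, ν, hj, hj1, hjν⟩ := fieldModelAdd T' (Additive.ofMul a₀)
    (fun a ha => by
      obtain ⟨i, hi⟩ := horb (Additive.toMul a) (fun h => ha (by rw [← ofMul_toMul a, h]; rfl))
      exact ⟨i, by rw [hT', toMul_ofMul, hi, ofMul_toMul]⟩)
    (fun h => ha₀ (Additive.ofMul.injective h)) hm (by rw [hT', toMul_ofMul, hTm]) F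
    (by rw [hF]; exact Nat.card_congr Additive.ofMul)
  refine ⟨fun x => Additive.toMul (j x), ν, Additive.toMul.bijective.comp hj, ?_, ?_, ?_⟩
  · intro x y
    show Additive.toMul (j (x + y)) = _
    rw [map_add]; rfl
  · show Additive.toMul (j 1) = _
    rw [hj1]; rfl
  · intro x
    show Additive.toMul (j (ν * x)) = _
    rw [hjν]; rfl

theorem fieldModel {A : Type u} [Group A] [Finite A] (hexp : ∀ a : A, a * a = 1)
    (T : A →* A) (a₀ : A) (ha₀ : a₀ ≠ 1) (horb : ∀ a : A, a ≠ 1 → ∃ i : ℕ, (T^[i]) a₀ = a)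
    {m : ℕ} (hm : 0 < m) (hTm : (T^[m]) a₀ = a₀)
    (F : Type) [Field F] [Fintype F] (hF : Fintype.card F = Nat.card A) :
    ∃ (j : F → A) (ν : F), Function.Bijective j ∧ (∀ x y, j (x + y) = j x * j y) ∧ j 1 = a₀ ∧
      ∀ x, j (ν * x) = T (j x) := by
  letI : CommGroup A := { (inferInstance : Group A) with mul_comm := mul_comm_of_exp hexp }
  exact fieldModelComm hexp T a₀ ha₀ horb hm hTm F hF

end Cfsg.Agent.Lib.Helper6.SuzA
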