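import Mathlib
import Cfsg.Prelude.Def_LieExceptional

set_option autoImplicit false

namespace Cfsg.Agent.Lib.Helper6

open Cfsg
open scoped Pointwise

variable {G : Type*} [Group G] (P : Cfsg.BNPair G)

/-- The double coset `B n B`. -/
def C (n : G) : Set G := DoubleCoset.doubleCoset n (P.B : Set G) P.B

lemma mem_C {n g : G} : g ∈ C P n ↔ ∃ x ∈ P.B, ∃ y ∈ P.B, g = x * n * y := by
  unfold C
  rw [DoubleCoset.mem_doubleCoset]
  rfl

lemma self_mem_C (n : G) : n ∈ C P n := DoubleCoset.mem_doubleCoset_self _ _ _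

lemma C_eq_of_mem {n g : G} (h : g ∈ C P n) : C P g = C P n :=
  DoubleCoset.doubleCoset_eq_of_mem h

lemma C_eq_iff_mem {n g : G} : C P g = C P n ↔ g ∈ C P n :=
  ⟨fun h => h ▸ self_mem_C P g, C_eq_of_mem P⟩

lemma mul_mem_C_left {n g x : G} (hx : x ∈ P.B) (h : g ∈ C P n) : x * g ∈ C P n := by
  rw [mem_C] at h ⊢
  obtain ⟨a, ha, b, hb, rfl⟩ := h
  exact ⟨x * a, P.B.mul_mem hx ha, b, hb, by group⟩

lemma mul_mem_C_right {n g x : G} (hx : x ∈ P.B) (h : g ∈ C P n) : g * x ∈ C P n := by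
  rw [mem_C] at h ⊢
  obtain ⟨a, ha, b, hb, rfl⟩ := h
  exact ⟨a, ha, b * x, P.B.mul_mem hb hx, by group⟩

lemma C_mul_right {n x : G} (hx : x ∈ P.B) : C P (n * x) = C P n :=
  C_eq_of_mem P (mul_mem_C_right P hx (self_mem_C P n))

lemma C_mul_left {n x : G} (hx : x ∈ P.B) : C P (x * n) = C P n :=
  C_eq_of_mem P (mul_mem_C_left P hx (self_mem_C P n))

lemma C_eq_of_eqv {n n' : G} (h : n⁻¹ * n' ∈ P.B) : C P n' = C P n := by
  have : n' = n * (n⁻¹ * n') := by group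
  rw [this]
  exact C_mul_right P h

lemma mem_C_of_mem_B {x : G} (hx : x ∈ P.B) : x ∈ C P 1 := by
  rw [mem_C]
  exact ⟨x, hx, 1, P.B.one_mem, by group⟩

lemma mem_B_of_mem_C_one {x : G} (hx : x ∈ C P 1) : x ∈ P.B := by
  rw [mem_C] at hx
  obtain ⟨a, ha, b, hb, rfl⟩ := hx
  simpa using P.B.mul_mem ha hb

lemma mem_C_one_iff {x : G} : x ∈ C P 1 ↔ x ∈ P.B :=
  ⟨mem_B_of_mem_C_one P, mem_C_of_mem_B P⟩

lemma mem_C_of_B_iff {n x : G} (hn : n ∈ P.B) : x ∈ C P n ↔ x ∈ P.B := by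
  have : C P n = C P 1 := by
    have := C_mul_right P (n := 1) hn
    simpa using this
  rw [this, mem_C_one_iff]

lemma inv_mem_C {n g : G} (h : g ∈ C P n) : g⁻¹ ∈ C P n⁻¹ := by
  rw [mem_C] at h ⊢
  obtain ⟨a, ha, b, hb, rfl⟩ := h
  exact ⟨b⁻¹, P.B.inv_mem hb, a⁻¹, P.B.inv_mem ha, by group⟩

/-! ### The subgroup `H = B ⊓ N` -/

lemma S_mem_N {s : G} (hs : s ∈ P.S) : s ∈ P.N := P.subset hs

lemma sq_mem_H {s : G} (hs : s ∈ P.S) : s * s ∈ P.B ⊓ P.N :=
  ⟨P.sq_mem s hs, P.N.mul_mem (P.subset hs) (P.subset hs)⟩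

lemma conj_mem_H {n t : G} (hn : n ∈ P.N) (ht : t ∈ P.B ⊓ P.N) : n * t * n⁻¹ ∈ P.B ⊓ P.N :=
  ⟨P.conj_mem n hn t ht, P.N.mul_mem (P.N.mul_mem hn ht.2) (P.N.inv_mem hn)⟩

lemma conj_mem_H' {n t : G} (hn : n ∈ P.N) (ht : t ∈ P.B ⊓ P.N) : n⁻¹ * t * n ∈ P.B ⊓ P.N := by
  have := conj_mem_H P (P.N.inv_mem hn) ht
  simpa using this

lemma conj_mem_B {n t : G} (hn : n ∈ P.N) (ht : t ∈ P.B) (ht' : t ∈ P.N) : n * t * n⁻¹ ∈ P.B :=
  P.conj_mem n hn t ⟨ht, ht'⟩

lemma conj_mem_B' {n t : G} (hn : n ∈ P.N) (ht : t ∈ P.B) (ht' : t ∈ P.N) : n⁻¹ * t * n ∈ P.B :=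
  (conj_mem_H' P hn ⟨ht, ht'⟩).1

lemma S_not_mem_B {s : G} (hs : s ∈ P.S) : s ∉ P.B := by
  intro h
  apply P.conj_ne s hs
  ext x
  constructor
  · rintro ⟨b, hb, rfl⟩
    exact P.B.mul_mem (P.B.mul_mem h hb) h
  · intro hx
    refine ⟨s⁻¹ * x * s⁻¹, ?_, by group⟩
    exact P.B.mul_mem (P.B.mul_mem (P.B.inv_mem h) hx) (P.B.inv_mem h)

/-- `C (s⁻¹ * n) = C (s * n)` for `s ∈ S`. -/
lemma C_inv_mul {s n : G} (hs : s ∈ P.S) : C P (s⁻¹ * n) = C P (s * n) := by
  have : s⁻¹ * n = (s * s)⁻¹ * (s * n) := by group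
  rw [this]
  exact C_mul_left P (P.B.inv_mem (P.sq_mem s hs))

lemma C_mul_inv {s n : G} (hs : s ∈ P.S) : C P (n * s⁻¹) = C P (n * s) := by
  have : n * s⁻¹ = (n * s) * (s * s)⁻¹ := by group
  rw [this]
  exact C_mul_right P (P.B.inv_mem (P.sq_mem s hs))

/-- axiom T3. -/
lemma T3 {s n b : G} (hs : s ∈ P.S) (hn : n ∈ P.N) (hb : b ∈ P.B) :
    s * b * n ∈ C P (s * n) ∪ C P n := P.mul_mem_union s hs n hn b hb

lemma T3_inv {s n b : G} (hs : s ∈ P.S) (hn : n ∈ P.N) (hb : b ∈ P.B) :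
    s⁻¹ * b * n ∈ C P (s⁻¹ * n) ∪ C P n := by
  have h := T3 P hs hn hb
  have e : s⁻¹ * b * n = (s * s)⁻¹ * (s * b * n) := by group
  rw [e, C_inv_mul P hs]
  have hB := P.B.inv_mem (P.sq_mem s hs)
  rcases h with h | h
  · exact Or.inl (mul_mem_C_left P hB h)
  · exact Or.inr (mul_mem_C_left P hB h)

/-- general T3: `s * g ∈ C (s n) ∪ C n` for `g ∈ C n`. -/
lemma T3_C {s n g : G} (hs : s ∈ P.S) (hn : n ∈ P.N) (hg : g ∈ C P n) :
    s * g ∈ C P (s * n) ∪ C P n := by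
  rw [mem_C] at hg
  obtain ⟨a, ha, b, hb, rfl⟩ := hg
  have h := T3 P hs hn ha
  have e : s * (a * n * b) = (s * a * n) * b := by group
  rw [e]
  rcases h with h | h
  · exact Or.inl (mul_mem_C_right P hb h)
  · exact Or.inr (mul_mem_C_right P hb h)

lemma T3_C_inv {s n g : G} (hs : s ∈ P.S) (hn : n ∈ P.N) (hg : g ∈ C P n) :
    s⁻¹ * g ∈ C P (s⁻¹ * n) ∪ C P n := by
  rw [mem_C] at hg
  obtain ⟨a, ha, b, hb, rfl⟩ := hg
  have h := T3_inv P hs hn ha
  have e : s⁻¹ * (a * n * b) = (s⁻¹ * a * n) * b := by group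
  rw [e]
  rcases h with h | h
  · exact Or.inl (mul_mem_C_right P hb h)
  · exact Or.inr (mul_mem_C_right P hb h)

/-- right-handed T3. -/
lemma T3_right {s n g : G} (hs : s ∈ P.S) (hn : n ∈ P.N) (hg : g ∈ C P n) :
    g * s ∈ C P (n * s) ∪ C P n := by
  have h1 := inv_mem_C P hg
  have h2 := T3_C_inv P hs (P.N.inv_mem hn) h1
  rcases h2 with h | h
  · left
    have := inv_mem_C P h
    simpa [mul_inv_rev] using this
  · right
    have := inv_mem_C P h
    simpa [mul_inv_rev] using this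

lemma T3_right_inv {s n g : G} (hs : s ∈ P.S) (hn : n ∈ P.N) (hg : g ∈ C P n) :
    g * s⁻¹ ∈ C P (n * s⁻¹) ∪ C P n := by
  have h1 := inv_mem_C P hg
  have h2 := T3_C P hs (P.N.inv_mem hn) h1
  rcases h2 with h | h
  · left
    have := inv_mem_C P h
    simpa [mul_inv_rev] using this
  · right
    have := inv_mem_C P h
    simpa [mul_inv_rev] using this

/-- axiom T4 in usable form. -/
lemma T4 {s : G} (hs : s ∈ P.S) : ∃ b ∈ P.B, s * b * s ∉ P.B := by
  by_contra hcon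
  push Not at hcon
  apply P.conj_ne s hs
  have hsq := P.sq_mem s hs
  ext x
  constructor
  · rintro ⟨b, hb, rfl⟩
    exact hcon b hb
  · intro hx
    -- x = s * (s⁻¹ x s⁻¹) * s and s⁻¹ x s⁻¹ = (ss)⁻¹ (s x s) (ss)⁻¹
    refine ⟨s⁻¹ * x * s⁻¹, ?_, by group⟩
    have e : s⁻¹ * x * s⁻¹ = (s * s)⁻¹ * (s * x * s) * (s * s)⁻¹ := by group
    rw [e]
    exact P.B.mul_mem (P.B.mul_mem (P.B.inv_mem hsq) (hcon x hx)) (P.B.inv_mem hsq)

/-! ### Words and length -/

/-- `L` is a word in `J` representing `n ∈ N` modulo `B ⊓ N`. -/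
def Rep (J : Set G) (L : List G) (n : G) : Prop :=
  (∀ x ∈ L, x ∈ J) ∧ n ∈ P.N ∧ L.prod⁻¹ * n ∈ P.B

/-- `n` is represented by some word in `J`. -/
def HasRep (J : Set G) (n : G) : Prop := ∃ L, Rep P J L n

/-- the length of `n` with respect to `J`. -/
noncomputable def len (J : Set G) (n : G) : ℕ := sInf {k | ∃ L : List G, L.length = k ∧ Rep P J L n}

variable {P}
variable {J : Set G}

lemma prod_mem_N (hJ : J ⊆ P.S) {L : List G} (hL : ∀ x ∈ L, x ∈ J) : L.prod ∈ P.N :=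
  P.N.list_prod_mem (fun x hx => P.subset (hJ (hL x hx)))

lemma Rep.mem_N {L : List G} {n : G} (h : Rep P J L n) : n ∈ P.N := h.2.1

lemma HasRep.mem_N {n : G} (h : HasRep P J n) : n ∈ P.N := by
  obtain ⟨L, hL⟩ := h
  exact hL.mem_N

lemma rep_nil_iff {n : G} : Rep P J [] n ↔ n ∈ P.N ∧ n ∈ P.B := by
  simp [Rep]

lemma Rep.congr {L : List G} {n n' : G} (h : Rep P J L n) (hn' : n' ∈ P.N) (he : n⁻¹ * n' ∈ P.B) :
    Rep P J L n' := by
  refine ⟨h.1, hn', ?_⟩
  have e : L.prod⁻¹ * n' = (L.prod⁻¹ * n) * (n⁻¹ * n') := by group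
  rw [e]
  exact P.B.mul_mem h.2.2 he

lemma HasRep.congr {n n' : G} (h : HasRep P J n) (hn' : n' ∈ P.N) (he : n⁻¹ * n' ∈ P.B) :
    HasRep P J n' := by
  obtain ⟨L, hL⟩ := h
  exact ⟨L, hL.congr hn' he⟩

lemma Rep.cons (hJ : J ⊆ P.S) {L : List G} {n s : G} (hs : s ∈ J) (h : Rep P J L n) :
    Rep P J (s :: L) (s * n) := by
  refine ⟨?_, P.N.mul_mem (P.subset (hJ hs)) h.mem_N, ?_⟩
  · intro x hx
    rcases List.mem_cons.1 hx with rfl | hx
    · exact hs
    · exact h.1 x hx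
  · have e : (s :: L).prod⁻¹ * (s * n) = L.prod⁻¹ * n := by
      rw [List.prod_cons]; group
    rw [e]; exact h.2.2

lemma Rep.of_cons (hJ : J ⊆ P.S) {L : List G} {n s : G} (h : Rep P J (s :: L) n) :
    Rep P J L (s⁻¹ * n) := by
  have hs : s ∈ J := h.1 s (List.mem_cons_self)
  refine ⟨fun x hx => h.1 x (List.mem_cons_of_mem _ hx),
    P.N.mul_mem (P.N.inv_mem (P.subset (hJ hs))) h.mem_N, ?_⟩
  have e : L.prod⁻¹ * (s⁻¹ * n) = (s :: L).prod⁻¹ * n := by
    rw [List.prod_cons]; group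
  rw [e]; exact h.2.2

lemma Rep.concat (hJ : J ⊆ P.S) {L : List G} {n s : G} (hs : s ∈ J) (h : Rep P J L n) :
    Rep P J (L ++ [s]) (n * s) := by
  have hsN : s ∈ P.N := P.subset (hJ hs)
  refine ⟨?_, P.N.mul_mem h.mem_N hsN, ?_⟩
  · intro x hx
    rcases List.mem_append.1 hx with hx | hx
    · exact h.1 x hx
    · rw [List.mem_singleton] at hx; exact hx ▸ hs
  · have e : (L ++ [s]).prod⁻¹ * (n * s) = s⁻¹ * (L.prod⁻¹ * n) * s := by
      rw [List.prod_append, List.prod_singleton]; group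
    rw [e]
    have hN : L.prod⁻¹ * n ∈ P.N := P.N.mul_mem (P.N.inv_mem (prod_mem_N hJ h.1)) h.mem_N
    exact conj_mem_B' P hsN h.2.2 hN

lemma Rep.of_concat (hJ : J ⊆ P.S) {L : List G} {n s : G} (h : Rep P J (L ++ [s]) n) :
    Rep P J L (n * s⁻¹) := by
  have hs : s ∈ J := h.1 s (by simp)
  have hsN : s ∈ P.N := P.subset (hJ hs)
  have hL : ∀ x ∈ L, x ∈ J := fun x hx => h.1 x (List.mem_append_left _ hx)
  refine ⟨hL, P.N.mul_mem h.mem_N (P.N.inv_mem hsN), ?_⟩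
  have e : L.prod⁻¹ * (n * s⁻¹) = s * ((L ++ [s]).prod⁻¹ * n) * s⁻¹ := by
    rw [List.prod_append, List.prod_singleton]; group
  rw [e]
  have hN : (L ++ [s]).prod⁻¹ * n ∈ P.N :=
    P.N.mul_mem (P.N.inv_mem (prod_mem_N hJ h.1)) h.mem_N
  exact conj_mem_B P hsN h.2.2 hN

lemma Rep.append (hJ : J ⊆ P.S) {L L' : List G} {n n' : G} (h : Rep P J L n) (h' : Rep P J L' n') :
    Rep P J (L ++ L') (n * n') := by
  refine ⟨?_, P.N.mul_mem h.mem_N h'.mem_N, ?_⟩
  · intro x hx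
    rcases List.mem_append.1 hx with hx | hx
    · exact h.1 x hx
    · exact h'.1 x hx
  · have e : (L ++ L').prod⁻¹ * (n * n') = (L'.prod⁻¹ * n') * (n'⁻¹ * (L.prod⁻¹ * n) * n') := by
      rw [List.prod_append]; group
    rw [e]
    have hN : L.prod⁻¹ * n ∈ P.N := P.N.mul_mem (P.N.inv_mem (prod_mem_N hJ h.1)) h.mem_N
    exact P.B.mul_mem h'.2.2 (conj_mem_B' P h'.mem_N h.2.2 hN)

lemma rep_prod (hJ : J ⊆ P.S) {L : List G} (hL : ∀ x ∈ L, x ∈ J) : Rep P J L L.prod :=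
  ⟨hL, prod_mem_N hJ hL, by simp [P.B.one_mem]⟩

lemma hasRep_of_mem_closure (hJ : J ⊆ P.S) {n : G} (hn : n ∈ Subgroup.closure J) : HasRep P J n := by
  induction hn using Subgroup.closure_induction'' with
  | mem x hx =>
    exact ⟨[x], fun y hy => by rw [List.mem_singleton] at hy; exact hy ▸ hx, P.subset (hJ hx),
      by simp [P.B.one_mem]⟩
  | inv_mem x hx =>
    refine ⟨[x], fun y hy => by rw [List.mem_singleton] at hy; exact hy ▸ hx,
      P.N.inv_mem (P.subset (hJ hx)), ?_⟩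
    have e : [x].prod⁻¹ * x⁻¹ = (x * x)⁻¹ := by simp
    rw [e]
    exact P.B.inv_mem (P.sq_mem x (hJ hx))
  | one => exact ⟨[], by simp [Rep, P.B.one_mem, P.N.one_mem]⟩
  | mul x y _ _ hx hy =>
    obtain ⟨L, hL⟩ := hx
    obtain ⟨L', hL'⟩ := hy
    exact ⟨L ++ L', hL.append hJ hL'⟩

lemma HasRep.exists_closure (hJ : J ⊆ P.S) {n : G} (h : HasRep P J n) :
    ∃ n' ∈ Subgroup.closure J, n' ∈ P.N ∧ n'⁻¹ * n ∈ P.B := by
  obtain ⟨L, hL⟩ := h
  exact ⟨L.prod, Subgroup.list_prod_mem _ (fun x hx => Subgroup.subset_closure (hL.1 x hx)),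
    prod_mem_N hJ hL.1, hL.2.2⟩

lemma hasRep_of_mem_B {n : G} (hn : n ∈ P.N) (hb : n ∈ P.B) : HasRep P J n :=
  ⟨[], rep_nil_iff.2 ⟨hn, hb⟩⟩

/-- the subgroup of elements represented by words in `S`. -/
def repSubgroup (P : Cfsg.BNPair G) : Subgroup G where
  carrier := {n | HasRep P P.S n}
  one_mem' := ⟨[], by simp [Rep, P.B.one_mem, P.N.one_mem]⟩
  mul_mem' := by
    rintro a b ⟨L, hL⟩ ⟨L', hL'⟩
    exact ⟨L ++ L', hL.append subset_rfl hL'⟩
  inv_mem' := by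
    rintro a ⟨L, hL⟩
    have hJ : P.S ⊆ P.S := subset_rfl
    have h1 : L.prod⁻¹ ∈ Subgroup.closure P.S :=
      Subgroup.inv_mem _ (Subgroup.list_prod_mem _
        (fun x hx => Subgroup.subset_closure (hL.1 x hx)))
    have h2 := hasRep_of_mem_closure hJ h1
    refine h2.congr (P.N.inv_mem hL.mem_N) ?_
    have hN : L.prod⁻¹ * a ∈ P.N :=
      P.N.mul_mem (P.N.inv_mem (prod_mem_N hJ hL.1)) hL.mem_N
    have := conj_mem_B P (prod_mem_N hJ hL.1) (P.B.inv_mem hL.2.2)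
      (P.N.inv_mem hN)
    convert this using 1
    group

/-- every element of `N` is represented by a word in `S`. -/
lemma hasRep_of_mem_N {n : G} (hn : n ∈ P.N) : HasRep P P.S n := by
  have hJ : P.S ⊆ P.S := subset_rfl
  have key : Subgroup.closure P.S ⊔ (P.B ⊓ P.N) ≤ repSubgroup P := by
    apply sup_le
    · rw [Subgroup.closure_le]
      intro x hx
      exact hasRep_of_mem_closure hJ (Subgroup.subset_closure hx)
    · intro x hx
      exact hasRep_of_mem_B hx.2 hx.1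
  rw [P.closure_sup] at key
  exact key hn

lemma hasRep_S_iff {n : G} : HasRep P P.S n ↔ n ∈ P.N := ⟨HasRep.mem_N, hasRep_of_mem_N⟩

lemma HasRep.mono {J K : Set G} (hJK : J ⊆ K) {n : G} (h : HasRep P J n) : HasRep P K n := by
  obtain ⟨L, hL⟩ := h
  exact ⟨L, fun x hx => hJK (hL.1 x hx), hL.2⟩

/-! length -/

lemma len_le_of_rep {L : List G} {n : G} (h : Rep P J L n) : len P J n ≤ L.length :=
  Nat.sInf_le ⟨L, rfl, h⟩

lemma HasRep.exists_rep_len {n : G} (h : HasRep P J n) :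
    ∃ L : List G, L.length = len P J n ∧ Rep P J L n := by
  obtain ⟨L, hL⟩ := h
  have : ({k | ∃ L : List G, L.length = k ∧ Rep P J L n} : Set ℕ).Nonempty := ⟨L.length, L, rfl, hL⟩
  exact Nat.sInf_mem this

lemma len_congr {n n' : G} (hn : n ∈ P.N) (hn' : n' ∈ P.N) (he : n⁻¹ * n' ∈ P.B) :
    len P J n = len P J n' := by
  unfold len
  congr 1
  ext k
  constructor
  · rintro ⟨L, hk, hL⟩
    exact ⟨L, hk, hL.congr hn' he⟩
  · rintro ⟨L, hk, hL⟩
    refine ⟨L, hk, hL.congr hn ?_⟩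
    have : n'⁻¹ * n = (n⁻¹ * n')⁻¹ := by group
    rw [this]; exact P.B.inv_mem he

lemma len_eq_zero_iff {n : G} (h : HasRep P J n) : len P J n = 0 ↔ n ∈ P.B := by
  constructor
  · intro h0
    obtain ⟨L, hL, hr⟩ := h.exists_rep_len
    rw [h0, List.length_eq_zero_iff] at hL
    subst hL
    exact (rep_nil_iff.1 hr).2
  · intro hb
    have := len_le_of_rep (J := J) (rep_nil_iff.2 ⟨h.mem_N, hb⟩)
    simpa using this

/-- `s * s * n ≈ n`. -/
lemma sq_mul_eqv {s n : G} (hs : s ∈ P.S) (hn : n ∈ P.N) : (s * s * n)⁻¹ * n ∈ P.B := by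
  have e : (s * s * n)⁻¹ * n = n⁻¹ * (s * s)⁻¹ * n := by group
  rw [e]
  have h := sq_mem_H P hs
  exact conj_mem_B' P hn (P.B.inv_mem h.1) (P.N.inv_mem h.2)

/-- `s⁻¹ * n ≈ s * n`. -/
lemma inv_mul_eqv {s n : G} (hs : s ∈ P.S) (hn : n ∈ P.N) : (s⁻¹ * n)⁻¹ * (s * n) ∈ P.B := by
  have e : (s⁻¹ * n)⁻¹ * (s * n) = n⁻¹ * (s * s) * n := by group
  rw [e]
  have h := sq_mem_H P hs
  exact conj_mem_B' P hn h.1 h.2

lemma HasRep.smul (hJ : J ⊆ P.S) {s n : G} (hs : s ∈ J) (h : HasRep P J n) : HasRep P J (s * n) := by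
  obtain ⟨L, hL⟩ := h
  exact ⟨s :: L, hL.cons hJ hs⟩

lemma HasRep.inv_smul (hJ : J ⊆ P.S) {s n : G} (hs : s ∈ J) (h : HasRep P J n) :
    HasRep P J (s⁻¹ * n) := by
  have hsN := P.subset (hJ hs)
  refine (h.smul hJ hs).congr (P.N.mul_mem (P.N.inv_mem hsN) h.mem_N) ?_
  have := inv_mul_eqv (hJ hs) h.mem_N
  have e : (s * n)⁻¹ * (s⁻¹ * n) = ((s⁻¹ * n)⁻¹ * (s * n))⁻¹ := by group
  rw [e]; exact P.B.inv_mem this

lemma HasRep.mul_right (hJ : J ⊆ P.S) {s n : G} (hs : s ∈ J) (h : HasRep P J n) :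
    HasRep P J (n * s) := by
  obtain ⟨L, hL⟩ := h
  exact ⟨L ++ [s], hL.concat hJ hs⟩

lemma len_inv_smul (hJ : J ⊆ P.S) {s n : G} (hs : s ∈ J) (hn : n ∈ P.N) :
    len P J (s⁻¹ * n) = len P J (s * n) := by
  have hsN := P.subset (hJ hs)
  exact len_congr (P.N.mul_mem (P.N.inv_mem hsN) hn) (P.N.mul_mem hsN hn) (inv_mul_eqv (hJ hs) hn)

lemma len_smul_le (hJ : J ⊆ P.S) {s n : G} (hs : s ∈ J) (h : HasRep P J n) :
    len P J (s * n) ≤ len P J n + 1 := by
  obtain ⟨L, hL, hr⟩ := h.exists_rep_len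
  have := len_le_of_rep (hr.cons hJ hs)
  simpa [hL] using this

lemma len_le_smul (hJ : J ⊆ P.S) {s n : G} (hs : s ∈ J) (h : HasRep P J n) :
    len P J n ≤ len P J (s * n) + 1 := by
  have hsN := P.subset (hJ hs)
  have h1 := len_smul_le hJ hs (h.smul hJ hs)
  have h2 : len P J (s * (s * n)) = len P J n := by
    have e : s * (s * n) = s * s * n := by group
    rw [e]
    exact len_congr (P.N.mul_mem (P.N.mul_mem hsN hsN) h.mem_N) h.mem_N (sq_mul_eqv (hJ hs) h.mem_N)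
  omega

lemma len_mul_right_le (hJ : J ⊆ P.S) {s n : G} (hs : s ∈ J) (h : HasRep P J n) :
    len P J (n * s) ≤ len P J n + 1 := by
  obtain ⟨L, hL, hr⟩ := h.exists_rep_len
  have := len_le_of_rep (hr.concat hJ hs)
  simpa [hL] using this

/-! ### Bruhat uniqueness -/

lemma bruhat_aux : ∀ k : ℕ, ∀ n n' : G, n ∈ P.N → n' ∈ P.N → len P P.S n = k →
    k ≤ len P P.S n' → C P n = C P n' → n⁻¹ * n' ∈ P.B := by
  intro k
  induction k with
  | zero =>
    intro n n' hn hn' hk _ hC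
    have hb : n ∈ P.B := (len_eq_zero_iff (hasRep_of_mem_N hn)).1 hk
    have h : n' ∈ C P n := hC ▸ self_mem_C P n'
    rw [mem_C_of_B_iff P hb] at h
    exact P.B.mul_mem (P.B.inv_mem hb) h
  | succ k ih =>
    intro n n' hn hn' hk hle hC
    obtain ⟨L, hL, hr⟩ := (hasRep_of_mem_N hn).exists_rep_len
    rw [hk] at hL
    obtain ⟨s, L', rfl⟩ := List.exists_cons_of_length_eq_add_one hL
    have hs : s ∈ P.S := hr.1 s List.mem_cons_self
    have hsN := P.subset hs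
    have hr1 : Rep P P.S L' (s⁻¹ * n) := hr.of_cons subset_rfl
    have hn1N : s⁻¹ * n ∈ P.N := hr1.mem_N
    have hlen1 : len P P.S (s⁻¹ * n) = k := by
      have h1 : len P P.S (s⁻¹ * n) ≤ k := by
        have := len_le_of_rep hr1
        simp only [List.length_cons] at hL
        omega
      have h2 : len P P.S (s * (s⁻¹ * n)) ≤ len P P.S (s⁻¹ * n) + 1 :=
        len_smul_le subset_rfl hs ⟨L', hr1⟩
      have e : s * (s⁻¹ * n) = n := by group
      rw [e] at h2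
      omega
    have hmem : n ∈ C P n' := hC ▸ self_mem_C P n
    rcases T3_C_inv P hs hn' hmem with h3 | h3
    · have hC1 : C P (s⁻¹ * n) = C P (s⁻¹ * n') := C_eq_of_mem P h3
      have hle1 : k ≤ len P P.S (s⁻¹ * n') := by
        rw [len_inv_smul subset_rfl hs hn']
        have := len_le_smul subset_rfl hs (hasRep_of_mem_N hn')
        omega
      have h4 := ih (s⁻¹ * n) (s⁻¹ * n') hn1N (P.N.mul_mem (P.N.inv_mem hsN) hn') hlen1 hle1 hC1
      have e : (s⁻¹ * n)⁻¹ * (s⁻¹ * n') = n⁻¹ * n' := by group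
      rwa [e] at h4
    · have hC1 : C P (s⁻¹ * n) = C P n' := C_eq_of_mem P h3
      have h4 := ih (s⁻¹ * n) n' hn1N hn' hlen1 (by omega) hC1
      have h5 := len_congr (J := P.S) hn1N hn' h4
      omega

/-- Bruhat uniqueness: `B n B = B n' B` implies `n ≈ n'`. -/
theorem bruhat_unique {n n' : G} (hn : n ∈ P.N) (hn' : n' ∈ P.N) (hC : C P n = C P n') :
    n⁻¹ * n' ∈ P.B := by
  rcases le_total (len P P.S n) (len P P.S n') with h | h
  · exact bruhat_aux _ n n' hn hn' rfl h hC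
  · have h1 := bruhat_aux _ n' n hn' hn rfl h hC.symm
    have e : n⁻¹ * n' = (n'⁻¹ * n)⁻¹ := by group
    rw [e]; exact P.B.inv_mem h1

theorem C_eq_iff {n n' : G} (hn : n ∈ P.N) (hn' : n' ∈ P.N) :
    C P n = C P n' ↔ n⁻¹ * n' ∈ P.B :=
  ⟨bruhat_unique hn hn', fun h => (C_eq_of_eqv P h).symm⟩

/-! ### The key lemma on lengths -/

lemma lemmaA_aux (hJ : J ⊆ P.S) : ∀ k : ℕ, ∀ n : G, HasRep P J n → len P J n = k → ∀ s ∈ J,
    len P J n ≤ len P J (s * n) → ∀ b ∈ P.B, s * b * n ∈ C P (s * n) := by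
  intro k
  induction k with
  | zero =>
    intro n hrep hk s hs _ b hb
    have hnB : n ∈ P.B := (len_eq_zero_iff hrep).1 hk
    rw [mem_C]
    exact ⟨1, P.B.one_mem, n⁻¹ * b * n, P.B.mul_mem (P.B.mul_mem (P.B.inv_mem hnB) hb) hnB,
      by group⟩
  | succ k ih =>
    intro n hrep hk s hs hle b hb
    have hsS := hJ hs
    have hsN := P.subset hsS
    have hn := hrep.mem_N
    obtain ⟨L, hL, hr⟩ := hrep.exists_rep_len
    rw [hk] at hL
    obtain ⟨L', s', rfl⟩ : ∃ L' s', L = L' ++ [s'] := by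
      rcases List.eq_nil_or_concat L with h | ⟨L', s', h⟩
      · subst h; simp at hL
      · exact ⟨L', s', by rw [h, List.concat_eq_append]⟩
    have hs' : s' ∈ J := hr.1 s' (by simp)
    have hs'S := hJ hs'
    have hr' : Rep P J L' (n * s'⁻¹) := hr.of_concat hJ
    have hrep' : HasRep P J (n * s'⁻¹) := ⟨L', hr'⟩
    have hn'N := hr'.mem_N
    have hnn' : n * s'⁻¹ * s' = n := by group
    have hlen' : len P J (n * s'⁻¹) = k := by
      have h1 : len P J (n * s'⁻¹) ≤ k := by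
        have := len_le_of_rep hr'
        simp only [List.length_append, List.length_cons, List.length_nil] at hL
        omega
      have h2 := len_mul_right_le hJ hs' hrep'
      rw [hnn'] at h2
      omega
    by_contra hcon
    have h1 : s * b * n ∈ C P n := (T3 P hsS hn hb).resolve_left hcon
    have h2 := T3_right_inv P hs'S hn h1
    have e2 : s * b * n * s'⁻¹ = s * b * (n * s'⁻¹) := by group
    rw [e2] at h2
    have hle' : len P J (n * s'⁻¹) ≤ len P J (s * (n * s'⁻¹)) := by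
      by_contra hlt
      push Not at hlt
      have h3 := len_mul_right_le hJ hs' (hrep'.smul hJ hs)
      have e3 : s * (n * s'⁻¹) * s' = s * n := by group
      rw [e3] at h3
      omega
    have h4 := ih (n * s'⁻¹) hrep' hlen' s hs hle' b hb
    have hsn'N : s * (n * s'⁻¹) ∈ P.N := P.N.mul_mem hsN hn'N
    rcases h2 with h2 | h2
    · have hC : C P (s * (n * s'⁻¹)) = C P (n * s'⁻¹) := by
        rw [← C_eq_of_mem P h4, C_eq_of_mem P h2]
      have h5 := bruhat_unique hsn'N hn'N hC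
      have h6 := conj_mem_B P hn'N h5 (P.N.mul_mem (P.N.inv_mem hsn'N) hn'N)
      have e6 : n * s'⁻¹ * ((s * (n * s'⁻¹))⁻¹ * (n * s'⁻¹)) * (n * s'⁻¹)⁻¹ = s⁻¹ := by group
      rw [e6] at h6
      exact S_not_mem_B P hsS (by simpa using P.B.inv_mem h6)
    · have hC : C P (s * (n * s'⁻¹)) = C P n := by
        rw [← C_eq_of_mem P h4, C_eq_of_mem P h2]
      have h5 := bruhat_unique hsn'N hn hC
      have h6 : len P J (s * n) = len P J (s * s * (n * s'⁻¹)) := by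
        refine len_congr (P.N.mul_mem hsN hn) (P.N.mul_mem (P.N.mul_mem hsN hsN) hn'N) ?_
        have e : (s * n)⁻¹ * (s * s * (n * s'⁻¹)) = ((s * (n * s'⁻¹))⁻¹ * n)⁻¹ := by group
        rw [e]; exact P.B.inv_mem h5
      have h7 : len P J (s * s * (n * s'⁻¹)) = len P J (n * s'⁻¹) :=
        len_congr (P.N.mul_mem (P.N.mul_mem hsN hsN) hn'N) hn'N (sq_mul_eqv hsS hn'N)
      omega

/-- Lemma A (a): if `len (s n) ≥ len n` then `s B n ⊆ B s n B`. -/
theorem lemmaA (hJ : J ⊆ P.S) {n s b : G} (hrep : HasRep P J n) (hs : s ∈ J)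
    (hle : len P J n ≤ len P J (s * n)) (hb : b ∈ P.B) : s * b * n ∈ C P (s * n) :=
  lemmaA_aux hJ _ n hrep rfl s hs hle b hb

/-- Lemma A (b): if `len (s n) ≤ len n` then `s B n` meets `B n B`. -/
theorem lemmaB (hJ : J ⊆ P.S) {n s : G} (hrep : HasRep P J n) (hs : s ∈ J)
    (hle : len P J (s * n) ≤ len P J n) : ∃ b ∈ P.B, s * b * n ∈ C P n := by
  have hsS := hJ hs
  have hsN := P.subset hsS
  have hn := hrep.mem_N
  obtain ⟨b, hb, hbs⟩ := T4 P hsS
  have h1 : s * b * s ∈ C P s := by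
    rcases T3 P hsS hsN hb with h | h
    · exact absurd ((mem_C_of_B_iff P (P.sq_mem s hsS)).1 h) hbs
    · exact h
  rw [mem_C] at h1
  obtain ⟨b1, hb1, b2, hb2, he⟩ := h1
  have hrep' : HasRep P J (s⁻¹ * n) := hrep.inv_smul hJ hs
  have e1 : s * (s⁻¹ * n) = n := by group
  have hle' : len P J (s⁻¹ * n) ≤ len P J (s * (s⁻¹ * n)) := by
    rw [e1, len_inv_smul hJ hs hn]; exact hle
  have h2 := lemmaA hJ hrep' hs hle' hb2
  rw [e1] at h2
  refine ⟨b, hb, ?_⟩
  have e2 : s * b * n = b1 * (s * b2 * (s⁻¹ * n)) := by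
    have : s * b = b1 * s * b2 * s⁻¹ := by rw [← he]; group
    calc s * b * n = (s * b) * n := by group
      _ = (b1 * s * b2 * s⁻¹) * n := by rw [this]
      _ = b1 * (s * b2 * (s⁻¹ * n)) := by group
  rw [e2]
  exact mul_mem_C_left P hb1 h2

/-- the length always changes under left multiplication by a generator. -/
theorem len_smul_ne (hJ : J ⊆ P.S) {n s : G} (hrep : HasRep P J n) (hs : s ∈ J) :
    len P J (s * n) ≠ len P J n := by
  intro h
  have hsS := hJ hs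
  have hsN := P.subset hsS
  have hn := hrep.mem_N
  obtain ⟨b, hb, h1⟩ := lemmaB hJ hrep hs h.le
  have h2 := lemmaA hJ hrep hs h.ge hb
  have hC : C P (s * n) = C P n := by rw [← C_eq_of_mem P h2, C_eq_of_mem P h1]
  have h3 := bruhat_unique (P.N.mul_mem hsN hn) hn hC
  have h4 := conj_mem_B P hn h3 (P.N.mul_mem (P.N.inv_mem (P.N.mul_mem hsN hn)) hn)
  have e : n * ((s * n)⁻¹ * n) * n⁻¹ = s⁻¹ := by group
  rw [e] at h4
  exact S_not_mem_B P hsS (by simpa using P.B.inv_mem h4)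

/-- descent: a non-trivial element has a generator that shortens it, and that generator lies in
the subgroup generated by `B` and `n`. -/
theorem exists_descent (hJ : J ⊆ P.S) {n : G} (hrep : HasRep P J n) (hnB : n ∉ P.B) :
    ∃ s ∈ J, HasRep P J (s⁻¹ * n) ∧ len P J (s⁻¹ * n) < len P J n ∧
      ∃ b ∈ P.B, s * b * n ∈ C P n := by
  obtain ⟨L, hL, hr⟩ := hrep.exists_rep_len
  have hn := hrep.mem_N
  have hpos : len P J n ≠ 0 := fun h => hnB ((len_eq_zero_iff hrep).1 h)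
  obtain ⟨k, hk⟩ := Nat.exists_eq_succ_of_ne_zero hpos
  rw [hk] at hL
  obtain ⟨s, L', rfl⟩ := List.exists_cons_of_length_eq_add_one hL
  have hs : s ∈ J := hr.1 s List.mem_cons_self
  have hr1 : Rep P J L' (s⁻¹ * n) := hr.of_cons hJ
  have hlt : len P J (s⁻¹ * n) < len P J n := by
    have := len_le_of_rep hr1
    simp only [List.length_cons] at hL
    omega
  refine ⟨s, hs, ⟨L', hr1⟩, hlt, ?_⟩
  apply lemmaB hJ hrep hs
  rw [← len_inv_smul hJ hs hn]
  exact hlt.le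

/-! ### Parabolic subgroups -/

lemma closure_le_N (hJ : J ⊆ P.S) : Subgroup.closure J ≤ P.N := by
  rw [Subgroup.closure_le]
  exact fun x hx => P.subset (hJ hx)

lemma parabolic_eq_closure (J : Set G) : P.parabolic J = Subgroup.closure ((P.B : Set G) ∪ J) := by
  unfold BNPair.parabolic
  rw [Subgroup.closure_union, Subgroup.closure_eq]

lemma B_le_parabolic (J : Set G) : P.B ≤ P.parabolic J := le_sup_left

lemma closure_le_parabolic (J : Set G) : Subgroup.closure J ≤ P.parabolic J := le_sup_right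

lemma subset_parabolic (J : Set G) : J ⊆ P.parabolic J :=
  fun _ hx => closure_le_parabolic J (Subgroup.subset_closure hx)

lemma parabolic_mono {J K : Set G} (h : J ⊆ K) : P.parabolic J ≤ P.parabolic K :=
  sup_le_sup_left (Subgroup.closure_mono h) _

lemma parabolic_le {J : Set G} {M : Subgroup G} (hB : P.B ≤ M) (hJ : J ⊆ M) : P.parabolic J ≤ M :=
  sup_le hB ((Subgroup.closure_le M).2 hJ)

lemma parabolic_S : P.parabolic P.S = ⊤ := by
  unfold BNPair.parabolic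
  rw [eq_top_iff, ← P.sup_eq_top]
  apply sup_le le_sup_left
  rw [← P.closure_sup]
  apply sup_le le_sup_right
  exact le_trans inf_le_left le_sup_left

lemma C_subset_parabolic {J : Set G} {n : G} (hn : n ∈ Subgroup.closure J) :
    C P n ⊆ P.parabolic J := by
  intro g hg
  rw [mem_C] at hg
  obtain ⟨a, ha, b, hb, rfl⟩ := hg
  exact (P.parabolic J).mul_mem ((P.parabolic J).mul_mem (B_le_parabolic J ha)
    (closure_le_parabolic J hn)) (B_le_parabolic J hb)

theorem mem_parabolic_iff (hJ : J ⊆ P.S) {g : G} :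
    g ∈ P.parabolic J ↔ ∃ n ∈ Subgroup.closure J, g ∈ C P n := by
  constructor
  · intro hg
    have key : ∀ x (_ : x ∈ Subgroup.closure ((P.B : Set G) ∪ J)),
        ∀ g, (∃ n ∈ Subgroup.closure J, g ∈ C P n) → ∃ n ∈ Subgroup.closure J, x * g ∈ C P n := by
      intro x hx
      induction hx using Subgroup.closure_induction'' with
      | mem x hx =>
        rintro g ⟨n, hn, hg⟩
        rcases hx with hx | hx
        · exact ⟨n, hn, mul_mem_C_left P hx hg⟩
        · rcases T3_C P (hJ hx) (closure_le_N hJ hn) hg with h | h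
          · exact ⟨x * n, Subgroup.mul_mem _ (Subgroup.subset_closure hx) hn, h⟩
          · exact ⟨n, hn, h⟩
      | inv_mem x hx =>
        rintro g ⟨n, hn, hg⟩
        rcases hx with hx | hx
        · exact ⟨n, hn, mul_mem_C_left P (P.B.inv_mem hx) hg⟩
        · rcases T3_C_inv P (hJ hx) (closure_le_N hJ hn) hg with h | h
          · exact ⟨x⁻¹ * n, Subgroup.mul_mem _ (Subgroup.inv_mem _ (Subgroup.subset_closure hx)) hn,
              h⟩
          · exact ⟨n, hn, h⟩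
      | one =>
        rintro g ⟨n, hn, hg⟩
        exact ⟨n, hn, by simpa using hg⟩
      | mul x y _ _ hx hy =>
        intro g hg
        obtain ⟨n, hn, h⟩ := hx (y * g) (hy g hg)
        exact ⟨n, hn, by simpa [mul_assoc] using h⟩
    rw [parabolic_eq_closure] at hg
    have := key g hg 1 ⟨1, Subgroup.one_mem _, self_mem_C P 1⟩
    simpa using this
  · rintro ⟨n, hn, hg⟩
    exact C_subset_parabolic hn hg

/-- Bruhat decomposition, existence. -/
theorem bruhat_exists (g : G) : ∃ n ∈ P.N, g ∈ C P n := by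
  have hg : g ∈ P.parabolic P.S := by rw [parabolic_S]; trivial
  obtain ⟨n, hn, h⟩ := (mem_parabolic_iff subset_rfl).1 hg
  exact ⟨n, closure_le_N subset_rfl hn, h⟩

/-- elements of `closure J` are in `N`, and an element of `N ∩ P_J` is equivalent to one of
`closure J`. -/
theorem hasRep_of_mem_parabolic (hJ : J ⊆ P.S) {n : G} (hn : n ∈ P.N) (h : n ∈ P.parabolic J) :
    HasRep P J n := by
  obtain ⟨n', hn', hC⟩ := (mem_parabolic_iff hJ).1 h
  have hn'N := closure_le_N hJ hn'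
  have h1 := bruhat_unique hn'N hn (C_eq_of_mem P hC).symm
  exact (hasRep_of_mem_closure hJ hn').congr hn h1

theorem HasRep.mem_parabolic (hJ : J ⊆ P.S) {n : G} (h : HasRep P J n) : n ∈ P.parabolic J := by
  obtain ⟨n', hn', _, hb⟩ := h.exists_closure hJ
  have e : n = n' * (n'⁻¹ * n) := by group
  rw [e]
  exact (P.parabolic J).mul_mem (closure_le_parabolic J hn') (B_le_parabolic J hb)

/-- the subgroup generated by `B` and `n` contains the first letter of a reduced word. -/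
theorem descent_mem {M : Subgroup G} (hB : P.B ≤ M) {n s b : G} (hn : n ∈ M)
    (hb : b ∈ P.B) (h : s * b * n ∈ C P n) : s ∈ M := by
  rw [mem_C] at h
  obtain ⟨b1, hb1, b2, hb2, he⟩ := h
  have e : s = b1 * n * b2 * n⁻¹ * b⁻¹ := by
    have : s = (s * b * n) * n⁻¹ * b⁻¹ := by group
    rw [this, he]
  rw [e]
  exact M.mul_mem (M.mul_mem (M.mul_mem (M.mul_mem (hB hb1) hn) (hB hb2)) (M.inv_mem hn))
    (M.inv_mem (hB hb))

/-- every element of `N` lying in a subgroup `M ≥ B` has a representation in `S ∩ M`. -/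
theorem hasRep_of_mem_overgroup {M : Subgroup G} (hB : P.B ≤ M) :
    ∀ k : ℕ, ∀ n : G, n ∈ P.N → n ∈ M → len P P.S n = k → HasRep P (P.S ∩ M) n := by
  intro k
  induction k using Nat.strong_induction_on with
  | _ k ih =>
    intro n hn hnM hk
    by_cases hnB : n ∈ P.B
    · exact hasRep_of_mem_B hn hnB
    · obtain ⟨s, hs, hrep', hlt, b, hb, h⟩ := exists_descent subset_rfl (hasRep_of_mem_N hn) hnB
      have hsM : s ∈ M := descent_mem hB hnM hb h
      have hn'M : s⁻¹ * n ∈ M := M.mul_mem (M.inv_mem hsM) hnM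
      have h1 := ih _ (hk ▸ hlt) (s⁻¹ * n) hrep'.mem_N hn'M rfl
      have h2 := h1.smul (J := P.S ∩ M) Set.inter_subset_left ⟨hs, hsM⟩
      have e : s * (s⁻¹ * n) = n := by group
      rwa [e] at h2

/-- every subgroup containing `B` is a standard parabolic. -/
theorem overgroup_eq_parabolic {M : Subgroup G} (hB : P.B ≤ M) :
    M = P.parabolic (P.S ∩ M) := by
  apply le_antisymm
  · intro g hg
    obtain ⟨n, hn, hgn⟩ := bruhat_exists (P := P) g
    have hgn' := hgn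
    rw [mem_C] at hgn
    obtain ⟨a, ha, b, hb, rfl⟩ := hgn
    have hnM : n ∈ M := by
      have e : n = a⁻¹ * (a * n * b) * b⁻¹ := by group
      rw [e]
      exact M.mul_mem (M.mul_mem (M.inv_mem (hB ha)) hg) (M.inv_mem (hB hb))
    have h1 := hasRep_of_mem_overgroup hB _ n hn hnM rfl
    have h2 := h1.mem_parabolic (J := P.S ∩ M) Set.inter_subset_left
    exact (P.parabolic _).mul_mem ((P.parabolic _).mul_mem (B_le_parabolic _ ha) h2)
      (B_le_parabolic _ hb)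
  · exact parabolic_le hB Set.inter_subset_right

end Cfsg.Agent.Lib.Helper6
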