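import Cfsg.Agent.Lib.Helper6.SzMax

set_option autoImplicit false

/-! # Suzuki groups: conjugation formulas, involutions, subfields -/

namespace Cfsg.Agent.Lib.Helper6.Sz

open Matrix
open scoped Pointwise

section general

lemma exists_subfield_card {F : Type*} [Field F] [Finite F] [CharP F 2] {k n : ℕ}
    (hk : Nat.card F = 2 ^ k) (hn : n ≠ 0) (hdvd : n ∣ k) :
    ∃ K : Subfield F, Nat.card K = 2 ^ n := by
  have : Fact (Nat.Prime 2) := ⟨Nat.prime_two⟩
  letI : Algebra (ZMod 2) F := ZMod.algebra F 2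
  have h1 : Module.finrank (ZMod 2) F = k := by
    have := FiniteField.pow_finrank_eq_natCard 2 F
    rw [hk] at this
    exact Nat.pow_right_injective (le_refl 2) this
  have h2 : Module.finrank (ZMod 2) (GaloisField 2 n) = n := GaloisField.finrank 2 hn
  obtain ⟨f⟩ := FiniteField.nonempty_algHom_of_finrank_dvd (F := ZMod 2)
    (K := GaloisField 2 n) (L := F) (by rw [h1, h2]; exact hdvd)
  refine ⟨f.toRingHom.fieldRange, ?_⟩
  have e : GaloisField 2 n ≃ f.toRingHom.fieldRange :=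
    Equiv.ofBijective (fun x => ⟨f x, ⟨x, rfl⟩⟩)
      ⟨fun x y h => f.injective (congrArg Subtype.val h), fun ⟨y, x, hx⟩ => ⟨x, Subtype.ext hx⟩⟩
  rw [← Nat.card_congr e, GaloisField.card 2 n hn]

end general

section cent
variable {F : Type*} [Field F] [CharP F 2] [Finite F] (s : F →+* F)
  (hs : ∀ x, s (s x) = x ^ 2)

lemma Tg_Dg_inj {a b a' b' : F} {t t' : Fˣ}
    (h : Tg s hs a b * Dg s hs t = Tg s hs a' b' * Dg s hs t') :
    a = a' ∧ b = b' ∧ t = t' := by
  have h1 := congrArg (fun g => g • opt s 0 0) h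
  simp only [mul_smul, Dg_smul_opt00, Tg_smul_opt00] at h1
  obtain ⟨ha, hb⟩ := opt_inj s h1
  subst ha; subst hb
  exact ⟨rfl, rfl, Dg_injective s hs (mul_left_cancel h)⟩

lemma Dg_conj_Tg (t : Fˣ) (a b : F) :
    Dg s hs t * Tg s hs a b * (Dg s hs t)⁻¹ = Tg s hs (s t * a) ((t : F) ^ 2 * s t * b) := by
  rw [Dg_mul_Tg, mul_assoc, mul_inv_cancel, mul_one]

lemma Tg_zero_mul_comm (a b c : F) :
    Tg s hs a b * Tg s hs 0 c = Tg s hs 0 c * Tg s hs a b := by
  rw [Tg_mul, Tg_mul]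
  congr 1
  · ring
  · simp; ring

lemma conj_Tg_zero (a b : F) (t : Fˣ) (c : F) :
    (Tg s hs a b * Dg s hs t) * Tg s hs 0 c * (Tg s hs a b * Dg s hs t)⁻¹ =
      Tg s hs 0 ((t : F) ^ 2 * s t * c) := by
  have e : (Tg s hs a b * Dg s hs t) * Tg s hs 0 c * (Tg s hs a b * Dg s hs t)⁻¹ =
      Tg s hs a b * (Dg s hs t * Tg s hs 0 c * (Dg s hs t)⁻¹) * (Tg s hs a b)⁻¹ := by group
  rw [e, Dg_conj_Tg, mul_zero, Tg_zero_mul_comm, mul_assoc, mul_inv_cancel, mul_one]

lemma Tg_mul_self (a b : F) : Tg s hs a b * Tg s hs a b = Tg s hs 0 (s a * a) := by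
  have h2 : (2 : F) = 0 := CharTwo.two_eq_zero
  rw [Tg_mul]
  congr 1
  · linear_combination a * h2
  · linear_combination b * h2

lemma Tg_eq_one_iff {a b : F} : Tg s hs a b = 1 ↔ a = 0 ∧ b = 0 := by
  rw [← Tg_zero s hs]
  constructor
  · intro h; exact Tg_inj s hs h
  · rintro ⟨rfl, rfl⟩; rfl

lemma Tg_mul_self_eq_one_iff {a b : F} : Tg s hs a b * Tg s hs a b = 1 ↔ a = 0 := by
  rw [Tg_mul_self, Tg_eq_one_iff]
  constructor
  · rintro ⟨-, h⟩
    rcases mul_eq_zero.1 h with h | h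
    · exact (map_eq_zero s).1 h
    · exact h
  · rintro rfl; simp

include hs in
lemma exists_sq_mul_s_eq {c : F} (hc : c ≠ 0) : ∃ t : Fˣ, (t : F) ^ 2 * s t = c := by
  let κ : Fˣ →* Fˣ :=
    { toFun := fun t => t ^ 2 * Units.map (s : F →* F) t
      map_one' := by simp
      map_mul' := by intro a b; simp [mul_pow, mul_mul_mul_comm] }
  have hinj : Function.Injective κ := by
    rw [injective_iff_map_eq_one]
    intro t ht
    have h1 : (t : F) ^ 2 * s t = 1 := by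
      have := congrArg Units.val ht
      simpa [κ] using this
    exact Units.ext (sq_mul_s_eq_one s hs h1)
  obtain ⟨t, ht⟩ := (Finite.injective_iff_surjective.1 hinj) (Units.mk0 c hc)
  refine ⟨t, ?_⟩
  have := congrArg Units.val ht
  simpa [κ] using this

lemma fix_oinf_of_commute {a b : F} (hab : ¬(a = 0 ∧ b = 0)) {g : G s}
    (hc : g * Tg s hs a b = Tg s hs a b * g) : g • oinf s = oinf s := by
  apply Tg_fix_only s hs hab
  rw [← mul_smul, ← hc, mul_smul, Tg_smul_oinf]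

include hs in
/-- every `2`-element is conjugate into the standard Sylow `2`-subgroup. -/
lemma exists_conj_Tg (hnt : ∃ y : F, s y ≠ y ^ 2) {k : ℕ} (hk : Nat.card F = 2 ^ k)
    {e : G s} {j : ℕ} (he : e ^ (2 ^ j) = 1) :
    ∃ x : G s, ∃ a b, e = x * Tg s hs a b * x⁻¹ := by
  have : Fact (Nat.Prime 2) := ⟨Nat.prime_two⟩
  have hp : IsPGroup 2 (Subgroup.zpowers e) := by
    obtain ⟨i, -, hi⟩ := (Nat.dvd_prime_pow Nat.prime_two).1 (orderOf_dvd_of_pow_eq_one he)
    exact IsPGroup.of_card (n := i) (by rw [Nat.card_zpowers, hi])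
  obtain ⟨P, hP⟩ := hp.exists_le_sylow
  obtain ⟨x, hx⟩ := MulAction.exists_smul_eq (G s) (Q0 s hs hnt hk) P
  have he' : e ∈ (P : Subgroup (G s)) := hP (Subgroup.mem_zpowers e)
  have hPQ : (P : Subgroup (G s)) = (Qs s hs).map (MulAut.conj x).toMonoidHom := by
    rw [← hx]; rfl
  rw [hPQ] at he'
  obtain ⟨q, ⟨a, b, rfl⟩, hq⟩ := he'
  exact ⟨x, a, b, hq.symm⟩

include hs in
/-- every involution is conjugate to a central element of the standard Sylow `2`-subgroup. -/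
lemma exists_conj_Tg_zero (hnt : ∃ y : F, s y ≠ y ^ 2) {k : ℕ} (hk : Nat.card F = 2 ^ k)
    {e : G s} (he : e ^ 2 = 1) :
    ∃ x : G s, ∃ b, e = x * Tg s hs 0 b * x⁻¹ := by
  obtain ⟨x, a, b, rfl⟩ := exists_conj_Tg s hs hnt hk (j := 1) (by simpa using he)
  refine ⟨x, b, ?_⟩
  have h1 : Tg s hs a b * Tg s hs a b = 1 := by
    have e1 : (x * Tg s hs a b * x⁻¹) ^ 2 = x * (Tg s hs a b * Tg s hs a b) * x⁻¹ := by
      rw [sq]; group
    rw [e1] at he
    have e2 : Tg s hs a b * Tg s hs a b = x⁻¹ * (x * (Tg s hs a b * Tg s hs a b) * x⁻¹) * x := by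
      group
    rw [e2, he]; group
  rw [(Tg_mul_self_eq_one_iff s hs).1 h1]

end cent

end Cfsg.Agent.Lib.Helper6.Sz
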