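import Cfsg.Agent.Lib.Helper6.BN

set_option autoImplicit false

namespace Cfsg.Agent.Lib.Helper6

open Cfsg
open scoped Pointwise

variable {G : Type*} [Group G] {P : Cfsg.BNPair G} {J : Set G}

/-- if `M ≥ B` contains `n B n⁻¹` for `n ∈ N`, then it contains `n`. -/
theorem mem_of_conj_B_le {M : Subgroup G} (hB : P.B ≤ M) :
    ∀ k : ℕ, ∀ n : G, n ∈ P.N → len P P.S n = k → (∀ b ∈ P.B, n * b * n⁻¹ ∈ M) → n ∈ M := by
  intro k
  induction k using Nat.strong_induction_on with
  | _ k ih =>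
    intro n hn hk hconj
    by_cases hnB : n ∈ P.B
    · exact hB hnB
    · obtain ⟨s, hs, hrep', hlt, b, hb, h⟩ := exists_descent subset_rfl (hasRep_of_mem_N hn) hnB
      rw [mem_C] at h
      obtain ⟨b1, hb1, b2, hb2, he⟩ := h
      have hsM : s ∈ M := by
        have e : s = b1 * (n * b2 * n⁻¹) * b⁻¹ := by
          have : s = (s * b * n) * n⁻¹ * b⁻¹ := by group
          rw [this, he]; group
        rw [e]
        exact M.mul_mem (M.mul_mem (hB hb1) (hconj b2 hb2)) (M.inv_mem (hB hb))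
      have h1 : s⁻¹ * n ∈ M := by
        apply ih _ (hk ▸ hlt) (s⁻¹ * n) hrep'.mem_N rfl
        intro x hx
        have e : s⁻¹ * n * x * (s⁻¹ * n)⁻¹ = s⁻¹ * (n * x * n⁻¹) * s := by group
        rw [e]
        exact M.mul_mem (M.mul_mem (M.inv_mem hsM) (hconj x hx)) hsM
      have e : n = s * (s⁻¹ * n) := by group
      rw [e]
      exact M.mul_mem hsM h1

theorem mem_of_conj_B_le' {M : Subgroup G} (hB : P.B ≤ M) {n : G} (hn : n ∈ P.N)
    (hconj : ∀ b ∈ P.B, n * b * n⁻¹ ∈ M) : n ∈ M :=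
  mem_of_conj_B_le hB _ n hn rfl hconj

/-- version for arbitrary group elements. -/
theorem mem_of_conj_B_le'' {M : Subgroup G} (hB : P.B ≤ M) {g : G}
    (hconj : ∀ b ∈ P.B, g * b * g⁻¹ ∈ M) : g ∈ M := by
  obtain ⟨n, hn, hgn⟩ := bruhat_exists (P := P) g
  rw [mem_C] at hgn
  obtain ⟨a, ha, b, hb, rfl⟩ := hgn
  have hnM : n ∈ M := by
    apply mem_of_conj_B_le' hB hn
    intro x hx
    have h1 := hconj (b⁻¹ * x * b) (P.B.mul_mem (P.B.mul_mem (P.B.inv_mem hb) hx) hb)
    have e : n * x * n⁻¹ = a⁻¹ * (a * n * b * (b⁻¹ * x * b) * (a * n * b)⁻¹) * a := by group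
    rw [e]
    exact M.mul_mem (M.mul_mem (M.inv_mem (hB ha)) h1) (hB ha)
  exact M.mul_mem (M.mul_mem (hB ha) hnM) (hB hb)

/-- S0318 -/
theorem sup_closure_singleton_eq {n : G} (hn : n ∈ P.N) :
    P.B ⊔ Subgroup.closure {n} = P.B ⊔ P.B.map (MulAut.conj n).toMonoidHom := by
  apply le_antisymm
  · apply sup_le le_sup_left
    rw [Subgroup.closure_le]
    intro x hx
    rw [Set.mem_singleton_iff] at hx
    subst hx
    apply mem_of_conj_B_le' (P := P) le_sup_left hn
    intro b hb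
    apply Subgroup.mem_sup_right
    exact ⟨b, hb, by simp⟩
  · apply sup_le le_sup_left
    rintro x ⟨b, hb, rfl⟩
    have hnm : n ∈ P.B ⊔ Subgroup.closure {n} :=
      Subgroup.mem_sup_right (Subgroup.subset_closure rfl)
    have : (MulAut.conj n).toMonoidHom b = n * b * n⁻¹ := by simp
    rw [this]
    exact Subgroup.mul_mem _ (Subgroup.mul_mem _ hnm (Subgroup.mem_sup_left hb))
      (Subgroup.inv_mem _ hnm)

/-- S0312 -/
theorem normalizer_parabolic (J : Set G) :
    Subgroup.normalizer (P.parabolic J : Set G) = P.parabolic J := by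
  apply le_antisymm
  · intro g hg
    apply mem_of_conj_B_le'' (P := P) (B_le_parabolic J)
    intro b hb
    exact (hg b).1 (B_le_parabolic J hb)
  · exact Subgroup.le_normalizer

/-- S0313 -/
theorem parabolic_eq_of_conj {J K : Set G} (g : G)
    (h : (P.parabolic J).map (MulAut.conj g).toMonoidHom = P.parabolic K) :
    P.parabolic J = P.parabolic K := by
  have hg : g ∈ P.parabolic K := by
    apply mem_of_conj_B_le'' (P := P) (B_le_parabolic K)
    intro b hb
    rw [← h]
    exact ⟨b, B_le_parabolic J hb, by simp⟩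
  ext x
  constructor
  · intro hx
    have h1 : g * x * g⁻¹ ∈ P.parabolic K := by
      rw [← h]; exact ⟨x, hx, by simp⟩
    have e : x = g⁻¹ * (g * x * g⁻¹) * g := by group
    rw [e]
    exact Subgroup.mul_mem _ (Subgroup.mul_mem _ (Subgroup.inv_mem _ hg) h1) hg
  · intro hx
    have h1 : g * x * g⁻¹ ∈ P.parabolic K :=
      Subgroup.mul_mem _ (Subgroup.mul_mem _ hg hx) (Subgroup.inv_mem _ hg)
    rw [← h] at h1
    obtain ⟨y, hy, hyx⟩ := h1
    have : y = x := by
      have : g * y * g⁻¹ = g * x * g⁻¹ := by simpa using hyx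
      simpa using this
    exact this ▸ hy

/-- elements of `closure {s}` are in `B` or equivalent to `s`. -/
lemma closure_singleton_cases {s : G} (hs : s ∈ P.S) {n : G} (hn : n ∈ Subgroup.closure {s}) :
    n ∈ P.B ∨ s⁻¹ * n ∈ P.B := by
  have hsN := P.subset hs
  have hle : Subgroup.closure {s} ≤ P.N := by
    rw [Subgroup.closure_le]; intro x hx; rw [Set.mem_singleton_iff] at hx; exact hx ▸ hsN
  induction hn using Subgroup.closure_induction'' with
  | mem x hx =>
    rw [Set.mem_singleton_iff] at hx; subst hx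
    right; simp [P.B.one_mem]
  | inv_mem x hx =>
    rw [Set.mem_singleton_iff] at hx; subst hx
    right
    have e : x⁻¹ * x⁻¹ = (x * x)⁻¹ := by group
    rw [e]; exact P.B.inv_mem (P.sq_mem x hs)
  | one => left; exact P.B.one_mem
  | mul x y hx hy ihx ihy =>
    have hxN := hle hx
    have hyN := hle hy
    rcases ihx with hxB | hxB <;> rcases ihy with hyB | hyB
    · left; exact P.B.mul_mem hxB hyB
    · right
      have e : s⁻¹ * (x * y) = (s⁻¹ * x * s) * (s⁻¹ * y) := by group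
      rw [e]
      exact P.B.mul_mem (conj_mem_B' P hsN hxB hxN) hyB
    · right
      have e : s⁻¹ * (x * y) = (s⁻¹ * x) * y := by group
      rw [e]
      exact P.B.mul_mem hxB hyB
    · left
      have e : x * y = (s * s) * (s⁻¹ * (s⁻¹ * x) * s) * (s⁻¹ * y) := by group
      rw [e]
      have h1 : s⁻¹ * x ∈ P.N := P.N.mul_mem (P.N.inv_mem hsN) hxN
      exact P.B.mul_mem (P.B.mul_mem (P.sq_mem s hs) (conj_mem_B' P hsN hxB h1)) hyB

/-- `P_{s} = B ∪ B s B`. -/
theorem mem_parabolic_singleton {s : G} (hs : s ∈ P.S) {g : G} :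
    g ∈ P.parabolic {s} ↔ g ∈ P.B ∨ g ∈ C P s := by
  have hJ : ({s} : Set G) ⊆ P.S := by
    intro x hx; rw [Set.mem_singleton_iff] at hx; exact hx ▸ hs
  constructor
  · intro hg
    obtain ⟨n, hn, hgn⟩ := (mem_parabolic_iff hJ).1 hg
    rcases closure_singleton_cases hs hn with h | h
    · left; exact (mem_C_of_B_iff P h).1 hgn
    · right; rw [← C_eq_of_eqv P h]; exact hgn
  · rintro (h | h)
    · exact B_le_parabolic _ h
    · have hs' : s ∈ Subgroup.closure ({s} : Set G) := Subgroup.subset_closure (Set.mem_singleton s)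
      exact C_subset_parabolic (P := P) (J := {s}) hs' h

/-- `S ∩ P_J = J`. -/
theorem mem_of_mem_parabolic (hJ : J ⊆ P.S) {s : G} (hs : s ∈ P.S) (h : s ∈ P.parabolic J) :
    s ∈ J := by
  have hsN := P.subset hs
  have hrep : HasRep P J s := hasRep_of_mem_parabolic hJ hsN h
  obtain ⟨s1, hs1, -, -, b, hb, hd⟩ := exists_descent hJ hrep (S_not_mem_B P hs)
  have hs1S := hJ hs1
  have h1 : s1 ∈ P.parabolic {s} :=
    descent_mem (B_le_parabolic _) (subset_parabolic {s} rfl) hb hd
  rcases (mem_parabolic_singleton hs).1 h1 with h2 | h2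
  · exact absurd h2 (S_not_mem_B P hs1S)
  · have hC : C P s1 = C P s := C_eq_of_mem P h2
    have h3 := bruhat_unique (P.subset hs1S) hsN hC
    have := P.inj s1 hs1S s hs h3
    exact this ▸ hs1

theorem S_inter_parabolic (hJ : J ⊆ P.S) : P.S ∩ (P.parabolic J : Set G) = J := by
  ext s
  constructor
  · rintro ⟨hs, h⟩
    exact mem_of_mem_parabolic hJ hs h
  · intro hs
    exact ⟨hJ hs, subset_parabolic J hs⟩

/-- S0314 -/
theorem parabolic_injective {J K : Set G} (hJ : J ⊆ P.S) (hK : K ⊆ P.S)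
    (h : P.parabolic J = P.parabolic K) : J = K := by
  rw [← S_inter_parabolic hJ, ← S_inter_parabolic hK, h]

theorem parabolic_le_iff {J K : Set G} (hJ : J ⊆ P.S) (hK : K ⊆ P.S) :
    P.parabolic J ≤ P.parabolic K ↔ J ⊆ K := by
  constructor
  · intro h s hs
    exact mem_of_mem_parabolic hK (hJ hs) (h (subset_parabolic J hs))
  · exact parabolic_mono

/-- S0315 -/
theorem parabolic_inf {J K : Set G} (hJ : J ⊆ P.S) (hK : K ⊆ P.S) :
    P.parabolic J ⊓ P.parabolic K = P.parabolic (J ∩ K) := by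
  have hB : P.B ≤ P.parabolic J ⊓ P.parabolic K := le_inf (B_le_parabolic J) (B_le_parabolic K)
  rw [overgroup_eq_parabolic hB]
  congr 1
  ext s
  constructor
  · rintro ⟨hs, h1, h2⟩
    exact ⟨mem_of_mem_parabolic hJ hs h1, mem_of_mem_parabolic hK hs h2⟩
  · rintro ⟨h1, h2⟩
    exact ⟨hJ h1, subset_parabolic J h1, subset_parabolic K h2⟩

/-- S0317 -/
theorem generator_not_mem {s : G} (hs : s ∈ P.S) :
    s ∉ Subgroup.closure (P.S \ {s}) ⊔ (P.B ⊓ P.N) := by
  intro h
  have hle : Subgroup.closure (P.S \ {s}) ⊔ (P.B ⊓ P.N) ≤ P.parabolic (P.S \ {s}) :=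
    sup_le (closure_le_parabolic _) (le_trans inf_le_left (B_le_parabolic _))
  have := mem_of_mem_parabolic (J := P.S \ {s}) Set.sdiff_subset hs (hle h)
  exact this.2 rfl

/-- S0321 -/
theorem union_is_subgroup_iff {n : G} (hn : n ∈ P.N) (hnB : n ∉ P.B) :
    (∃ H : Subgroup G, (H : Set G) = (P.B : Set G) ∪ C P n) ↔ ∃ s ∈ P.S, s⁻¹ * n ∈ P.B := by
  constructor
  · rintro ⟨M, hM⟩
    have hB : P.B ≤ M := by
      intro x hx
      have : x ∈ (M : Set G) := by rw [hM]; exact Or.inl hx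
      exact this
    have hnM : n ∈ M := by
      have : n ∈ (M : Set G) := by rw [hM]; exact Or.inr (self_mem_C P n)
      exact this
    obtain ⟨s, hs, -, -, b, hb, hd⟩ := exists_descent subset_rfl (hasRep_of_mem_N hn) hnB
    have hsM : s ∈ (M : Set G) := descent_mem hB hnM hb hd
    rw [hM] at hsM
    rcases hsM with h | h
    · exact absurd h (S_not_mem_B P hs)
    · exact ⟨s, hs, bruhat_unique (P.subset hs) hn (C_eq_of_mem P h)⟩
  · rintro ⟨s, hs, h⟩
    refine ⟨P.parabolic {s}, ?_⟩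
    ext g
    rw [SetLike.mem_coe, mem_parabolic_singleton hs, C_eq_of_eqv P h]
    rfl

end Cfsg.Agent.Lib.Helper6
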