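import Cfsg.Agent.Lib.Helper6.BN2

set_option autoImplicit false

namespace Cfsg.Agent.Lib.Helper6

open Cfsg
open scoped Pointwise

variable {G : Type*} [Group G] {P : Cfsg.BNPair G} {J : Set G}

lemma len_S_eq_one {s : G} (hs : s ∈ P.S) : len P P.S s = 1 := by
  have hrep : HasRep P P.S s := hasRep_of_mem_N (P.subset hs)
  have h1 : len P P.S s ≤ 1 := by
    have : Rep P P.S [s] s := ⟨fun x hx => by rw [List.mem_singleton] at hx; exact hx ▸ hs,
      P.subset hs, by simp [P.B.one_mem]⟩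
    simpa using len_le_of_rep this
  have h2 : len P P.S s ≠ 0 := fun h => S_not_mem_B P hs ((len_eq_zero_iff hrep).1 h)
  omega

/-- the length changes by exactly one. -/
lemma len_smul_cases {s n : G} (hs : s ∈ P.S) (hn : n ∈ P.N) :
    len P P.S (s * n) = len P P.S n + 1 ∨ len P P.S n = len P P.S (s * n) + 1 := by
  have hrep := hasRep_of_mem_N hn
  have h1 := len_smul_le subset_rfl hs hrep
  have h2 := len_le_smul subset_rfl hs hrep
  have h3 := len_smul_ne subset_rfl hrep hs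
  omega

/-- key step in the simplicity criterion: if `M ≥ B` is a subgroup, `s1 ∈ M`, `s2 ∉ M` and
`s2 * s1 * s2 ∈ M` then `s1` and `s2` commute modulo `B ⊓ N`. -/
theorem comm_of_conj_mem {M : Subgroup G} (hB : P.B ≤ M) {s1 s2 : G} (hs1 : s1 ∈ P.S)
    (hs2 : s2 ∈ P.S) (h1M : s1 ∈ M) (h2M : s2 ∉ M) (hn : s2 * (s1 * s2) ∈ M) :
    s1 * s2 * s1⁻¹ * s2⁻¹ ∈ P.B := by
  have hs1N := P.subset hs1
  have hs2N := P.subset hs2
  have hne : s1 ≠ s2 := fun h => h2M (h ▸ h1M)
  have hmN : s1 * s2 ∈ P.N := P.N.mul_mem hs1N hs2N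
  have hnN : s2 * (s1 * s2) ∈ P.N := P.N.mul_mem hs2N hmN
  -- length of m = s1 s2 is 2
  have hm : len P P.S (s1 * s2) = 2 := by
    rcases len_smul_cases hs1 hs2N with h | h
    · rw [h, len_S_eq_one hs2]
    · exfalso
      rw [len_S_eq_one hs2] at h
      have h0 : len P P.S (s1 * s2) = 0 := by omega
      have hb := (len_eq_zero_iff (hasRep_of_mem_N hmN)).1 h0
      apply hne
      apply P.inj s1 hs1 s2 hs2
      have e : s1⁻¹ * s2 = (s1 * s1)⁻¹ * (s1 * s2) := by group
      rw [e]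
      exact P.B.mul_mem (P.B.inv_mem (P.sq_mem s1 hs1)) hb
  rcases len_smul_cases hs2 hmN with h | h
  · -- length 3: then s2 ∈ M, contradiction
    exfalso
    have hle : len P P.S (s2 * (s2 * (s1 * s2))) ≤ len P P.S (s2 * (s1 * s2)) := by
      have e : s2 * (s2 * (s1 * s2)) = s2 * s2 * (s1 * s2) := by group
      rw [e, len_congr (P.N.mul_mem (P.N.mul_mem hs2N hs2N) hmN) hmN (sq_mul_eqv hs2 hmN)]
      omega
    obtain ⟨b, hb, hd⟩ := lemmaB subset_rfl (hasRep_of_mem_N hnN) hs2 hle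
    exact h2M (descent_mem hB hn hb hd)
  · -- length 1
    rw [hm] at h
    have h1 : len P P.S (s2 * (s1 * s2)) = 1 := by omega
    obtain ⟨L, hL, hr⟩ := (hasRep_of_mem_N hnN).exists_rep_len
    rw [h1] at hL
    obtain ⟨s3, L', rfl⟩ := List.exists_cons_of_length_eq_add_one hL
    have hL' : L' = [] := by
      simp only [List.length_cons] at hL
      exact List.length_eq_zero_iff.1 (by omega)
    subst hL'
    have hs3 : s3 ∈ P.S := hr.1 s3 List.mem_cons_self
    have h3 : s3⁻¹ * (s2 * (s1 * s2)) ∈ P.B := by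
      have := hr.2.2
      simpa using this
    -- s3 ∈ M
    have hs3M : s3 ∈ M := by
      have e : s3 = (s2 * (s1 * s2)) * (s3⁻¹ * (s2 * (s1 * s2)))⁻¹ := by group
      rw [e]
      exact M.mul_mem hn (M.inv_mem (hB h3))
    have hne3 : s3 ≠ s2 := fun h => h2M (h ▸ hs3M)
    -- s3 ∈ P_{s1,s2}
    have hJ : ({s1, s2} : Set G) ⊆ P.S := by
      intro x hx
      rcases hx with hx | hx
      · exact hx ▸ hs1
      · rw [Set.mem_singleton_iff] at hx; exact hx ▸ hs2
    have hs3Q : s3 ∈ P.parabolic {s1, s2} := by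
      have e : s3 = (s2 * (s1 * s2)) * (s3⁻¹ * (s2 * (s1 * s2)))⁻¹ := by group
      rw [e]
      have q1 : s1 ∈ P.parabolic {s1, s2} := subset_parabolic _ (by simp)
      have q2 : s2 ∈ P.parabolic {s1, s2} := subset_parabolic _ (by simp)
      exact Subgroup.mul_mem _ (Subgroup.mul_mem _ q2 (Subgroup.mul_mem _ q1 q2))
        (Subgroup.inv_mem _ (B_le_parabolic _ h3))
    have hs3J := mem_of_mem_parabolic hJ hs3 hs3Q
    have hs31 : s3 = s1 := by
      rcases hs3J with h | h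
      · exact h
      · rw [Set.mem_singleton_iff] at h; exact absurd h hne3
    subst hs31
    -- d = s3⁻¹ s2 s3 s2 ∈ H
    have hdN : s3⁻¹ * (s2 * (s3 * s2)) ∈ P.N := P.N.mul_mem (P.N.inv_mem hs1N) hnN
    have hsq := sq_mem_H P hs2
    have h4 : s3⁻¹ * (s2 * (s3 * s2)) * (s2 * s2)⁻¹ ∈ P.B ⊓ P.N :=
      (P.B ⊓ P.N).mul_mem ⟨h3, hdN⟩ ((P.B ⊓ P.N).inv_mem hsq)
    have h5 := conj_mem_H P hs1N h4
    have e : s3 * s2 * s3⁻¹ * s2⁻¹ =
        (s3 * (s3⁻¹ * (s2 * (s3 * s2)) * (s2 * s2)⁻¹) * s3⁻¹)⁻¹ := by group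
    rw [e]
    exact P.B.inv_mem h5.1

/-- S0319 : simplicity criterion. -/
theorem simple_of_irreducible [Nontrivial G] (hirr : P.Irreducible)
    (hsolv : Group.IsSolvable P.B) (hperf : commutator G = ⊤) (hcore : P.B.normalCore = ⊥) :
    IsSimpleGroup G := by
  refine ⟨fun K hK => ?_⟩
  have hB : P.B ≤ K ⊔ P.B := le_sup_right
  have hM := overgroup_eq_parabolic hB
  set J : Set G := P.S ∩ ((K ⊔ P.B : Subgroup G) : Set G) with hJdef
  have hJS : J ⊆ P.S := Set.inter_subset_left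
  have hcomm : ∀ s1 ∈ J, ∀ s2 ∈ P.S \ J, s1 * s2 * s1⁻¹ * s2⁻¹ ∈ P.B := by
    rintro s1 ⟨hs1, hs1M⟩ s2 ⟨hs2, hs2J⟩
    have hs2M : s2 ∉ K ⊔ P.B := fun h => hs2J ⟨hs2, h⟩
    have hs1N := P.subset hs1
    have hs2N := P.subset hs2
    -- s1 = k * b
    have hmem : s1 ∈ ((K ⊔ P.B : Subgroup G) : Set G) := hs1M
    rw [Subgroup.normal_mul] at hmem
    obtain ⟨k, hk, b, hb, hkb⟩ := Set.mem_mul.1 hmem
    have hkeq : k = s1 * b⁻¹ := by rw [← hkb]; group
    -- k' = s2 k s2⁻¹ ∈ K
    have hk' : s2 * k * s2⁻¹ ∈ K := hK.conj_mem k hk s2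
    have hk'M : s2 * k * s2⁻¹ ∈ K ⊔ P.B := Subgroup.mem_sup_left hk'
    have hg : s2 * s1 * b⁻¹ ∈ C P (s2 * s1) :=
      mul_mem_C_right P (P.B.inv_mem hb) (self_mem_C P _)
    have h3 := T3_right_inv P hs2 (P.N.mul_mem hs2N hs1N) hg
    have e3 : s2 * s1 * b⁻¹ * s2⁻¹ = s2 * k * s2⁻¹ := by rw [hkeq]; group
    rw [e3, C_mul_inv P hs2] at h3
    -- in either case the representative lies in M
    have hrepM : ∀ n : G, s2 * k * s2⁻¹ ∈ C P n → n ∈ K ⊔ P.B := by
      intro n hn
      rw [mem_C] at hn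
      obtain ⟨a, ha, c, hc, he⟩ := hn
      have e : n = a⁻¹ * (s2 * k * s2⁻¹) * c⁻¹ := by rw [he]; group
      rw [e]
      exact Subgroup.mul_mem _ (Subgroup.mul_mem _ (Subgroup.inv_mem _ (hB ha)) hk'M)
        (Subgroup.inv_mem _ (hB hc))
    rcases h3 with h3 | h3
    · have hn := hrepM _ h3
      have e : s2 * s1 * s2 = s2 * (s1 * s2) := by group
      rw [e] at hn
      exact comm_of_conj_mem hB hs1 hs2 hs1M hs2M hn
    · exfalso
      have hn := hrepM _ h3
      apply hs2M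
      have e : s2 = (s2 * s1) * s1⁻¹ := by group
      rw [e]
      exact Subgroup.mul_mem _ hn (Subgroup.inv_mem _ hs1M)
  -- use irreducibility
  by_cases hJne : J.Nonempty
  · by_cases hJc : (P.S \ J).Nonempty
    · exfalso
      obtain ⟨s, hs, s', hs', hnot⟩ := hirr J hJS hJne hJc
      exact hnot (hcomm s hs s' hs')
    · -- J = S, so K ⊔ B = ⊤
      right
      have hJeq : J = P.S := by
        apply Set.Subset.antisymm hJS
        intro x hx
        by_contra hxJ
        exact hJc ⟨x, hx, hxJ⟩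
      have htop : K ⊔ P.B = ⊤ := by rw [hM, hJeq, parabolic_S]
      -- G ⧸ K is solvable and perfect
      have hsurj : Function.Surjective ((QuotientGroup.mk' K).comp P.B.subtype) := by
        intro q
        obtain ⟨g, rfl⟩ := QuotientGroup.mk'_surjective K q
        have hg : g ∈ ((K ⊔ P.B : Subgroup G) : Set G) := by rw [htop]; trivial
        rw [Subgroup.normal_mul] at hg
        obtain ⟨k, hk, b, hb, hkb⟩ := Set.mem_mul.1 hg
        refine ⟨⟨b, hb⟩, ?_⟩
        simp only [MonoidHom.coe_comp, Function.comp_apply, Subgroup.coe_subtype,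
          QuotientGroup.mk'_apply]
        rw [QuotientGroup.eq, ← hkb]
        have e : b⁻¹ * (k * b) = b⁻¹ * k * b⁻¹⁻¹ := by group
        rw [e]
        exact hK.conj_mem k hk b⁻¹
      have : Group.IsSolvable (G ⧸ K) := Group.isSolvable_of_surjective hsurj
      have hperfQ : commutator (G ⧸ K) = ⊤ := by
        rw [commutator_def]
        have h1 : (⊤ : Subgroup (G ⧸ K)) = Subgroup.map (QuotientGroup.mk' K) ⊤ :=
          (Subgroup.map_top_of_surjective _ (QuotientGroup.mk'_surjective K)).symm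
        rw [h1, ← Subgroup.map_commutator, ← commutator_def, hperf]
      by_contra hKtop
      have : Nontrivial (G ⧸ K) := by
        by_contra hnt
        rw [not_nontrivial_iff_subsingleton] at hnt
        exact hKtop (QuotientGroup.subgroup_eq_top_of_subsingleton K hnt)
      exact (Group.IsSolvable.commutator_lt_top_of_nontrivial (G ⧸ K)).ne hperfQ
  · -- J = ∅, so K ≤ B
    left
    have hJeq : J = ∅ := Set.not_nonempty_iff_eq_empty.1 hJne
    have hKB : K ⊔ P.B = P.B := by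
      rw [hM, hJeq]
      unfold BNPair.parabolic
      simp
    have hle : K ≤ P.B := by rw [← hKB]; exact le_sup_left
    have := (Subgroup.normal_le_normalCore (H := P.B) (N := K)).2 hle
    rw [hcore] at this
    exact le_bot_iff.1 this

end Cfsg.Agent.Lib.Helper6
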