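import Cfsg.Agent.Lib.Helper6.SzTrans

set_option autoImplicit false

/-! # Simplicity of the Suzuki groups -/

namespace Cfsg.Agent.Lib.Helper6.Sz

open Matrix
open scoped Pointwise commutatorElement

section conj
variable {F : Type*} [Field F] [CharP F 2] (s : F →+* F) (hs : ∀ x, s (s x) = x ^ 2)

include hs in
lemma Dm_mul_Tm {t : F} (ht : t ≠ 0) (a b : F) :
    Dm s t * Tm s a b = Tm s (s t * a) (t ^ 2 * s t * b) * Dm s t := by
  have hst : s t ≠ 0 := by simpa using ht
  have hff := ff_scale s hs t a b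
  ext i j
  fin_cases i <;> fin_cases j <;>
    simp [Tm, Dm, Matrix.mul_apply, Fin.sum_univ_four, hs, hff] <;> field_simp

omit [CharP F 2] in
lemma Wm_mul_Dm {t : F} (ht : t ≠ 0) : Wm * Dm s t = Dm s t⁻¹ * Wm := by
  have hst : s t ≠ 0 := by simpa using ht
  ext i j
  fin_cases i <;> fin_cases j <;>
    simp [Wm, Dm, Matrix.mul_apply, Fin.sum_univ_four] <;> ring

include hs in
lemma sq_mul_s_eq_one {t : F} (h : t ^ 2 * s t = 1) : t = 1 := by
  have e2 : (s t * t) ^ 2 = 1 := by
    have := congrArg s h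
    rw [map_mul, map_pow, hs, map_one] at this
    linear_combination this
  have e3 := sq_eq_one_char_two e2
  linear_combination h - t * e3

end conj

section grp
variable {F : Type*} [Field F] [CharP F 2] [Finite F] (s : F →+* F)
  (hs : ∀ x, s (s x) = x ^ 2)

lemma Dg_mul_Tg (t : Fˣ) (a b : F) :
    Dg s hs t * Tg s hs a b = Tg s hs (s t * a) ((t : F) ^ 2 * s t * b) * Dg s hs t := by
  apply Subtype.ext; apply Subtype.ext
  exact Dm_mul_Tm s hs t.ne_zero a b

lemma Wg_mul_Dg (t : Fˣ) : Wg s hs * Dg s hs t = Dg s hs t⁻¹ * Wg s hs := by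
  apply Subtype.ext; apply Subtype.ext
  show Wm * Dm s (t : F) = Dm s ((t⁻¹ : Fˣ) : F) * Wm
  rw [Units.val_inv_eq_inv_val]
  exact Wm_mul_Dm s t.ne_zero

lemma Wg_mul_Wg : Wg s hs * Wg s hs = 1 := by
  apply Subtype.ext; apply Subtype.ext
  exact Wm_mul_Wm

lemma Wg_inv : (Wg s hs)⁻¹ = Wg s hs := inv_eq_of_mul_eq_one_left (Wg_mul_Wg s hs)

lemma Tg_inv (a b : F) : (Tg s hs a b)⁻¹ = Tg s hs a (b + a * s a) := by
  have h2 : (2 : F) = 0 := CharTwo.two_eq_zero
  apply inv_eq_of_mul_eq_one_right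
  rw [Tg_mul, ← Tg_zero s hs]
  congr 1
  · linear_combination a * h2
  · linear_combination (b + a * s a) * h2

lemma Dg_inv (t : Fˣ) : (Dg s hs t)⁻¹ = Dg s hs t⁻¹ := by
  apply inv_eq_of_mul_eq_one_right
  rw [← Dg_mul, mul_inv_cancel, Dg_one]

lemma Tg_mul_Tg_zero (a b c : F) : Tg s hs a b * Tg s hs 0 c = Tg s hs a (b + c) := by
  rw [Tg_mul]; congr 1 <;> simp

lemma comm_Dg_Tg (t : Fˣ) (a b : F) :
    ⁅Dg s hs t, Tg s hs a b⁆ =
      Tg s hs (s t * a + a) ((t : F) ^ 2 * s t * b + (b + a * s a) + s (s t * a) * a) := by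
  rw [commutatorElement_def, Dg_mul_Tg, mul_assoc (Tg s hs _ _), mul_inv_cancel, mul_one,
    Tg_inv, Tg_mul]

include hs in
lemma Tg_zero_mem_commutator (hnt : ∃ y : F, s y ≠ y ^ 2) (c : F) :
    Tg s hs 0 c ∈ commutator (G s) := by
  have h2 : (2 : F) = 0 := CharTwo.two_eq_zero
  obtain ⟨y, hy0, hy1⟩ := exists_ne_zero_one s hnt
  set t : Fˣ := Units.mk0 y hy0 with ht
  have hlam : (y ^ 2 * s y + 1 : F) ≠ 0 := by
    intro h
    apply hy1
    apply sq_mul_s_eq_one s hs
    linear_combination h - h2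
  have hmem : ⁅Dg s hs t, Tg s hs 0 (c / (y ^ 2 * s y + 1))⁆ ∈ commutator (G s) :=
    Subgroup.commutator_mem_commutator (Subgroup.mem_top _) (Subgroup.mem_top _)
  rw [comm_Dg_Tg] at hmem
  convert hmem using 2
  · simp
  · simp only [ht, Units.val_mk0, mul_zero, map_zero, zero_mul, add_zero]
    field_simp

include hs in
lemma Tg_mem_commutator (hnt : ∃ y : F, s y ≠ y ^ 2) (a b : F) :
    Tg s hs a b ∈ commutator (G s) := by
  have h2 : (2 : F) = 0 := CharTwo.two_eq_zero
  obtain ⟨y, hy0, hy1⟩ := exists_ne_zero_one s hnt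
  set t : Fˣ := Units.mk0 y hy0 with ht
  have hmu : (s y + 1 : F) ≠ 0 := by
    intro h
    apply hy1
    apply s.injective
    rw [map_one]
    linear_combination h - h2
  have hmem : ⁅Dg s hs t, Tg s hs (a / (s y + 1)) 0⁆ ∈ commutator (G s) :=
    Subgroup.commutator_mem_commutator (Subgroup.mem_top _) (Subgroup.mem_top _)
  rw [comm_Dg_Tg] at hmem
  have e1 : s (t : F) * (a / (s y + 1)) + a / (s y + 1) = a := by
    simp only [ht, Units.val_mk0]; field_simp
  rw [e1] at hmem
  set b0 := (t : F) ^ 2 * s t * 0 + (0 + a / (s y + 1) * s (a / (s y + 1))) +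
    s (s (t : F) * (a / (s y + 1))) * (a / (s y + 1)) with hb0
  have h3 := (commutator (G s)).mul_mem hmem (Tg_zero_mem_commutator s hs hnt (b0 + b))
  rw [Tg_mul_Tg_zero] at h3
  convert h3 using 2
  linear_combination (-b0) * h2

include hs in
lemma exists_sq_unit (t : Fˣ) : ∃ u : Fˣ, u⁻¹ * u⁻¹ = t := by
  have h2 : (2 : F) = 0 := CharTwo.two_eq_zero
  have hinj : Function.Injective (fun x : F => x ^ 2) := by
    intro x y h
    have h' : x ^ 2 = y ^ 2 := h
    have : (x - y) ^ 2 = 0 := by linear_combination h' + (y ^ 2 - x * y) * h2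
    exact sub_eq_zero.1 (pow_eq_zero_iff (two_ne_zero) |>.1 this)
  obtain ⟨r, hr⟩ := (Finite.injective_iff_surjective.1 hinj) (t : F)
  have hr' : r ^ 2 = (t : F) := hr
  have hr0 : r ≠ 0 := by
    rintro rfl
    simp at hr'
    exact t.ne_zero hr'.symm
  refine ⟨(Units.mk0 r hr0)⁻¹, ?_⟩
  apply Units.ext
  simp only [inv_inv, Units.val_mul, Units.val_mk0]
  rw [← hr', sq]

include hs in
lemma Dg_mem_commutator (t : Fˣ) : Dg s hs t ∈ commutator (G s) := by
  obtain ⟨u, hu⟩ := exists_sq_unit s hs t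
  have hmem : ⁅Wg s hs, Dg s hs u⁆ ∈ commutator (G s) :=
    Subgroup.commutator_mem_commutator (Subgroup.mem_top _) (Subgroup.mem_top _)
  rw [commutatorElement_def, Wg_mul_Dg, mul_assoc (Dg s hs u⁻¹), mul_inv_cancel, mul_one,
    Dg_inv, ← Dg_mul, hu] at hmem
  exact hmem

include hs in
/-- a subgroup containing all `Tg`, all `Dg`, and an element moving `∞` is everything. -/
theorem eq_top_of_mem (hnt : ∃ y : F, s y ≠ y ^ 2) (K : Subgroup (G s))
    (hT : ∀ a b, Tg s hs a b ∈ K) (hD : ∀ t, Dg s hs t ∈ K)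
    (hW : ∃ k ∈ K, k • oinf s ≠ oinf s) : K = ⊤ := by
  have h2 : (2 : F) = 0 := CharTwo.two_eq_zero
  obtain ⟨k0, hk0, hk0'⟩ := hW
  obtain ⟨x0, y0, hxy0⟩ : ∃ x y, k0 • oinf s = opt s x y := by
    rcases Ov_cases s (k0 • oinf s) with h | h
    · exact absurd h hk0'
    · exact h
  have step1 : ∀ p : Ov s, ∃ k ∈ K, k • oinf s = p := by
    intro p
    rcases Ov_cases s p with h | ⟨a, b, h⟩
    · exact ⟨1, K.one_mem, by rw [one_smul, h]⟩
    · refine ⟨Tg s hs (a + x0) (b + y0 + s (a + x0) * x0) * k0, K.mul_mem (hT _ _) hk0, ?_⟩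
      rw [mul_smul, hxy0, Tg_smul_opt, h]
      congr 1
      · linear_combination x0 * h2
      · linear_combination (y0 + s (a + x0) * x0) * h2
  rw [eq_top_iff]
  intro g _
  obtain ⟨k1, hk1, hk1'⟩ := step1 (g • oinf s)
  have hne : k1⁻¹ • (g • opt s 0 0) ≠ oinf s := by
    intro h
    have : g • opt s 0 0 = g • oinf s := by rw [← hk1', ← h, smul_inv_smul]
    exact opt_ne_oinf s 0 0 (MulAction.injective g this)
  rcases Ov_cases s (k1⁻¹ • (g • opt s 0 0)) with h | ⟨a, b, h⟩
  · exact absurd h hne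
  · set k := k1 * Tg s hs a b with hk
    have hkK : k ∈ K := K.mul_mem hk1 (hT a b)
    have f1 : (k⁻¹ * g) • oinf s = oinf s := by
      rw [mul_smul, inv_smul_eq_iff, hk, mul_smul, Tg_smul_oinf, hk1']
    have f2 : (k⁻¹ * g) • opt s 0 0 = opt s 0 0 := by
      rw [mul_smul, inv_smul_eq_iff, hk, mul_smul, Tg_smul_opt00, ← h, smul_inv_smul]
    obtain ⟨t, ht⟩ := eq_Dg_of_fix s hs hnt f1 f2
    have : g = k * Dg s hs t := by rw [← ht]; group
    rw [this]
    exact K.mul_mem hkK (hD t)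

include hs in
theorem commutator_eq_top (hnt : ∃ y : F, s y ≠ y ^ 2) : commutator (G s) = ⊤ := by
  apply eq_top_of_mem s hs hnt
  · exact Tg_mem_commutator s hs hnt
  · exact Dg_mem_commutator s hs
  · refine ⟨Wg s hs * Tg s hs 0 1 * (Wg s hs)⁻¹, ?_, ?_⟩
    · exact (inferInstance : (commutator (G s)).Normal).conj_mem _
        (Tg_mem_commutator s hs hnt 0 1) _
    · intro h
      rw [Wg_inv, mul_smul, mul_smul, Wg_smul_oinf, Tg_smul_opt00] at h
      have h' : opt s 0 1 = (Wg s hs)⁻¹ • oinf s := by rw [← h, inv_smul_smul]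
      rw [Wg_inv, Wg_smul_oinf] at h'
      have := (opt_inj s h').2
      simp at this

end grp

section solv
variable {F : Type*} [Field F] [CharP F 2] [Finite F] (s : F →+* F)
  (hs : ∀ x, s (s x) = x ^ 2)

/-- the point stabilizer -/
abbrev Bs : Subgroup (G s) := MulAction.stabilizer (G s) (oinf s)

include hs in
lemma exists_Tg_Dg (hnt : ∃ y : F, s y ≠ y ^ 2) (g : Bs s) :
    ∃ a b t, (g : G s) = Tg s hs a b * Dg s hs t := by
  have h1 : (g : G s) • oinf s = oinf s := g.2
  have h1' : ((g : G s) : Matrix.SpecialLinearGroup (Fin 4) F) •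
      (pinf : Projectivization F (Fin 4 → F)) = pinf := congrArg Subtype.val h1
  obtain ⟨a, b, t, h⟩ := exists_T_D s hs hnt (g : G s).2 h1'
  exact ⟨a, b, t, Subtype.ext h⟩

omit [CharP F 2] [Finite F] in
lemma entry11 (a b : F) (t : F) : (Tm s a b * Dm s t) 1 1 = t := by
  simp [Tm, Dm, Matrix.mul_apply, Fin.sum_univ_four]

omit [CharP F 2] [Finite F] in
lemma entry11_mul (a b t a' b' t' : F) :
    (Tm s a b * Dm s t * (Tm s a' b' * Dm s t')) 1 1 = t * t' := by
  simp [Tm, Dm, Matrix.mul_apply, Fin.sum_univ_four]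

omit [CharP F 2] [Finite F] in
lemma entry23 (a b : F) : (Tm s a b) 2 3 = a := by
  simp [Tm]

omit [CharP F 2] [Finite F] in
lemma entry23_mul (a b a' b' : F) : (Tm s a b * Tm s a' b') 2 3 = a + a' := by
  simp [Tm, Matrix.mul_apply, Fin.sum_univ_four]; ring

/-- the `(1,1)` entry of an element of the point stabilizer -/
def e11 (g : Bs s) : F := ((g : G s) : Matrix.SpecialLinearGroup (Fin 4) F).1 1 1

include hs in
lemma e11_eq (hnt : ∃ y : F, s y ≠ y ^ 2) (g : Bs s) {a b : F} {t : Fˣ}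
    (h : (g : G s) = Tg s hs a b * Dg s hs t) : e11 s g = t := by
  unfold e11
  rw [h]
  exact entry11 s a b t

include hs in
lemma e11_ne_zero (hnt : ∃ y : F, s y ≠ y ^ 2) (g : Bs s) : e11 s g ≠ 0 := by
  obtain ⟨a, b, t, h⟩ := exists_Tg_Dg s hs hnt g
  rw [e11_eq s hs hnt g h]
  exact t.ne_zero

include hs in
lemma e11_mul (hnt : ∃ y : F, s y ≠ y ^ 2) (g h : Bs s) :
    e11 s (g * h) = e11 s g * e11 s h := by
  obtain ⟨a, b, t, hg⟩ := exists_Tg_Dg s hs hnt g
  obtain ⟨a', b', t', hh⟩ := exists_Tg_Dg s hs hnt h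
  rw [e11_eq s hs hnt g hg, e11_eq s hs hnt h hh]
  unfold e11
  have : ((g * h : Bs s) : G s) = Tg s hs a b * Dg s hs t * (Tg s hs a' b' * Dg s hs t') := by
    rw [Subgroup.coe_mul, hg, hh]
  rw [this]
  exact entry11_mul s a b t a' b' t'

/-- the diagonal character of the point stabilizer -/
noncomputable def diagHom (hnt : ∃ y : F, s y ≠ y ^ 2) : Bs s →* Fˣ where
  toFun g := Units.mk0 (e11 s g) (e11_ne_zero s hs hnt g)
  map_one' := by
    apply Units.ext
    simp [e11]
  map_mul' g h := by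
    apply Units.ext
    simp only [Units.val_mk0, Units.val_mul]
    exact e11_mul s hs hnt g h

lemma mem_ker_diagHom (hnt : ∃ y : F, s y ≠ y ^ 2) (g : Bs s)
    (hg : g ∈ (diagHom s hs hnt).ker) : ∃ a b, (g : G s) = Tg s hs a b := by
  obtain ⟨a, b, t, h⟩ := exists_Tg_Dg s hs hnt g
  rw [MonoidHom.mem_ker] at hg
  have h1 : e11 s g = 1 := by
    have := congrArg Units.val hg
    simpa [diagHom] using this
  rw [e11_eq s hs hnt g h] at h1
  have ht : t = 1 := Units.ext h1
  rw [ht, Dg_one, mul_one] at h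
  exact ⟨a, b, h⟩

/-- the `(2,3)` entry on the unipotent radical -/
def e23 (hnt : ∃ y : F, s y ≠ y ^ 2) (g : (diagHom s hs hnt).ker) : F :=
  (((g : Bs s) : G s) : Matrix.SpecialLinearGroup (Fin 4) F).1 2 3

lemma e23_eq (hnt : ∃ y : F, s y ≠ y ^ 2) (g : (diagHom s hs hnt).ker) {a b : F}
    (h : ((g : Bs s) : G s) = Tg s hs a b) : e23 s hs hnt g = a := by
  unfold e23
  rw [h]
  exact entry23 s a b

/-- the additive character of the unipotent radical -/
noncomputable def unipHom (hnt : ∃ y : F, s y ≠ y ^ 2) :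
    (diagHom s hs hnt).ker →* Multiplicative F where
  toFun g := Multiplicative.ofAdd (e23 s hs hnt g)
  map_one' := by
    simp [e23]
  map_mul' g h := by
    obtain ⟨a, b, hg⟩ := mem_ker_diagHom s hs hnt g g.2
    obtain ⟨a', b', hh⟩ := mem_ker_diagHom s hs hnt h h.2
    rw [e23_eq s hs hnt g hg, e23_eq s hs hnt h hh, ← ofAdd_add]
    congr 1
    unfold e23
    have : (((g * h : (diagHom s hs hnt).ker) : Bs s) : G s) =
        Tg s hs a b * Tg s hs a' b' := by
      rw [Subgroup.coe_mul, Subgroup.coe_mul, hg, hh]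
    rw [this]
    exact entry23_mul s a b a' b'

lemma comm_ker_unipHom (hnt : ∃ y : F, s y ≠ y ^ 2) (g h : (unipHom s hs hnt).ker) :
    g * h = h * g := by
  have key : ∀ k : (unipHom s hs hnt).ker, ∃ b,
      (((k : (diagHom s hs hnt).ker) : Bs s) : G s) = Tg s hs 0 b := by
    intro k
    obtain ⟨a, b, hk⟩ := mem_ker_diagHom s hs hnt k k.1.2
    have h1 := k.2
    rw [MonoidHom.mem_ker] at h1
    have h2 : e23 s hs hnt k = 0 := by
      have := congrArg Multiplicative.toAdd h1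
      simpa [unipHom] using this
    rw [e23_eq s hs hnt k hk] at h2
    rw [h2] at hk
    exact ⟨b, hk⟩
  obtain ⟨b, hg⟩ := key g
  obtain ⟨b', hh⟩ := key h
  apply Subtype.ext; apply Subtype.ext; apply Subtype.ext
  simp only [Subgroup.coe_mul]
  rw [hg, hh, Tg_mul, Tg_mul]
  congr 1
  ring

include hs in
theorem isSolvable_Bs (hnt : ∃ y : F, s y ≠ y ^ 2) : Group.IsSolvable (Bs s) := by
  have h1 : Group.IsSolvable (unipHom s hs hnt).ker :=
    Group.isSolvable_of_comm (comm_ker_unipHom s hs hnt)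
  have h2 : Group.IsSolvable (diagHom s hs hnt).ker :=
    Group.isSolvable_of_ker_le_range (unipHom s hs hnt).ker.subtype (unipHom s hs hnt)
      (by rw [Subgroup.range_subtype])
  exact Group.isSolvable_of_ker_le_range (diagHom s hs hnt).ker.subtype (diagHom s hs hnt)
    (by rw [Subgroup.range_subtype])

end solv

section simple
variable {F : Type*} [Field F] [CharP F 2] [Finite F] (s : F →+* F)
  (hs : ∀ x, s (s x) = x ^ 2)

include hs in
theorem isSimpleGroup (hnt : ∃ y : F, s y ≠ y ^ 2) : IsSimpleGroup (G s) := by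
  have h2t := is_two_trans s hs
  have hprim : MulAction.IsPreprimitive (G s) (Ov s) :=
    MulAction.isPreprimitive_of_is_two_pretransitive h2t
  have hfaith := faithful s hs hnt
  have hperf := commutator_eq_top s hs hnt
  have hsolv := isSolvable_Bs s hs hnt
  have hnontriv : Nontrivial (G s) := by
    obtain ⟨g, hg, _⟩ := exists_fix_two s hs hnt
    exact ⟨⟨g, 1, hg⟩⟩
  refine { toNontrivial := hnontriv, eq_bot_or_eq_top_of_normal := fun N hN => ?_ }
  by_cases hbot : N = ⊥
  · exact Or.inl hbot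
  right
  have hfp : MulAction.fixedPoints N (Ov s) ≠ Set.univ := by
    intro h
    apply hbot
    rw [Subgroup.eq_bot_iff_forall]
    intro n hn
    apply hfaith.eq_of_smul_eq_smul
    intro p
    rw [one_smul]
    have hp : p ∈ MulAction.fixedPoints N (Ov s) := by rw [h]; trivial
    exact hp ⟨n, hn⟩
  have htr : MulAction.IsPretransitive N (Ov s) :=
    MulAction.IsQuasiPreprimitive.isPretransitive_of_normal hfp
  let π : G s →* G s ⧸ N := QuotientGroup.mk' N
  let f : Bs s →* G s ⧸ N := π.comp (Bs s).subtype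
  have hf : Function.Surjective f := by
    intro x
    obtain ⟨g, rfl⟩ := QuotientGroup.mk'_surjective N x
    obtain ⟨n, hn⟩ := htr.exists_smul_eq (oinf s) (g • oinf s)
    have hn' : (n : G s) • oinf s = g • oinf s := hn
    have hmem : (n : G s)⁻¹ * g ∈ Bs s := by
      rw [MulAction.mem_stabilizer_iff, mul_smul, inv_smul_eq_iff]
      exact hn'.symm
    refine ⟨⟨(n : G s)⁻¹ * g, hmem⟩, ?_⟩
    show π ((n : G s)⁻¹ * g) = π g
    rw [map_mul, map_inv]
    have h1 : π (n : G s) = 1 := (QuotientGroup.eq_one_iff _).2 n.2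
    rw [h1, inv_one, one_mul]
  have hsolvQ : Group.IsSolvable (G s ⧸ N) := Group.isSolvable_of_surjective hf
  have hperfQ : commutator (G s ⧸ N) = ⊤ := by
    rw [commutator_def, ← Subgroup.map_top_of_surjective π (QuotientGroup.mk'_surjective N),
      ← Subgroup.map_commutator, ← commutator_def, hperf]
  apply QuotientGroup.subgroup_eq_top_of_subsingleton
  by_contra hns
  rw [not_subsingleton_iff_nontrivial] at hns
  have := Group.IsSolvable.commutator_lt_top_of_nontrivial (G s ⧸ N)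
  rw [hperfQ] at this
  exact lt_irrefl _ this

end simple

end Cfsg.Agent.Lib.Helper6.Sz
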