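import Mathlib

set_option autoImplicit false

/-! # Linear algebra lemmas for the Landazuri–Seitz bound -/

namespace Cfsg.Agent.Lib.Helper6.SzLS

open Module

section linalg
variable {V : Type*} [AddCommGroup V] [Module ℂ V] [FiniteDimensional ℂ V]

/-- the trace of an involution is `2 r - n` with `r ≤ n`. -/
lemma trace_of_sq_eq_one (T : End ℂ V) (hT : T * T = 1) :
    ∃ r : ℕ, r ≤ finrank ℂ V ∧ LinearMap.trace ℂ V T = 2 * (r : ℂ) - (finrank ℂ V : ℂ) := by
  set P : End ℂ V := (2 : ℂ)⁻¹ • (1 + T) with hP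
  have hidem : IsIdempotentElem P := by
    show P * P = P
    have h2 : (1 + T) * (1 + T) = (2 : ℂ) • (1 + T) := by
      rw [mul_add, mul_one, add_mul, one_mul, hT, two_smul]; abel
    rw [hP, smul_mul_smul_comm, h2, smul_smul]
    congr 1
    norm_num
  have hproj := (LinearMap.isProj_range_iff_isIdempotentElem P).2 hidem
  have htr := hproj.trace
  refine ⟨finrank ℂ (LinearMap.range P), Submodule.finrank_le _, ?_⟩
  have hT' : T = (2 : ℂ) • P - 1 := by
    rw [hP, smul_smul]
    norm_num
  rw [hT', map_sub, map_smul, htr, LinearMap.trace_one]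
  simp

/-- the trace of an operator with square `-1`. -/
lemma trace_of_sq_eq_neg_one (T : End ℂ V) (hT : T * T = -1) :
    ∃ r : ℕ, r ≤ finrank ℂ V ∧
      LinearMap.trace ℂ V T = -Complex.I * (2 * (r : ℂ) - (finrank ℂ V : ℂ)) := by
  have h1 : (Complex.I • T) * (Complex.I • T) = 1 := by
    rw [smul_mul_smul_comm, hT, Complex.I_mul_I]
    simp
  obtain ⟨r, hr, htr⟩ := trace_of_sq_eq_one (Complex.I • T) h1
  refine ⟨r, hr, ?_⟩
  rw [map_smul, smul_eq_mul] at htr
  rw [← htr, ← mul_assoc, neg_mul, Complex.I_mul_I]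
  simp

/-- common eigenvectors of commuting families. -/
lemma exists_common_eigenvector {ι : Type*} (f : ι → End ℂ V)
    (hcomm : ∀ i j, f i * f j = f j * f i) (S : Finset ι) :
    ∀ (W : Submodule ℂ V), W ≠ ⊥ → (∀ i, ∀ w ∈ W, f i w ∈ W) →
      ∃ v ∈ W, v ≠ 0 ∧ ∀ i ∈ S, ∃ μ : ℂ, f i v = μ • v := by
  classical
  induction S using Finset.induction_on with
  | empty =>
    intro W hW _
    obtain ⟨v, hv, hv0⟩ := (Submodule.ne_bot_iff W).1 hW
    exact ⟨v, hv, hv0, by simp⟩
  | insert j S' hj ih =>
    intro W hW hinv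
    have hnt : Nontrivial W := Submodule.nontrivial_iff_ne_bot.2 hW
    obtain ⟨μ, hμ⟩ := Module.End.exists_eigenvalue ((f j).restrict (hinv j))
    obtain ⟨w, hw⟩ := hμ.exists_hasEigenvector
    have hw1 : (f j) (w : V) = μ • (w : V) := by
      have := hw.apply_eq_smul
      exact congrArg Subtype.val this
    have hw0 : (w : V) ≠ 0 := by
      intro h
      exact hw.2 (Subtype.ext h)
    set W' : Submodule ℂ V := W ⊓ LinearMap.ker (f j - μ • 1) with hW'
    have hW'ne : W' ≠ ⊥ := by
      rw [Submodule.ne_bot_iff]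
      refine ⟨w, ⟨w.2, ?_⟩, hw0⟩
      show (f j - μ • 1) (w : V) = 0
      rw [LinearMap.sub_apply, hw1]
      simp
    have hW'inv : ∀ i, ∀ x ∈ W', f i x ∈ W' := by
      intro i x hx
      refine ⟨hinv i x hx.1, ?_⟩
      have h2 : (f j - μ • 1) x = 0 := hx.2
      show (f j - μ • 1) (f i x) = 0
      rw [LinearMap.sub_apply, sub_eq_zero] at h2 ⊢
      have h3 : f j (f i x) = f i (f j x) := by
        have := congrArg (fun g : End ℂ V => g x) (hcomm j i)
        simpa using this
      rw [h3, h2]
      simp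
    obtain ⟨v, hv, hv0, hev⟩ := ih W' hW'ne hW'inv
    refine ⟨v, hv.1, hv0, ?_⟩
    intro i hi
    rcases Finset.mem_insert.1 hi with rfl | hi'
    · refine ⟨μ, ?_⟩
      have h2 : (f i - μ • 1) v = 0 := hv.2
      rw [LinearMap.sub_apply, sub_eq_zero] at h2
      rw [h2]
      simp
    · exact hev i hi'

/-- independent translates of a subspace bound the dimension from below. -/
lemma card_mul_finrank_le {ι : Type*} [Fintype ι] [DecidableEq ι] (W : Submodule ℂ V) (g : ι → End ℂ V)
    (hg : ∀ i, Function.Injective (g i)) (e : ι → End ℂ V)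
    (he : ∀ i j, ∀ w ∈ W, e i (g j w) = if i = j then g j w else 0) :
    Fintype.card ι * finrank ℂ W ≤ finrank ℂ V := by
  set n := finrank ℂ W with hn
  let b := Module.finBasis ℂ W
  have hli : LinearIndependent ℂ (fun p : ι × Fin n => g p.1 (b p.2 : V)) := by
    rw [Fintype.linearIndependent_iff]
    intro c hc
    rintro ⟨i₀, l₀⟩
    have h1 := congrArg (e i₀) hc
    rw [map_zero, map_sum, Fintype.sum_prod_type] at h1
    have h2 : ∀ i, ∑ l : Fin n, e i₀ (c (i, l) • g i (b l : V)) =
        if i₀ = i then ∑ l : Fin n, c (i, l) • g i (b l : V) else 0 := by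
      intro i
      by_cases hi : i₀ = i
      · rw [if_pos hi]
        apply Finset.sum_congr rfl
        intro l _
        rw [map_smul, he i₀ i _ (b l).2, if_pos hi]
      · rw [if_neg hi]
        apply Finset.sum_eq_zero
        intro l _
        rw [map_smul, he i₀ i _ (b l).2, if_neg hi, smul_zero]
    simp only [h2] at h1
    rw [Finset.sum_ite_eq Finset.univ i₀, if_pos (Finset.mem_univ _)] at h1
    have h3 : g i₀ (∑ l : Fin n, c (i₀, l) • (b l : V)) = 0 := by
      rw [map_sum, ← h1]
      apply Finset.sum_congr rfl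
      intro l _
      rw [map_smul]
    have h4 : ∑ l : Fin n, c (i₀, l) • (b l : V) = 0 := by
      apply hg i₀
      rw [h3, map_zero]
    have h5 : ∑ l : Fin n, c (i₀, l) • b l = 0 := by
      apply Subtype.ext
      rw [Submodule.coe_sum]
      simpa using h4
    exact (Fintype.linearIndependent_iff.1 b.linearIndependent) (fun l => c (i₀, l)) h5 l₀
  have := hli.fintype_card_le_finrank
  rw [Fintype.card_prod, Fintype.card_fin] at this
  exact this

end linalg

/-- the norm of a representation on itself is at least one. -/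
lemma card_le_sum_char {Q W : Type*} [Group Q] [Fintype Q] [AddCommGroup W] [Module ℂ W]
    [FiniteDimensional ℂ W] [Nontrivial W] (σ : Representation ℂ Q W) :
    ∃ N : ℕ, 1 ≤ N ∧ ∑ g : Q, σ.character g⁻¹ * σ.character g = (N : ℂ) * (Nat.card Q : ℂ) := by
  have hne : (Nat.card Q : ℂ) ≠ 0 := by
    have : 0 < Nat.card Q := Nat.card_pos
    exact_mod_cast this.ne'
  have : Invertible (Nat.card Q : ℂ) := invertibleOfNonzero hne
  have key := Representation.card_inv_mul_sum_char_eq_finrank (Representation.linHom σ σ)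
  simp only [Representation.char_linHom] at key
  refine ⟨finrank ℂ (Representation.invariants (Representation.linHom σ σ)), ?_, ?_⟩
  · rw [Nat.one_le_iff_ne_zero, ← Nat.pos_iff_ne_zero, Module.finrank_pos_iff_exists_ne_zero]
    refine ⟨⟨LinearMap.id, ?_⟩, ?_⟩
    · intro g
      rw [Representation.linHom_apply]
      ext w
      simp [← Module.End.mul_apply, ← map_mul]
    · intro h
      have h1 : (LinearMap.id : W →ₗ[ℂ] W) = 0 := congrArg Subtype.val h
      obtain ⟨w, hw⟩ := exists_ne (0 : W)
      exact hw (by simpa using congrArg (fun f : W →ₗ[ℂ] W => f w) h1)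
  · rw [← key]
    field_simp

end Cfsg.Agent.Lib.Helper6.SzLS
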