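import Cfsg.Agent.Lib.Helper6.SzSol2

set_option autoImplicit false

/-! # Solubilizers in Suzuki groups: the `2`-part of a torus normalizer -/

namespace Cfsg.Agent.Lib.Helper6.Sz

open scoped Pointwise
open Cfsg.Agent.Lib.Helper6.TI Cfsg.Agent.Lib.Helper6.SzArith

section sol3
variable {F : Type*} [Field F] [CharP F 2] [Finite F] (s : F →+* F)
  (hs : ∀ x, s (s x) = x ^ 2)

/-- the `2`-part of a torus normalizer inside the standard Sylow subgroup. -/
def SU (U : Subgroup (G s)) : Subgroup (G s) :=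
  Qs s hs ⊓ Subgroup.normalizer (U : Set (G s))

include hs in
lemma card_SU_mul_le {m : ℕ} (hm : 1 ≤ m) {U : Subgroup (G s)} (hU : IsTorus s m U) :
    Nat.card (SU s hs U) * Nat.card U ≤ Nat.card (Subgroup.normalizer (U : Set (G s))) := by
  rw [← Nat.card_prod]
  have hmem : ∀ p : SU s hs U × U,
      (p.1 : G s) * (p.2 : G s) ∈ Subgroup.normalizer (U : Set (G s)) := fun p =>
    Subgroup.mul_mem _ p.1.2.2 (Subgroup.le_normalizer p.2.2)
  apply Nat.card_le_card_of_injective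
    (fun p : SU s hs U × U => (⟨(p.1 : G s) * (p.2 : G s), hmem p⟩ :
      Subgroup.normalizer (U : Set (G s))))
  rintro ⟨⟨z, hz⟩, ⟨v, hv⟩⟩ ⟨⟨z', hz'⟩, ⟨v', hv'⟩⟩ h
  have h' : z * v = z' * v' := congrArg Subtype.val h
  have e : z'⁻¹ * z = v' * v⁻¹ := by
    have : z'⁻¹ * z = z'⁻¹ * (z * v) * v⁻¹ := by group
    rw [this, h']; group
  have h1 : z'⁻¹ * z ∈ Qs s hs := (Qs s hs).mul_mem ((Qs s hs).inv_mem hz'.1) hz.1
  have h2 : z'⁻¹ * z ∈ U := by rw [e]; exact U.mul_mem hv' (U.inv_mem hv)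
  obtain ⟨a, b, hab⟩ := h1
  rw [hab] at h2
  have h3 := Tg_not_mem_torus s hs hm hU h2
  rw [← hab] at h3
  have hzz : z = z' := by
    have : z = z' * (z'⁻¹ * z) := by group
    rw [this, h3, mul_one]
  subst hzz
  have hvv : v = v' := mul_left_cancel h'
  subst hvv
  rfl

include hs in
/-- the normalizer of the standard split torus has twice its order. -/
lemma card_normalizer_DgHom (hnt : ∃ y : F, s y ≠ y ^ 2) :
    Nat.card (Subgroup.normalizer (((DgHom s hs).range : Subgroup (G s)) : Set (G s))) =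
      2 * Nat.card (DgHom s hs).range := by
  have hinj : Function.Injective (DgHom s hs) := Dg_injective s hs
  have hA : Nat.card (DgHom s hs).range = Nat.card Fˣ :=
    (Nat.card_congr (MonoidHom.ofInjective hinj).toEquiv).symm
  have hset : ((Subgroup.normalizer (((DgHom s hs).range : Subgroup (G s)) : Set (G s)) :
      Subgroup (G s)) : Set (G s)) =
      Set.range (fun u : Fˣ => Dg s hs u) ∪ Set.range (fun u : Fˣ => Wg s hs * Dg s hs u) := by
    ext y
    rw [SetLike.mem_coe, mem_normalizer_DgHom_iff s hs hnt]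
    constructor
    · rintro (⟨u, rfl⟩ | ⟨u, rfl⟩)
      · exact Or.inl ⟨u, rfl⟩
      · exact Or.inr ⟨u, rfl⟩
    · rintro (⟨u, rfl⟩ | ⟨u, rfl⟩)
      · exact Or.inl ⟨u, rfl⟩
      · exact Or.inr ⟨u, rfl⟩
  have hdisj : Disjoint (Set.range (fun u : Fˣ => Dg s hs u))
      (Set.range (fun u : Fˣ => Wg s hs * Dg s hs u)) := by
    rw [Set.disjoint_left]
    rintro y ⟨u, rfl⟩ ⟨u', h⟩
    have h' : Wg s hs * Dg s hs u' = Dg s hs u := h
    have h1 : (Wg s hs * Dg s hs u') • oinf s = Dg s hs u • oinf s := by rw [h']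
    rw [mul_smul, Dg_smul_oinf, Dg_smul_oinf, Wg_smul_oinf] at h1
    exact opt_ne_oinf s 0 0 h1
  have c1 : (Set.range (fun u : Fˣ => Dg s hs u)).ncard = Nat.card Fˣ := by
    rw [← Set.image_univ, Set.ncard_image_of_injective _ (Dg_injective s hs), Set.ncard_univ]
  have c2 : (Set.range (fun u : Fˣ => Wg s hs * Dg s hs u)).ncard = Nat.card Fˣ := by
    rw [← Set.image_univ, Set.ncard_image_of_injective, Set.ncard_univ]
    intro u u' h
    exact Dg_injective s hs (mul_left_cancel h)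
  have hN : Nat.card (Subgroup.normalizer (((DgHom s hs).range : Subgroup (G s)) : Set (G s))) =
      (((Subgroup.normalizer (((DgHom s hs).range : Subgroup (G s)) : Set (G s)) :
      Subgroup (G s)) : Set (G s))).ncard := Nat.card_coe_set_eq _
  rw [hN, hset, Set.ncard_union_eq hdisj (Set.toFinite _) (Set.toFinite _), c1, c2, hA]
  ring

include hs in
/-- the normalizer of a split torus has twice its order. -/
lemma card_normalizer_split (hnt : ∃ y : F, s y ≠ y ^ 2) {m : ℕ} (hm : 1 ≤ m)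
    (hk : Nat.card F = 2 ^ (2 * m + 1)) {U : Subgroup (G s)} (hU : IsTorus s m U) {d : G s}
    (hdU : d ∈ U) (hd1 : d ≠ 1) {p : Ov s} (hp : d • p = p) :
    Nat.card (Subgroup.normalizer (U : Set (G s))) = 2 * Nat.card U := by
  have hodd := isTorus_odd s hm hU hdU
  have hord1 : orderOf d ≠ 1 := fun h => hd1 (orderOf_eq_one_iff.1 h)
  rcases trichotomy s hs hnt d hd1 with ⟨y₀, a', b', hab, hconj⟩ | ⟨z, t, ht, hconj⟩ | hfpf
  · exfalso
    have hu₀ : d = y₀ * Tg s hs a' b' * y₀⁻¹ := by rw [← hconj]; group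
    have h4 : d ^ 4 = 1 := by rw [hu₀, conj_pow, Tg_pow_four]; group
    have h1 : orderOf d ∣ 2 ^ 2 := orderOf_dvd_of_pow_eq_one (by simpa using h4)
    obtain ⟨i, -, hi⟩ := (Nat.dvd_prime_pow Nat.prime_two).1 h1
    rcases Nat.eq_zero_or_pos i with rfl | hi0
    · exact hord1 (by simpa using hi)
    · apply hodd
      rw [hi]
      exact dvd_pow_self 2 hi0.ne'
  · have hu₀ : d = z * Dg s hs t * z⁻¹ := by rw [← hconj]; group
    have hU₀good : Good s m ((DgHom s hs).range.map (MulAut.conj z).toMonoidHom) :=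
      good_conj s hs hnt (good_torus s hs hnt hk) z
    have hu₀U₀ : d ∈ (DgHom s hs).range.map (MulAut.conj z).toMonoidHom :=
      ⟨Dg s hs t, ⟨t, rfl⟩, hu₀.symm⟩
    have hUeq : U = (DgHom s hs).range.map (MulAut.conj z).toMonoidHom :=
      (partition s hs hnt hm hk d hd1).unique ⟨Or.inr hU, hdU⟩ ⟨hU₀good, hu₀U₀⟩
    rw [hUeq, ← map_conj_normalizer, Subgroup.card_map_of_injective (MulAut.conj z).injective,
      Subgroup.card_map_of_injective (MulAut.conj z).injective, card_normalizer_DgHom s hs hnt]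
  · exact absurd hp (hfpf p)

include hs in
/-- split case: the `2`-part is `{1, t}`. -/
lemma SU_split (hnt : ∃ y : F, s y ≠ y ^ 2) {m : ℕ} (hm : 1 ≤ m)
    (hk : Nat.card F = 2 ^ (2 * m + 1)) {U : Subgroup (G s)} (hU : IsTorus s m U) {d : G s}
    (hdU : d ∈ U) (hd1 : d ≠ 1) {p : Ov s} (hp : d • p = p) {c₀ : F} (hc₀ : c₀ ≠ 0)
    (htN : Tg s hs 0 c₀ ∈ Subgroup.normalizer (U : Set (G s))) :
    Nat.card (SU s hs U) = 2 ∧ ∀ z, z ∈ SU s hs U ↔ z = 1 ∨ z = Tg s hs 0 c₀ := by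
  have hle := card_SU_mul_le s hs hm hU
  rw [card_normalizer_split s hs hnt hm hk hU hdU hd1 hp] at hle
  have hUpos : 0 < Nat.card U := Nat.card_pos
  have hle2 : Nat.card (SU s hs U) ≤ 2 := Nat.le_of_mul_le_mul_right hle hUpos
  have ht1 : (1 : G s) ≠ Tg s hs 0 c₀ := (Tg_zero_ne_one s hs hc₀).symm
  have hsub : ({1, Tg s hs 0 c₀} : Set (G s)) ⊆ (SU s hs U : Set (G s)) := by
    rintro z (rfl | rfl)
    · exact (SU s hs U).one_mem
    · exact ⟨⟨0, c₀, rfl⟩, htN⟩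
  have hncard : ((SU s hs U : Set (G s))).ncard ≤ ({1, Tg s hs 0 c₀} : Set (G s)).ncard := by
    rw [Set.ncard_pair ht1, ← Nat.card_coe_set_eq]
    exact hle2
  have heq := Set.eq_of_subset_of_ncard_le hsub hncard (Set.toFinite _)
  constructor
  · have : Nat.card (SU s hs U) = ((SU s hs U : Set (G s))).ncard := Nat.card_coe_set_eq _
    rw [this, ← heq, Set.ncard_pair ht1]
  · intro z
    have : z ∈ (SU s hs U : Set (G s)) ↔ z ∈ ({1, Tg s hs 0 c₀} : Set (G s)) := by rw [heq]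
    simpa using this

include hs in
/-- nonsplit case: the `2`-part has order four. -/
lemma card_SU_nonsplit (hnt : ∃ y : F, s y ≠ y ^ 2) {m : ℕ} (hm : 1 ≤ m)
    (hk : Nat.card F = 2 ^ (2 * m + 1)) {U : Subgroup (G s)} (hU : IsTorus s m U) {d : G s}
    (hdU : d ∈ U) (hfpf : IsFpf s d) {c₀ : F} (hc₀ : c₀ ≠ 0)
    (htN : Tg s hs 0 c₀ ∈ Subgroup.normalizer (U : Set (G s))) :
    Nat.card (SU s hs U) = 4 := by
  have : Fact (Nat.Prime 2) := ⟨Nat.prime_two⟩
  have hd1 : d ≠ 1 := fpf_ne_one s hfpf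
  have hUeq : U = Subgroup.centralizer ({d} : Set (G s)) :=
    (partition s hs hnt hm hk d hd1).unique ⟨Or.inr hU, hdU⟩
      ⟨good_centralizer_fpf s hs hnt hm hk hfpf, mem_centralizer_self s d⟩
  have hcardN : Nat.card (Subgroup.normalizer (U : Set (G s))) = 4 * Nat.card U := by
    rw [hUeq, card_normalizer_fpf_eq s hs hnt hm hk hfpf]
  have hle := card_SU_mul_le s hs hm hU
  rw [hcardN] at hle
  have hUpos : 0 < Nat.card U := Nat.card_pos
  have hle4 : Nat.card (SU s hs U) ≤ 4 := Nat.le_of_mul_le_mul_right hle hUpos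
  refine le_antisymm hle4 ?_
  -- a Sylow subgroup of the normalizer containing `t`
  obtain ⟨N, hN⟩ : ∃ N : Subgroup (G s), N = Subgroup.normalizer (U : Set (G s)) := ⟨_, rfl⟩
  rw [← hN] at hcardN htN
  set tN : N := ⟨Tg s hs 0 c₀, htN⟩ with htN'
  have htN1 : tN ≠ 1 := by
    intro h
    exact Tg_zero_ne_one s hs hc₀ (congrArg Subtype.val h)
  have htN2 : tN ^ 2 = 1 := by
    apply Subtype.ext
    rw [sq]
    exact Tg_zero_sq s hs c₀
  have hord : orderOf tN = 2 := orderOf_eq_prime htN2 htN1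
  have hH : Nat.card (Subgroup.zpowers tN) = 2 ^ 1 := by
    rw [Nat.card_zpowers, hord, pow_one]
  have hdvd : 2 ^ 2 ∣ Nat.card N := by
    rw [hcardN]
    exact Dvd.intro _ rfl
  obtain ⟨K, hKcard, hHK⟩ := Sylow.exists_subgroup_card_pow_prime_le 2 hdvd
    (Subgroup.zpowers tN) hH (by norm_num)
  have hK'card : Nat.card (K.map N.subtype) = 2 ^ 2 := by
    rw [Subgroup.card_map_of_injective N.subtype_injective, hKcard]
  have htK' : Tg s hs 0 c₀ ∈ K.map N.subtype := ⟨tN, hHK (Subgroup.mem_zpowers tN), rfl⟩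
  have hK'N : K.map N.subtype ≤ N := Subgroup.map_subtype_le K
  have hp : IsPGroup 2 (K.map N.subtype) := IsPGroup.of_card hK'card
  obtain ⟨P, hP⟩ := hp.exists_le_sylow
  obtain ⟨x, hx⟩ := MulAction.exists_smul_eq (G s) (Q0 s hs hnt hk) P
  have hPQ : (P : Subgroup (G s)) = (Qs s hs).map (MulAut.conj x).toMonoidHom := by
    rw [← hx]; rfl
  have htP : Tg s hs 0 c₀ ∈ (P : Subgroup (G s)) := hP htK'
  rw [hPQ] at htP
  obtain ⟨q, ⟨a, b, rfl⟩, hq⟩ := htP
  have hq' : x * Tg s hs a b * x⁻¹ = Tg s hs 0 c₀ := hq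
  have hxinf : x • oinf s = oinf s := by
    apply Tg_fix_only s hs (a := 0) (b := c₀) (by rintro ⟨-, h⟩; exact hc₀ h)
    rw [← hq', mul_smul, mul_smul, inv_smul_smul, Tg_smul_oinf]
  have hxN : x ∈ Subgroup.normalizer ((Qs s hs : Subgroup (G s)) : Set (G s)) := by
    rw [normalizer_Qs s hs hnt]
    exact hxinf
  have hQx : (Qs s hs).map (MulAut.conj x).toMonoidHom = Qs s hs :=
    Subgroup.mem_normalizer_iff_map_conj_eq.1 hxN
  rw [hQx] at hPQ
  have hK'S : K.map N.subtype ≤ SU s hs U := by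
    intro z hz
    refine ⟨?_, ?_⟩
    · rw [← hPQ]; exact hP hz
    · rw [← hN]; exact hK'N hz
  have := Subgroup.card_le_of_le hK'S
  rw [hK'card] at this
  exact this

include hs in
/-- nonsplit case: the `2`-part is cyclic of order four with square `t`. -/
lemma SU_nonsplit (hnt : ∃ y : F, s y ≠ y ^ 2) {m : ℕ} (hm : 1 ≤ m)
    (hk : Nat.card F = 2 ^ (2 * m + 1)) {U : Subgroup (G s)} (hU : IsTorus s m U) {d : G s}
    (hdU : d ∈ U) (hfpf : IsFpf s d) {c₀ : F} (hc₀ : c₀ ≠ 0)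
    (htN : Tg s hs 0 c₀ ∈ Subgroup.normalizer (U : Set (G s))) :
    ∃ f, f * f = Tg s hs 0 c₀ ∧
      ∀ z, z ∈ SU s hs U ↔ z = 1 ∨ z = Tg s hs 0 c₀ ∨ z = f ∨ z = f⁻¹ := by
  have hd1 : d ≠ 1 := fpf_ne_one s hfpf
  have hcard := card_SU_nonsplit s hs hnt hm hk hU hdU hfpf hc₀ htN
  have hncard : ((SU s hs U : Set (G s))).ncard = 4 := by
    rw [← Nat.card_coe_set_eq]; exact hcard
  have ht1 : (1 : G s) ≠ Tg s hs 0 c₀ := (Tg_zero_ne_one s hs hc₀).symm
  have htS : Tg s hs 0 c₀ ∈ SU s hs U := ⟨⟨0, c₀, rfl⟩, htN⟩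
  obtain ⟨z₁, hz₁S, hz₁⟩ : ∃ e, e ∈ (SU s hs U : Set (G s)) ∧
      e ∉ ({1, Tg s hs 0 c₀} : Set (G s)) := by
    apply Set.exists_mem_notMem_of_ncard_lt_ncard _ (Set.toFinite _)
    rw [hncard, Set.ncard_pair ht1]
    norm_num
  obtain ⟨⟨a, b, rfl⟩, hz₁N⟩ := hz₁S
  have hz₁1 : Tg s hs a b ≠ 1 := fun h => hz₁ (Or.inl h)
  have hz₁t : Tg s hs a b ≠ Tg s hs 0 c₀ := fun h => hz₁ (Or.inr h)
  have hdodd := isTorus_odd s hm hU hdU
  have ha : a ≠ 0 := by
    rintro rfl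
    have hb0 : b ≠ 0 := by
      rintro rfl
      exact hz₁1 (Tg_zero s hs)
    have hbc : b + c₀ ≠ 0 := by
      intro h
      apply hz₁t
      rw [CharTwo.add_eq_zero.1 h]
    have hw₂ : Tg s hs 0 (b + c₀) = Tg s hs 0 b * Tg s hs 0 c₀ := (Tg_mul_Tg_zero s hs 0 b c₀).symm
    have hw₂N : Tg s hs 0 (b + c₀) ∈ Subgroup.normalizer (U : Set (G s)) := by
      rw [hw₂]; exact Subgroup.mul_mem _ hz₁N htN
    have i1 := inverts_torus s hs hnt hm hU hc₀ htN hdU
    have i2 := inverts_torus s hs hnt hm hU hb0 hz₁N hdU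
    have i3 := inverts_torus s hs hnt hm hU hbc hw₂N hdU
    have e : Tg s hs 0 (b + c₀) * d * (Tg s hs 0 (b + c₀))⁻¹ =
        Tg s hs 0 b * (Tg s hs 0 c₀ * d * (Tg s hs 0 c₀)⁻¹) * (Tg s hs 0 b)⁻¹ := by
      rw [hw₂]; group
    rw [e, i1] at i3
    have e2 : Tg s hs 0 b * d⁻¹ * (Tg s hs 0 b)⁻¹ = (Tg s hs 0 b * d * (Tg s hs 0 b)⁻¹)⁻¹ := by
      group
    rw [e2, i2, inv_inv] at i3
    have hdd : d ^ 2 = 1 := by
      rw [sq]
      nth_rewrite 1 [i3]
      exact inv_mul_cancel d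
    have hord : orderOf d ∣ 2 := orderOf_dvd_of_pow_eq_one hdd
    rcases (Nat.dvd_prime Nat.prime_two).1 hord with h | h
    · exact hd1 (orderOf_eq_one_iff.1 h)
    · exact hdodd (by rw [h])
  have hz₂ : Tg s hs a (b + c₀) = Tg s hs a b * Tg s hs 0 c₀ := (Tg_mul_Tg_zero s hs a b c₀).symm
  have hz₂S : Tg s hs a (b + c₀) ∈ SU s hs U := by
    rw [hz₂]; exact (SU s hs U).mul_mem ⟨⟨a, b, rfl⟩, hz₁N⟩ htS
  have n1 : (1 : G s) ≠ Tg s hs a b := hz₁1.symm
  have n2 : (1 : G s) ≠ Tg s hs a (b + c₀) := by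
    intro h
    exact ha ((Tg_eq_one_iff s hs).1 h.symm).1
  have n3 : Tg s hs 0 c₀ ≠ Tg s hs a b := hz₁t.symm
  have n4 : Tg s hs 0 c₀ ≠ Tg s hs a (b + c₀) := by
    intro h
    exact ha (Tg_inj s hs h).1.symm
  have n5 : Tg s hs a b ≠ Tg s hs a (b + c₀) := by
    intro h
    have := (Tg_inj s hs h).2
    apply hc₀
    have e : c₀ = (b + c₀) - b := by ring
    rw [e, ← this, sub_self]
  have h4 : ({1, Tg s hs 0 c₀, Tg s hs a b, Tg s hs a (b + c₀)} : Set (G s)).ncard = 4 := by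
    rw [Set.ncard_insert_of_notMem (by simp [ht1, n1, n2]) (Set.toFinite _),
      Set.ncard_insert_of_notMem (by simp [n3, n4]) (Set.toFinite _), Set.ncard_pair n5]
  have hsub : ({1, Tg s hs 0 c₀, Tg s hs a b, Tg s hs a (b + c₀)} : Set (G s)) ⊆
      (SU s hs U : Set (G s)) := by
    rintro z (rfl | rfl | rfl | rfl)
    · exact (SU s hs U).one_mem
    · exact htS
    · exact ⟨⟨a, b, rfl⟩, hz₁N⟩
    · exact hz₂S
  have heq := Set.eq_of_subset_of_ncard_le hsub (by rw [h4, hncard]) (Set.toFinite _)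
  have hmem : ∀ z, z ∈ SU s hs U ↔ z = 1 ∨ z = Tg s hs 0 c₀ ∨ z = Tg s hs a b ∨
      z = Tg s hs a (b + c₀) := by
    intro z
    have : z ∈ (SU s hs U : Set (G s)) ↔
        z ∈ ({1, Tg s hs 0 c₀, Tg s hs a b, Tg s hs a (b + c₀)} : Set (G s)) := by rw [heq]
    simpa using this
  have hsq : Tg s hs a b * Tg s hs a b = Tg s hs 0 c₀ := by
    have hS : Tg s hs a b * Tg s hs a b ∈ SU s hs U :=
      (SU s hs U).mul_mem ⟨⟨a, b, rfl⟩, hz₁N⟩ ⟨⟨a, b, rfl⟩, hz₁N⟩
    have hsq' := Tg_mul_self s hs a b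
    rcases (hmem _).1 hS with h | h | h | h
    · exfalso
      rw [hsq'] at h
      have := ((Tg_eq_one_iff s hs).1 h).2
      rcases mul_eq_zero.1 this with h' | h'
      · exact ha ((map_eq_zero s).1 h')
      · exact ha h'
    · exact h
    · exfalso
      rw [hsq'] at h
      exact ha (Tg_inj s hs h).1.symm
    · exfalso
      rw [hsq'] at h
      exact ha (Tg_inj s hs h).1.symm
  refine ⟨Tg s hs a b, hsq, ?_⟩
  have hinv : (Tg s hs a b)⁻¹ = Tg s hs a (b + c₀) := by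
    symm
    apply eq_inv_of_mul_eq_one_right
    rw [hz₂, ← mul_assoc, hsq, Tg_zero_sq]
  rw [hinv]
  exact hmem

end sol3

end Cfsg.Agent.Lib.Helper6.Sz
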