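import Cfsg.Agent.Lib.Helper6.Exchange

set_option autoImplicit false

namespace Cfsg.Agent.Lib.Helper6.Exch

variable {ι W : Type*} [Group W] (σ : ι → W)

/-- the matrix of orders of products of the generators. -/
noncomputable def coxMat (hσ : ∀ i, σ i * σ i = 1) (hinj : Function.Injective σ) :
    CoxeterMatrix ι where
  M := Matrix.of fun i j => orderOf (σ i * σ j)
  isSymm := by
    ext i j
    simp only [Matrix.transpose_apply, Matrix.of_apply]
    have hi : (σ i)⁻¹ = σ i := inv_eq_of_mul_eq_one_right (hσ i)
    have hj : (σ j)⁻¹ = σ j := inv_eq_of_mul_eq_one_right (hσ j)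
    have : σ j * σ i = (σ i * σ j)⁻¹ := by rw [mul_inv_rev, hi, hj]
    rw [this, orderOf_inv]
  diagonal i := by
    simp only [Matrix.of_apply, hσ i, orderOf_one]
  off_diagonal i j hij := by
    simp only [Matrix.of_apply, ne_eq, orderOf_eq_one_iff]
    intro h
    apply hij
    apply hinj
    have hj : (σ j)⁻¹ = σ j := inv_eq_of_mul_eq_one_right (hσ j)
    rw [← hj]
    exact eq_inv_of_mul_eq_one_left h

lemma coxMat_apply (hσ : ∀ i, σ i * σ i = 1) (hinj : Function.Injective σ) (i j : ι) :
    (coxMat σ hσ hinj) i j = orderOf (σ i * σ j) := rfl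

theorem exists_coxeterSystem (hσ : ∀ i, σ i * σ i = 1) (hinj : Function.Injective σ)
    (hgen : ∀ w : W, ∃ L, wp σ L = w) (hE : Exchange σ) :
    ∃ cs : CoxeterSystem (coxMat σ hσ hinj) W, ∀ i, cs.simple i = σ i := by
  classical
  set M := coxMat σ hσ hinj with hM
  set cs0 := M.toCoxeterSystem with hcs0
  set f : ι → M.Group := cs0.simple with hf
  have hf2 : ∀ i, f i * f i = 1 := fun i => cs0.simple_mul_simple_self i
  have hlift : M.IsLiftable σ := by
    intro i i'
    have hMij : M i i' = orderOf (σ i * σ i') := rfl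
    rw [hMij]
    exact pow_orderOf_eq_one _
  set φ : M.Group →* W := cs0.lift ⟨σ, hlift⟩ with hφ
  have hφf : ∀ i, φ (f i) = σ i := fun i => cs0.lift_apply_simple hlift i
  have hφw : ∀ L, φ (wp f L) = wp σ L := by
    intro L
    induction L with
    | nil => simp
    | cons i L ih => rw [wp_cons, wp_cons, map_mul, hφf, ih]
  -- braid condition
  have hbr : Braid σ f := by
    intro i j n hred heq
    rcases Nat.eq_zero_or_pos n with rfl | hn
    · rfl
    have h1 : (σ i * σ j) ^ n = 1 := by
      rw [← alt_identity σ hσ i j n, heq, mul_inv_cancel]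
    have hdvd : orderOf (σ i * σ j) ∣ n := orderOf_dvd_of_pow_eq_one h1
    have hmpos : 0 < orderOf (σ i * σ j) := by
      rcases Nat.eq_zero_or_pos (orderOf (σ i * σ j)) with h0 | h0
      · rw [h0, zero_dvd_iff] at hdvd; omega
      · exact h0
    have hle : n ≤ orderOf (σ i * σ j) := by
      by_contra hlt
      push Not at hlt
      set m := orderOf (σ i * σ j) with hm
      have hred' : IsRed σ (altW i j (m + 1)) := by
        have := hred.take (m + 1)
        rwa [take_altW i j n (m + 1) (by omega)] at this
      have h2 : wp σ (altW i j m) = wp σ (altW j i m) := by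
        have := alt_identity σ hσ i j m
        rw [hm, pow_orderOf_eq_one, mul_inv_eq_one] at this
        exact this
      obtain ⟨m', hm'⟩ : ∃ m', m = m' + 1 := ⟨m - 1, by omega⟩
      have h3 : wp σ (altW j i m') = wp σ (altW i j (m + 1)) := by
        rw [altW_succ, wp_cons, ← h2, hm', altW_succ, wp_cons, ← mul_assoc, hσ i, one_mul]
      have := hred' _ h3
      rw [length_altW, length_altW] at this
      omega
    have hnm : n = orderOf (σ i * σ j) := Nat.le_antisymm hle (Nat.le_of_dvd hn hdvd)
    have h4 : (f i * f j) ^ n = 1 := by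
      have := cs0.simple_mul_simple_pow i j
      have hMij : M i j = orderOf (σ i * σ j) := rfl
      rw [hMij, ← hnm] at this
      exact this
    have := alt_identity f hf2 i j n
    rw [h4, mul_inv_eq_one] at this
    exact this
  have hmats := matsumoto hσ hE hbr
  -- the inverse map
  let g : W → M.Group := fun w => wp f (Classical.choose (exists_isRed σ w (hgen w)))
  have hg : ∀ L, IsRed σ L → g (wp σ L) = wp f L := by
    intro L hL
    have hspec := Classical.choose_spec (exists_isRed σ (wp σ L) (hgen (wp σ L)))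
    exact hmats _ _ _ rfl hspec.1 hL hspec.2
  have hgstep : ∀ (i : ι) (w : W), g (σ i * w) = f i * g w := by
    intro i w
    obtain ⟨L, hL, rfl⟩ := exists_isRed σ w (hgen w)
    by_cases hred : IsRed σ (i :: L)
    · rw [← wp_cons, hg _ hred, hg _ hL, wp_cons]
    · obtain ⟨j, hj, hjw⟩ := hE L i hL hred
      have hw1 : wp σ (i :: (L.take j ++ L.drop (j + 1))) = wp σ L := by
        have h1 : wp σ (i :: (L.take j ++ L.drop (j + 1))) =
            wp σ (i :: L.take j) * wp σ (L.drop (j + 1)) := by
          simp only [wp_cons, wp_append, mul_assoc]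
        rw [h1, hjw, wp_take_mul_drop]
      have hlen : (i :: (L.take j ++ L.drop (j + 1))).length = L.length := by
        simp only [List.length_cons, List.length_append, List.length_take, List.length_drop]
        omega
      have hred1 : IsRed σ (i :: (L.take j ++ L.drop (j + 1))) := hL.of_eq hw1 (by rw [hlen])
      have hw2 : wp σ (L.take j ++ L.drop (j + 1)) = σ i * wp σ L := by
        rw [← hw1, wp_cons, ← mul_assoc, hσ i, one_mul]
      rw [← hw2, hg _ hred1.tail, hg _ hL]
      have h5 := hmats _ _ _ rfl hred1 hL hw1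
      rw [wp_cons] at h5
      rw [← h5, ← mul_assoc, hf2 i, one_mul]
  have hgw : ∀ L, g (wp σ L) = wp f L := by
    intro L
    induction L with
    | nil => exact hg [] isRed_nil
    | cons i L ih => rw [wp_cons, hgstep, ih, wp_cons]
  have hsurjf : ∀ x : M.Group, ∃ L, wp f L = x := by
    intro x
    obtain ⟨L, hL⟩ := cs0.wordProd_surjective x
    exact ⟨L, hL⟩
  have hbij : Function.Bijective φ := by
    constructor
    · intro x y hxy
      obtain ⟨Lx, rfl⟩ := hsurjf x
      obtain ⟨Ly, rfl⟩ := hsurjf y
      rw [hφw, hφw] at hxy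
      rw [← hgw, ← hgw, hxy]
    · intro w
      obtain ⟨L, rfl⟩ := hgen w
      exact ⟨wp f L, hφw L⟩
  let e : M.Group ≃* W := MulEquiv.ofBijective φ hbij
  refine ⟨⟨e.symm⟩, fun i => ?_⟩
  show e.symm.symm (PresentedGroup.of i) = σ i
  exact hφf i

end Cfsg.Agent.Lib.Helper6.Exch
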