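import Cfsg.Agent.Lib.Helper6.BN3
import Cfsg.Agent.Lib.Helper6.Exchange2

set_option autoImplicit false

namespace Cfsg.Agent.Lib.Helper6

open Cfsg
open scoped Pointwise

variable {G : Type*} [Group G] {P : Cfsg.BNPair G} {J : Set G}

/-- condition (C): the basic step of the exchange condition. -/
theorem cond_C {s s' v : G} (hs : s ∈ P.S) (hs' : s' ∈ P.S) (hv : v ∈ P.N)
    (h1 : len P P.S v < len P P.S (s * v))
    (h3 : len P P.S (s * (v * s')) < len P P.S (v * s')) :
    (s * v)⁻¹ * (v * s') ∈ P.B := by
  have hsN := P.subset hs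
  have hs'N := P.subset hs'
  have hvs'N : v * s' ∈ P.N := P.N.mul_mem hv hs'N
  have hsvN : s * v ∈ P.N := P.N.mul_mem hsN hv
  obtain ⟨b, hb, hB⟩ := lemmaB (J := P.S) subset_rfl (hasRep_of_mem_N hvs'N) hs h3.le
  have hA := lemmaA (J := P.S) subset_rfl (hasRep_of_mem_N hv) hs h1.le hb
  have hT := T3_right P hs' hsvN hA
  have e : s * b * v * s' = s * b * (v * s') := by group
  rw [e] at hT
  rcases hT with hT | hT
  · exfalso
    have hC : C P (s * v * s') = C P (v * s') := by
      rw [← C_eq_of_mem P hT, C_eq_of_mem P hB]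
    have h4 := bruhat_unique (P.N.mul_mem hsvN hs'N) hvs'N hC
    have h5 := len_congr (J := P.S) (P.N.mul_mem hsvN hs'N) hvs'N h4
    have e2 : s * v * s' = s * (v * s') := by group
    rw [e2] at h5
    omega
  · have hC : C P (s * v) = C P (v * s') := by
      rw [← C_eq_of_mem P hT, C_eq_of_mem P hB]
    exact bruhat_unique hsvN hvs'N hC

/-- the exchange condition on representatives. -/
theorem exchange_rep : ∀ (L : List G), (∀ x ∈ L, x ∈ P.S) → len P P.S L.prod = L.length →
    ∀ s ∈ P.S, len P P.S (s * L.prod) < L.length →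
    ∃ j < L.length, ((s :: L.take j).prod)⁻¹ * (L.take (j + 1)).prod ∈ P.B := by
  intro L
  induction L using List.reverseRecOn with
  | nil =>
    intro _ _ s _ h
    simp at h
  | append_singleton L1 s' ih =>
    intro hL hlen s hs hlt
    have hL1 : ∀ x ∈ L1, x ∈ P.S := fun x hx => hL x (List.mem_append_left _ hx)
    have hs' : s' ∈ P.S := hL s' (by simp)
    have hvN : L1.prod ∈ P.N := prod_mem_N (J := P.S) subset_rfl hL1
    have hprod : (L1 ++ [s']).prod = L1.prod * s' := by simp
    rw [hprod] at hlen hlt
    simp only [List.length_append, List.length_cons, List.length_nil] at hlen hlt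
    have hrep1 : Rep P P.S L1 L1.prod := rep_prod subset_rfl hL1
    have hlen1 : len P P.S L1.prod = L1.length := by
      have h1 := len_le_of_rep hrep1
      have h2 := len_mul_right_le (J := P.S) subset_rfl hs' ⟨L1, hrep1⟩
      omega
    by_cases hcase : len P P.S (s * L1.prod) < L1.length
    · obtain ⟨j, hj, hjB⟩ := ih hL1 hlen1 s hs hcase
      refine ⟨j, by simp only [List.length_append, List.length_cons, List.length_nil]; omega, ?_⟩
      rw [List.take_append_of_le_length (by omega), List.take_append_of_le_length (by omega)]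
      exact hjB
    · have hne := len_smul_ne (J := P.S) subset_rfl (hasRep_of_mem_N hvN) hs
      have h1 : len P P.S L1.prod < len P P.S (s * L1.prod) := by omega
      have h3 : len P P.S (s * (L1.prod * s')) < len P P.S (L1.prod * s') := by omega
      have hC := cond_C hs hs' hvN h1 h3
      refine ⟨L1.length, by simp, ?_⟩
      rw [List.take_left', List.take_of_length_le (by simp)]
      · simpa using hC
      · rfl

/-- reversing a representing word. -/
lemma Rep.reverse (hJ : J ⊆ P.S) : ∀ {L : List G} {n : G}, Rep P J L n → Rep P J L.reverse n⁻¹ := by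
  intro L
  induction L with
  | nil =>
    intro n h
    rw [List.reverse_nil, rep_nil_iff] at *
    exact ⟨P.N.inv_mem h.1, P.B.inv_mem h.2⟩
  | cons s L1 ih =>
    intro n h
    have hs : s ∈ J := h.1 s List.mem_cons_self
    have h1 := ih (h.of_cons hJ)
    have h2 := h1.concat hJ hs
    rw [List.reverse_cons]
    refine h2.congr (P.N.inv_mem h.mem_N) ?_
    have e : ((s⁻¹ * n)⁻¹ * s)⁻¹ * n⁻¹ = (s * s)⁻¹ := by group
    rw [e]
    exact P.B.inv_mem (P.sq_mem s (hJ hs))

end Cfsg.Agent.Lib.Helper6
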