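import Mathlib

set_option autoImplicit false

/-!
# Exchange condition implies Coxeter system

A group `W` generated by involutions `σ i` which satisfies the exchange condition is a Coxeter
group with respect to the matrix of the orders of the products `σ i * σ j`.
-/

namespace Cfsg.Agent.Lib.Helper6.Exch

variable {ι : Type*}

/-- product of a word. -/
def wp {G : Type*} [Group G] (g : ι → G) (L : List ι) : G := (L.map g).prod

section basic
variable {G : Type*} [Group G] (g : ι → G)

@[simp] lemma wp_nil : wp g [] = 1 := by simp [wp]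
@[simp] lemma wp_cons (i : ι) (L : List ι) : wp g (i :: L) = g i * wp g L := by simp [wp]
@[simp] lemma wp_append (L L' : List ι) : wp g (L ++ L') = wp g L * wp g L' := by simp [wp]
lemma wp_singleton (i : ι) : wp g [i] = g i := by simp [wp]

lemma wp_take_mul_drop (L : List ι) (j : ℕ) : wp g (L.take j) * wp g (L.drop j) = wp g L := by
  rw [← wp_append, List.take_append_drop]

/-- alternating word starting with `i`. -/
def altW (i j : ι) : ℕ → List ι
  | 0 => []
  | n + 1 => i :: altW j i n

@[simp] lemma altW_zero (i j : ι) : altW i j 0 = [] := rfl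
lemma altW_succ (i j : ι) (n : ℕ) : altW i j (n + 1) = i :: altW j i n := rfl

lemma length_altW (i j : ι) (n : ℕ) : (altW i j n).length = n := by
  induction n generalizing i j with
  | zero => rfl
  | succ n ih => simp [altW_succ, ih]

lemma take_altW (i j : ι) (n m : ℕ) (h : m ≤ n) : (altW i j n).take m = altW i j m := by
  induction n generalizing i j m with
  | zero =>
    have : m = 0 := by omega
    subst this; rfl
  | succ n ih =>
    cases m with
    | zero => rfl
    | succ m =>
      rw [altW_succ, List.take_succ_cons, ih j i m (by omega), altW_succ]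

/-- alternating products of involutions. -/
lemma alt_identity (hg : ∀ i, g i * g i = 1) (i j : ι) (n : ℕ) :
    wp g (altW i j n) * (wp g (altW j i n))⁻¹ = (g i * g j) ^ n := by
  induction n generalizing i j with
  | zero => simp
  | succ n ih =>
    rw [altW_succ, altW_succ, wp_cons, wp_cons, mul_inv_rev]
    have h1 : wp g (altW j i n) * (wp g (altW i j n))⁻¹ = (g j * g i) ^ n := ih j i
    have hi : (g i)⁻¹ = g i := inv_eq_of_mul_eq_one_right (hg i)
    have hj : (g j)⁻¹ = g j := inv_eq_of_mul_eq_one_right (hg j)
    calc g i * wp g (altW j i n) * ((wp g (altW i j n))⁻¹ * (g j)⁻¹)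
        = g i * (wp g (altW j i n) * (wp g (altW i j n))⁻¹) * g j := by rw [hj]; group
      _ = g i * (g j * g i) ^ n * g j := by rw [h1]
      _ = (g i * g j) ^ (n + 1) := by
        rw [pow_succ']
        have : g i * (g j * g i) ^ n = (g i * g j) ^ n * g i := by
          clear h1 ih
          induction n with
          | zero => simp
          | succ n ih2 =>
            rw [pow_succ, pow_succ, ← mul_assoc, ih2]; group
        rw [this]
        -- (g i g j)^n g i g j = g i g j (g i g j)^n
        rw [mul_assoc, ← pow_succ, pow_succ']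

end basic

section red
variable {W : Type*} [Group W] (σ : ι → W)

/-- a word is reduced if no shorter word has the same product. -/
def IsRed (L : List ι) : Prop := ∀ L' : List ι, wp σ L' = wp σ L → L.length ≤ L'.length

variable {σ}

lemma IsRed.append_left {L1 L2 : List ι} (h : IsRed σ (L1 ++ L2)) : IsRed σ L1 := by
  intro L' hL'
  have := h (L' ++ L2) (by rw [wp_append, wp_append, hL'])
  simp only [List.length_append] at this
  omega

lemma IsRed.append_right {L1 L2 : List ι} (h : IsRed σ (L1 ++ L2)) : IsRed σ L2 := by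
  intro L' hL'
  have := h (L1 ++ L') (by rw [wp_append, wp_append, hL'])
  simp only [List.length_append] at this
  omega

lemma IsRed.tail {i : ι} {L : List ι} (h : IsRed σ (i :: L)) : IsRed σ L :=
  IsRed.append_right (L1 := [i]) h

lemma IsRed.take {L : List ι} (h : IsRed σ L) (j : ℕ) : IsRed σ (L.take j) := by
  rw [← List.take_append_drop j L] at h
  exact h.append_left

lemma IsRed.drop {L : List ι} (h : IsRed σ L) (j : ℕ) : IsRed σ (L.drop j) := by
  rw [← List.take_append_drop j L] at h
  exact h.append_right

lemma IsRed.of_eq {L L' : List ι} (h : IsRed σ L) (hw : wp σ L' = wp σ L)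
    (hl : L'.length ≤ L.length) : IsRed σ L' := by
  intro L'' hL''
  have := h L'' (hL''.trans hw)
  omega

lemma IsRed.length_eq {L L' : List ι} (h : IsRed σ L) (h' : IsRed σ L') (hw : wp σ L = wp σ L') :
    L.length = L'.length :=
  le_antisymm (h L' hw.symm) (h' L hw)

lemma isRed_nil : IsRed σ ([] : List ι) := fun _ _ => Nat.zero_le _

variable (σ)

/-- every element which is a word product has a reduced word. -/
lemma exists_isRed (w : W) (hw : ∃ L, wp σ L = w) : ∃ L, IsRed σ L ∧ wp σ L = w := by
  classical
  have hex : ∃ n, ∃ L : List ι, L.length = n ∧ wp σ L = w := by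
    obtain ⟨L, hL⟩ := hw
    exact ⟨L.length, L, rfl, hL⟩
  obtain ⟨L, hLn, hLw⟩ := Nat.find_spec hex
  refine ⟨L, ?_, hLw⟩
  intro L' hL'
  rw [hLn]
  exact Nat.find_min' hex ⟨L', rfl, hL'.trans hLw⟩

end red

section matsumoto

variable {W H : Type*} [Group W] [Group H] (σ : ι → W) (f : ι → H)

/-- the exchange condition. -/
def Exchange : Prop := ∀ (L : List ι) (i : ι), IsRed σ L → ¬ IsRed σ (i :: L) →
  ∃ j < L.length, wp σ (i :: L.take j) = wp σ (L.take (j + 1))

/-- the braid condition on the target. -/
def Braid : Prop := ∀ (i j : ι) (n : ℕ), IsRed σ (altW i j n) →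
  wp σ (altW i j n) = wp σ (altW j i n) → wp f (altW i j n) = wp f (altW j i n)

variable {σ f}

theorem matsumoto (hσ : ∀ i, σ i * σ i = 1) (hE : Exchange σ) (hbr : Braid σ f) :
    ∀ n : ℕ, ∀ L L' : List ι, L.length = n → IsRed σ L → IsRed σ L' → wp σ L = wp σ L' →
      wp f L = wp f L' := by
  intro n
  induction n using Nat.strong_induction_on with
  | _ n ih =>
  intro L L' hn hL hL' hw
  by_contra hne
  -- common prefix letter
  have lemA : ∀ (r : ι) (X1 Y1 : List ι), (r :: X1).length = n → IsRed σ (r :: X1) →
      IsRed σ (r :: Y1) → wp σ (r :: X1) = wp σ (r :: Y1) → wp f (r :: X1) = wp f (r :: Y1) := by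
    intro r X1 Y1 hlen hX hY hXY
    rw [wp_cons, wp_cons] at hXY ⊢
    have h1 : wp σ X1 = wp σ Y1 := mul_left_cancel hXY
    have h2 : X1.length < n := by simp only [List.length_cons] at hlen; omega
    rw [ih X1.length h2 X1 Y1 rfl hX.tail hY.tail h1]
  -- common suffix
  have lemA' : ∀ (X0 Y0 Z : List ι), (X0 ++ Z).length = n → 0 < Z.length → IsRed σ (X0 ++ Z) →
      IsRed σ (Y0 ++ Z) → wp σ (X0 ++ Z) = wp σ (Y0 ++ Z) → wp f (X0 ++ Z) = wp f (Y0 ++ Z) := by
    intro X0 Y0 Z hlen hZ hX hY hXY
    rw [wp_append, wp_append] at hXY ⊢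
    have h1 : wp σ X0 = wp σ Y0 := mul_right_cancel hXY
    have h2 : X0.length < n := by simp only [List.length_append] at hlen; omega
    rw [ih X0.length h2 X0 Y0 rfl hX.append_left hY.append_left h1]
  -- the step
  have stepB : ∀ (X : List ι) (r : ι) (Y1 : List ι), X.length = n → IsRed σ X →
      IsRed σ (r :: Y1) → wp σ X = wp σ (r :: Y1) → wp f X ≠ wp f (r :: Y1) →
      (IsRed σ (r :: X.take (n - 1)) ∧ wp σ (r :: X.take (n - 1)) = wp σ X ∧
        wp f (r :: X.take (n - 1)) ≠ wp f X ∧ (r :: X.take (n - 1)).length = n) := by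
    intro X r Y1 hXn hX hY hXY hfne
    have hYn : (r :: Y1).length = n := by rw [← hXn]; exact (hX.length_eq hY hXY).symm
    have hnpos : 1 ≤ n := by rw [← hYn]; simp
    have hnot : ¬ IsRed σ (r :: X) := by
      intro hred
      have h1 : wp σ Y1 = wp σ (r :: X) := by
        rw [wp_cons, hXY, wp_cons, ← mul_assoc, hσ r, one_mul]
      have := hred Y1 h1
      simp only [List.length_cons] at this hYn
      omega
    obtain ⟨j, hj, hjw⟩ := hE X r hX hnot
    rw [hXn] at hj
    -- the word U
    have hUw : wp σ (r :: (X.take j ++ X.drop (j + 1))) = wp σ X := by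
      have h1 : wp σ (r :: (X.take j ++ X.drop (j + 1))) =
          wp σ (r :: X.take j) * wp σ (X.drop (j + 1)) := by
        simp only [wp_cons, wp_append, mul_assoc]
      rw [h1, hjw, wp_take_mul_drop]
    have hUlen : (r :: (X.take j ++ X.drop (j + 1))).length = n := by
      simp only [List.length_cons, List.length_append, List.length_take, List.length_drop, hXn]
      omega
    have hUred : IsRed σ (r :: (X.take j ++ X.drop (j + 1))) :=
      hX.of_eq hUw (by rw [hUlen, hXn])
    have hUY : wp f (r :: (X.take j ++ X.drop (j + 1))) = wp f (r :: Y1) :=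
      lemA r _ Y1 hUlen hUred hY (hUw.trans hXY)
    by_cases hjn : j + 1 < n
    · -- common suffix: contradiction
      exfalso
      set Z := X.drop (n - 1) with hZ
      have hZlen : Z.length = 1 := by rw [hZ, List.length_drop, hXn]; omega
      have hX' : X = X.take (n - 1) ++ Z := (List.take_append_drop (n - 1) X).symm
      have hdrop : X.drop (j + 1) = (X.drop (j + 1)).take (n - 1 - (j + 1)) ++ Z := by
        have h1 : Z = (X.drop (j + 1)).drop (n - 1 - (j + 1)) := by
          rw [hZ, List.drop_drop]; congr 1; omega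
        rw [h1, List.take_append_drop]
      have hU' : r :: (X.take j ++ X.drop (j + 1)) =
          (r :: (X.take j ++ (X.drop (j + 1)).take (n - 1 - (j + 1)))) ++ Z := by
        conv_lhs => rw [hdrop]
        simp only [List.cons_append, List.append_assoc]
      have h3 : wp f (r :: (X.take j ++ X.drop (j + 1))) = wp f X := by
        rw [hU']
        conv_rhs => rw [hX']
        apply lemA'
        · rw [← hU']; exact hUlen
        · rw [hZlen]; exact Nat.one_pos
        · rw [← hU']; exact hUred
        · rw [← hX']; exact hX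
        · rw [← hU', ← hX']; exact hUw
      exact hfne (h3.symm.trans hUY)
    · have hj' : j = n - 1 := by omega
      subst hj'
      have hdropnil : X.drop (n - 1 + 1) = [] := by
        rw [List.drop_eq_nil_iff, hXn]; omega
      rw [hdropnil, List.append_nil] at hUw hUlen hUred hUY
      refine ⟨hUred, hUw, ?_, hUlen⟩
      rw [hUY]
      exact fun h => hfne h.symm
  -- lengths
  have hL'n : L'.length = n := by rw [← hn]; exact (hL.length_eq hL' hw).symm
  have hnpos : 1 ≤ n := by
    by_contra h0
    have h0' : n = 0 := by omega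
    rw [h0'] at hn hL'n
    rw [List.length_eq_zero_iff] at hn hL'n
    rw [hn, hL'n] at hne
    exact hne rfl
  -- iteration
  have iter : ∀ k : ℕ, 1 ≤ k → k ≤ n → ∃ (X : List ι) (p r : ι) (Y1 : List ι), p ≠ r ∧
      X.length = n ∧ IsRed σ X ∧ IsRed σ (r :: Y1) ∧ wp σ X = wp σ (r :: Y1) ∧
      wp f X ≠ wp f (r :: Y1) ∧ X.take k = altW p r k := by
    intro k hk1
    induction k, hk1 using Nat.le_induction with
    | base =>
      intro _
      obtain ⟨p, L1, rfl⟩ : ∃ p L1, L = p :: L1 := by
        cases L with
        | nil => simp at hn; omega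
        | cons p L1 => exact ⟨p, L1, rfl⟩
      obtain ⟨r, L1', rfl⟩ : ∃ r L1', L' = r :: L1' := by
        cases L' with
        | nil => simp at hL'n; omega
        | cons r L1' => exact ⟨r, L1', rfl⟩
      refine ⟨p :: L1, p, r, L1', ?_, hn, hL, hL', hw, hne, rfl⟩
      rintro rfl
      exact hne (lemA p L1 L1' hn hL hL' hw)
    | succ k hk1 ihk =>
      intro hkn
      obtain ⟨X, p, r, Y1, hpr, hXn, hX, hY, hXY, hfne, htake⟩ := ihk (by omega)
      obtain ⟨hred, hw', hf', hlen'⟩ := stepB X r Y1 hXn hX hY hXY hfne
      -- X starts with p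
      obtain ⟨X1, rfl⟩ : ∃ X1, X = p :: X1 := by
        cases X with
        | nil => simp at hXn; omega
        | cons x X1 =>
          obtain ⟨k', rfl⟩ : ∃ k', k = k' + 1 := ⟨k - 1, by omega⟩
          rw [List.take_succ_cons, altW_succ] at htake
          have := (List.cons_eq_cons.1 htake).1
          exact ⟨X1, by rw [this]⟩
      refine ⟨r :: (p :: X1).take (n - 1), r, p, X1, hpr.symm, hlen', hred, hX, hw', hf', ?_⟩
      rw [List.take_succ_cons, List.take_take, min_eq_left (by omega), htake, altW_succ]
  obtain ⟨X, p, r, Y1, hpr, hXn, hX, hY, hXY, hfne, htake⟩ := iter n hnpos le_rfl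
  obtain ⟨hred, hw', hf', hlen'⟩ := stepB X r Y1 hXn hX hY hXY hfne
  have hXalt : X = altW p r n := by
    rw [← htake, ← hXn, List.take_length]
  rw [hXalt, take_altW p r n (n - 1) (by omega)] at hred hw' hf'
  have hn1 : r :: altW p r (n - 1) = altW r p n := by
    obtain ⟨n', rfl⟩ : ∃ n', n = n' + 1 := ⟨n - 1, by omega⟩
    rfl
  rw [hn1] at hred hw' hf'
  exact hf' (hbr r p n hred hw')

end matsumoto

end Cfsg.Agent.Lib.Helper6.Exch
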