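import Mathlib

namespace Cfsg.Agent.Lib.Helper6.JSplit

open Module

variable {F : Type*} [Field F] {V : Type*} [AddCommGroup V] [Module F V]

/-- the evaluation map `w ↦ (φ (T^k w))_{k<b}` -/
noncomputable def psiMap (T : Module.End F V) (φ : V →ₗ[F] F) (b : ℕ) : V →ₗ[F] (Fin b → F) :=
  LinearMap.pi (fun k : Fin b => φ ∘ₗ (T ^ (k : ℕ)))

theorem psiMap_apply (T : Module.End F V) (φ : V →ₗ[F] F) (b : ℕ) (w : V) (k : Fin b) :
    psiMap T φ b w k = φ ((T ^ (k : ℕ)) w) := rfl

/-- the map `a ↦ Σ a_k T^k v` -/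
noncomputable def gamMap (T : Module.End F V) (v : V) (b : ℕ) : (Fin b → F) →ₗ[F] V :=
  Fintype.linearCombination F (fun k : Fin b => (T ^ (k : ℕ)) v)

theorem gamMap_apply (T : Module.End F V) (v : V) (b : ℕ) (a : Fin b → F) :
    gamMap T v b a = ∑ k : Fin b, a k • (T ^ (k : ℕ)) v := by
  unfold gamMap
  rw [Fintype.linearCombination_apply]

theorem pow_apply_eq_zero_of_le (T : Module.End F V) {b : ℕ} (hTb : T ^ b = 0) {k : ℕ} (hk : b ≤ k)
    (w : V) : (T ^ k) w = 0 := by
  obtain ⟨d, rfl⟩ := Nat.exists_eq_add_of_le hk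
  rw [pow_add, hTb, zero_mul]
  rfl

theorem psi_gam_injective (T : Module.End F V) (b : ℕ) (hTb : T ^ b = 0) (v : V)
    (φ : V →ₗ[F] F) (hφ : φ ((T ^ (b - 1)) v) = 1) :
    Function.Injective ((psiMap T φ b) ∘ₗ (gamMap T v b)) := by
  classical
  rw [← LinearMap.ker_eq_bot, LinearMap.ker_eq_bot']
  intro a ha
  by_contra hne
  have hne' : ∃ k : Fin b, a k ≠ 0 := by
    by_contra hall
    push Not at hall
    exact hne (funext hall)
  have hfne : (Finset.univ.filter (fun k : Fin b => a k ≠ 0)).Nonempty := by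
    obtain ⟨k, hk⟩ := hne'
    exact ⟨k, by simp [hk]⟩
  set j0 := (Finset.univ.filter (fun k : Fin b => a k ≠ 0)).min' hfne with hj0def
  have hj0 : a j0 ≠ 0 := by
    have := Finset.min'_mem _ hfne
    rw [← hj0def] at this
    simpa using this
  have hmin : ∀ k : Fin b, a k ≠ 0 → j0 ≤ k := by
    intro k hk
    exact Finset.min'_le _ k (by simp [hk])
  have hj0b : (j0 : ℕ) < b := j0.2
  let i : Fin b := ⟨b - 1 - j0, by omega⟩
  have h1 : (psiMap T φ b) (gamMap T v b a) i = 0 := by
    have : (psiMap T φ b) (gamMap T v b a) = 0 := ha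
    rw [this]; rfl
  rw [psiMap_apply, gamMap_apply, map_sum, map_sum] at h1
  rw [Finset.sum_eq_single j0] at h1
  · rw [map_smul, map_smul, ← Module.End.mul_apply, ← pow_add] at h1
    have : ((i : ℕ) + (j0 : ℕ)) = b - 1 := by
      show b - 1 - (j0 : ℕ) + (j0 : ℕ) = b - 1
      omega
    rw [this, hφ, smul_eq_mul, mul_one] at h1
    exact hj0 h1
  · intro k _ hk
    by_cases hak : a k = 0
    · rw [hak, zero_smul, map_zero, map_zero]
    · have hle := hmin k hak
      have hlt : (j0 : ℕ) < (k : ℕ) := by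
        have hne2 : j0 ≠ k := fun h => hk h.symm
        exact lt_of_le_of_ne hle (fun h => hne2 (Fin.ext h))
      rw [map_smul, ← Module.End.mul_apply, ← pow_add]
      have hge : b ≤ (i : ℕ) + (k : ℕ) := by
        show b ≤ b - 1 - (j0 : ℕ) + (k : ℕ)
        omega
      rw [pow_apply_eq_zero_of_le T hTb hge, smul_zero, map_zero]
  · intro h
    exact absurd (Finset.mem_univ j0) h

theorem exists_cyclic_split (T : Module.End F V) (b : ℕ) (hb : 0 < b)
    (hTb : T ^ b = 0) (v : V) (hv : (T ^ (b - 1)) v ≠ 0) :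
    ∃ C W : Submodule F V, IsCompl C W ∧ (∀ x ∈ C, T x ∈ C) ∧ (∀ x ∈ W, T x ∈ W) ∧
      finrank F C = b := by
  obtain ⟨φ0, hφ0⟩ : ∃ φ0 : Module.Dual F V, φ0 ((T ^ (b - 1)) v) ≠ 0 := by
    by_contra hall
    push Not at hall
    exact hv ((Module.forall_dual_apply_eq_zero_iff F _).mp hall)
  set φ : V →ₗ[F] F := (φ0 ((T ^ (b - 1)) v))⁻¹ • φ0 with hφdef
  have hφ : φ ((T ^ (b - 1)) v) = 1 := by
    rw [hφdef, LinearMap.smul_apply, smul_eq_mul, inv_mul_cancel₀ hφ0]
  have hinj := psi_gam_injective T b hTb v φ hφ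
  have hsurj : Function.Surjective ((psiMap T φ b) ∘ₗ (gamMap T v b)) :=
    LinearMap.injective_iff_surjective.mp hinj
  have hginj : Function.Injective (gamMap T v b) := by
    intro a a' h
    apply hinj
    rw [LinearMap.comp_apply, LinearMap.comp_apply, h]
  refine ⟨LinearMap.range (gamMap T v b), LinearMap.ker (psiMap T φ b), ⟨?_, ?_⟩, ?_, ?_, ?_⟩
  · rw [Submodule.disjoint_def]
    rintro x ⟨a, rfl⟩ hx
    rw [LinearMap.mem_ker] at hx
    have : a = 0 := by
      apply hinj
      rw [LinearMap.comp_apply, hx, map_zero]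
    rw [this, map_zero]
  · rw [codisjoint_iff, eq_top_iff]
    intro w _
    obtain ⟨a, ha⟩ := hsurj (psiMap T φ b w)
    rw [LinearMap.comp_apply] at ha
    have hw : w = gamMap T v b a + (w - gamMap T v b a) := by abel
    rw [hw]
    apply Submodule.add_mem_sup
    · exact ⟨a, rfl⟩
    · rw [LinearMap.mem_ker, map_sub, ha, sub_self]
  · -- range invariant
    have hrange : LinearMap.range (gamMap T v b) =
        Submodule.span F (Set.range (fun k : Fin b => (T ^ (k : ℕ)) v)) := by
      unfold gamMap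
      exact Fintype.range_linearCombination F _
    rw [hrange]
    have hle : Submodule.span F (Set.range (fun k : Fin b => (T ^ (k : ℕ)) v)) ≤
        (Submodule.span F (Set.range (fun k : Fin b => (T ^ (k : ℕ)) v))).comap T := by
      rw [Submodule.span_le]
      rintro _ ⟨k, rfl⟩
      simp only [SetLike.mem_coe, Submodule.mem_comap]
      rw [← Module.End.mul_apply, ← pow_succ']
      by_cases hk : (k : ℕ) + 1 < b
      · exact Submodule.subset_span ⟨⟨k + 1, hk⟩, rfl⟩
      · rw [pow_apply_eq_zero_of_le T hTb (by omega)]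
        exact Submodule.zero_mem _
    intro x hx
    exact hle hx
  · intro x hx
    rw [LinearMap.mem_ker] at hx ⊢
    funext k
    rw [psiMap_apply, ← Module.End.mul_apply, ← pow_succ]
    by_cases hk : (k : ℕ) + 1 < b
    · have := congrFun hx ⟨k + 1, hk⟩
      rw [psiMap_apply] at this
      exact this
    · rw [pow_apply_eq_zero_of_le T hTb (by omega), map_zero]
      rfl
  · rw [LinearMap.finrank_range_of_inj hginj, Module.finrank_fin_fun]

end Cfsg.Agent.Lib.Helper6.JSplit
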