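import Mathlib
import Cfsg.Agent.Lib.Helper6.JSplitA

namespace Cfsg.Agent.Lib.Helper6.JSplit

open Module

universe u
variable {F : Type*} [Field F]

theorem isCompl_of_three {V : Type*} [AddCommGroup V] [Module F V]
    {C W0 A B : Submodule F V} (hc : IsCompl C W0) (hA : A ≤ W0) (hB : B ≤ W0)
    (hdis : Disjoint A B) (hsup : A ⊔ B = W0) : IsCompl (C ⊔ A) B := by
  constructor
  · rw [disjoint_iff]
    have h1 : (A ⊔ C) ⊓ W0 = A ⊔ C ⊓ W0 := sup_inf_assoc_of_le C hA
    rw [hc.inf_eq_bot, sup_bot_eq] at h1
    have h2 : (C ⊔ A) ⊓ B = ((A ⊔ C) ⊓ W0) ⊓ B := by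
      rw [inf_assoc, inf_eq_right.mpr hB, sup_comm]
    rw [h2, h1]
    exact disjoint_iff.mp hdis
  · rw [codisjoint_iff, sup_assoc, hsup]
    exact hc.sup_eq_top

theorem inv_sup {V : Type*} [AddCommGroup V] [Module F V] (T : Module.End F V)
    {A B : Submodule F V} (hA : ∀ x ∈ A, T x ∈ A) (hB : ∀ x ∈ B, T x ∈ B) :
    ∀ x ∈ A ⊔ B, T x ∈ A ⊔ B := by
  intro x hx
  obtain ⟨a, ha, b, hb, rfl⟩ := Submodule.mem_sup.mp hx
  rw [map_add]
  exact Submodule.add_mem_sup (hA a ha) (hB b hb)

theorem inv_map_subtype {V : Type*} [AddCommGroup V] [Module F V] (T : Module.End F V)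
    (W0 : Submodule F V) (hW0 : ∀ x ∈ W0, T x ∈ W0) (U' : Submodule F W0)
    (hU' : ∀ x ∈ U', (T.restrict hW0) x ∈ U') :
    ∀ x ∈ U'.map W0.subtype, T x ∈ U'.map W0.subtype := by
  rintro _ ⟨u, hu, rfl⟩
  exact ⟨(T.restrict hW0) u, hU' u hu, rfl⟩

theorem exists_jordan_data (p : ℕ) : ∀ (n : ℕ) (V : Type u) [AddCommGroup V] [Module F V]
    [FiniteDimensional F V] (T : Module.End F V), finrank F V = n → T ^ p = 0 →
    ∃ μ : Multiset ℕ, (∀ b ∈ μ, 0 < b ∧ b ≤ p) ∧ μ.sum = n ∧
      ∀ ν : Multiset ℕ, ν ≤ μ → ∃ U W : Submodule F V, IsCompl U W ∧ (∀ x ∈ U, T x ∈ U) ∧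
        (∀ x ∈ W, T x ∈ W) ∧ finrank F U = ν.sum := by
  intro n
  induction n using Nat.strong_induction_on with
  | _ n ih =>
    intro V _ _ _ T hn hTp
    rcases Nat.eq_zero_or_pos n with h0 | hpos
    · subst h0
      refine ⟨0, by simp, by simp, ?_⟩
      intro ν hν
      have : ν = 0 := Multiset.le_zero.mp hν
      subst this
      exact ⟨⊥, ⊤, isCompl_bot_top, fun x hx => by rw [Submodule.mem_bot] at hx; rw [hx, map_zero]; exact Submodule.zero_mem _,
        fun _ _ => Submodule.mem_top, by simp⟩
    · have : Nontrivial V := Module.nontrivial_of_finrank_pos (R := F) (by rw [hn]; exact hpos)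
      have hex : ∃ k, T ^ k = 0 := ⟨p, hTp⟩
      classical
      set b := Nat.find hex with hbdef
      have hTb : T ^ b = 0 := Nat.find_spec hex
      have hbp : b ≤ p := Nat.find_min' hex hTp
      have hb0 : 0 < b := by
        rcases Nat.eq_zero_or_pos b with h | h
        · exfalso
          rw [h, pow_zero] at hTb
          obtain ⟨x, hx⟩ := exists_ne (0 : V)
          apply hx
          have : (1 : Module.End F V) x = (0 : Module.End F V) x := by rw [hTb]
          simpa using this
        · exact h
      have hTb1 : T ^ (b - 1) ≠ 0 := Nat.find_min hex (by omega)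
      obtain ⟨v, hv⟩ : ∃ v, (T ^ (b - 1)) v ≠ 0 := by
        by_contra hall
        push Not at hall
        exact hTb1 (LinearMap.ext hall)
      obtain ⟨C, W0, hc, hCinv, hW0inv, hCb⟩ := exists_cyclic_split T b hb0 hTb v hv
      have hdim : finrank F C + finrank F W0 = finrank F V := Submodule.finrank_add_eq_of_isCompl hc
      have hW0n : finrank F W0 = n - b := by omega
      have hlt : n - b < n := by omega
      have hTp' : (T.restrict hW0inv) ^ p = 0 := by
        rw [Module.End.pow_restrict p]
        ext x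
        rw [LinearMap.restrict_apply]
        simp [hTp]
      obtain ⟨μ', hμ', hsum', hdata'⟩ := ih (n - b) hlt W0 (T.restrict hW0inv) hW0n hTp'
      refine ⟨b ::ₘ μ', ?_, ?_, ?_⟩
      · intro a ha
        rcases Multiset.mem_cons.mp ha with rfl | ha
        · exact ⟨hb0, hbp⟩
        · exact hμ' a ha
      · rw [Multiset.sum_cons, hsum']; omega
      · intro ν hν
        by_cases hbν : b ∈ ν
        · obtain ⟨ν', rfl⟩ := Multiset.exists_cons_of_mem hbν
          have hν' : ν' ≤ μ' := (Multiset.cons_le_cons_iff b).mp hν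
          obtain ⟨U', W', hc', hU', hW', hfr'⟩ := hdata' ν' hν'
          have hA : U'.map W0.subtype ≤ W0 := Submodule.map_subtype_le _ _
          have hB : W'.map W0.subtype ≤ W0 := Submodule.map_subtype_le _ _
          have hdis : Disjoint (U'.map W0.subtype) (W'.map W0.subtype) := by
            rw [disjoint_iff, ← Submodule.map_inf _ (Submodule.injective_subtype W0),
              hc'.inf_eq_bot, Submodule.map_bot]
          have hsup : U'.map W0.subtype ⊔ W'.map W0.subtype = W0 := by
            rw [← Submodule.map_sup, hc'.sup_eq_top, Submodule.map_top, Submodule.range_subtype]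
          refine ⟨C ⊔ U'.map W0.subtype, W'.map W0.subtype, isCompl_of_three hc hA hB hdis hsup,
            inv_sup T hCinv (inv_map_subtype T W0 hW0inv U' hU'),
            inv_map_subtype T W0 hW0inv W' hW', ?_⟩
          have hd2 : Disjoint C (U'.map W0.subtype) := hc.disjoint.mono_right hA
          have h1 := Submodule.finrank_sup_add_finrank_inf_eq C (U'.map W0.subtype)
          rw [disjoint_iff.mp hd2, finrank_bot, add_zero] at h1
          rw [h1, hCb, Submodule.finrank_map_subtype_eq, hfr', Multiset.sum_cons]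
        · have hν' : ν ≤ μ' := (Multiset.le_cons_of_notMem hbν).mp hν
          obtain ⟨U', W', hc', hU', hW', hfr'⟩ := hdata' ν hν'
          have hA : U'.map W0.subtype ≤ W0 := Submodule.map_subtype_le _ _
          have hB : W'.map W0.subtype ≤ W0 := Submodule.map_subtype_le _ _
          have hdis : Disjoint (U'.map W0.subtype) (W'.map W0.subtype) := by
            rw [disjoint_iff, ← Submodule.map_inf _ (Submodule.injective_subtype W0),
              hc'.inf_eq_bot, Submodule.map_bot]
          have hsup : U'.map W0.subtype ⊔ W'.map W0.subtype = W0 := by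
            rw [← Submodule.map_sup, hc'.sup_eq_top, Submodule.map_top, Submodule.range_subtype]
          refine ⟨U'.map W0.subtype, C ⊔ W'.map W0.subtype,
            (isCompl_of_three hc hB hA hdis.symm (by rw [sup_comm]; exact hsup)).symm,
            inv_map_subtype T W0 hW0inv U' hU',
            inv_sup T hCinv (inv_map_subtype T W0 hW0inv W' hW'), ?_⟩
          rw [Submodule.finrank_map_subtype_eq, hfr']

end Cfsg.Agent.Lib.Helper6.JSplit
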