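import Mathlib

namespace Cfsg.Agent.Lib.Helper6.JSplit

open Module

variable {F : Type*} [Field F] {V : Type*} [AddCommGroup V] [Module F V]

/-- complements of `U` correspond to linear maps from a fixed complement to `U` -/
noncomputable def complEquivHom (U W0 : Submodule F V) (hc : IsCompl U W0) :
    {W : Submodule F V // IsCompl U W} ≃ (W0 →ₗ[F] U) :=
  (Submodule.isComplEquivProj U).trans
    { toFun := fun f => f.1 ∘ₗ W0.subtype
      invFun := fun ψ => ⟨LinearMap.ofIsCompl hc LinearMap.id ψ, fun x => by
        rw [LinearMap.ofIsCompl_apply_left]; rfl⟩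
      left_inv := by
        rintro ⟨f, hf⟩
        apply Subtype.ext
        apply LinearMap.ofIsCompl_eq
        · intro u
          rw [hf u]; rfl
        · intro u
          rfl
      right_inv := by
        intro ψ
        ext w
        simp }

theorem card_compl [Fintype F] [FiniteDimensional F V] (U : Submodule F V) :
    Nat.card {W : Submodule F V // IsCompl U W} =
      Fintype.card F ^ ((finrank F V - finrank F U) * finrank F U) := by
  obtain ⟨W0, hc⟩ := Submodule.exists_isCompl U
  rw [Nat.card_congr (complEquivHom U W0 hc), Module.natCard_eq_pow_finrank (K := F),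
    Module.finrank_linearMap, Nat.card_eq_fintype_card]
  have := Submodule.finrank_add_eq_of_isCompl hc
  congr 2
  omega

theorem card_pairs [Fintype F] [FiniteDimensional F V] (m : ℕ) :
    Nat.card {P : Submodule F V × Submodule F V // IsCompl P.1 P.2 ∧ finrank F P.1 = m} =
      Nat.card {W : Submodule F V // finrank F W = m} *
        Fintype.card F ^ ((finrank F V - m) * m) := by
  classical
  have : Finite V := Module.finite_of_finite F
  let e : {P : Submodule F V × Submodule F V // IsCompl P.1 P.2 ∧ finrank F P.1 = m} ≃
      Σ U : {W : Submodule F V // finrank F W = m}, {W : Submodule F V // IsCompl U.1 W} :=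
    { toFun := fun P => ⟨⟨P.1.1, P.2.2⟩, ⟨P.1.2, P.2.1⟩⟩
      invFun := fun Q => ⟨(Q.1.1, Q.2.1), Q.2.2, Q.1.2⟩
      left_inv := fun P => rfl
      right_inv := fun Q => rfl }
  rw [Nat.card_congr e]
  haveI : Fintype {W : Submodule F V // finrank F W = m} := Fintype.ofFinite _
  rw [Nat.card_sigma]
  have : ∀ U : {W : Submodule F V // finrank F W = m},
      Nat.card {W : Submodule F V // IsCompl U.1 W} = Fintype.card F ^ ((finrank F V - m) * m) := by
    intro U
    rw [card_compl U.1, U.2]
  simp only [this, Finset.sum_const, Finset.card_univ, smul_eq_mul, Nat.card_eq_fintype_card]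

end Cfsg.Agent.Lib.Helper6.JSplit
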