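import Mathlib
import Cfsg.Agent.Lib.Helper2.BGMain
import Cfsg.Agent.Lib.Helper99.JordanDecomp
import Cfsg.Agent.Lib.Helper6.JSplitB
import Cfsg.Agent.Lib.Helper6.JSplitC

set_option autoImplicit false
open scoped MatrixGroups

namespace Cfsg.Agent.Lib.Helper6.JSplit

open Module

section
variable {F : Type*} [Field F] [Fintype F] {p : ℕ} [Fact p.Prime] [CharP F p]

/-- (⇒), `r = p`: if every element of order `p` fixes a complementary pair of type `m`,
every Jordan type contains a sub-partition of `m`. -/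
theorem submultiset_of_all (n m : ℕ) (hmn : m ≤ n)
    (hall : ∀ x : Matrix.SpecialLinearGroup (Fin n) F,
      (∃ c : F, ((x ^ p : Matrix.SpecialLinearGroup (Fin n) F) : Matrix (Fin n) (Fin n) F) = c • (1 : Matrix (Fin n) (Fin n) F)) →
      (∀ c : F, (x : Matrix (Fin n) (Fin n) F) ≠ c • (1 : Matrix (Fin n) (Fin n) F)) →
      ∃ U W : Submodule F (Fin n → F), IsCompl U W ∧ Module.finrank F ↥U = m ∧
        U.map (Matrix.toLin' (x : Matrix (Fin n) (Fin n) F)) ≤ U ∧ W.map (Matrix.toLin' (x : Matrix (Fin n) (Fin n) F)) ≤ W)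
    (μ : Multiset ℕ) (hμ : ∀ a ∈ μ, 0 < a ∧ a ≤ p) (hsum : μ.sum = n) :
    ∃ ν : Multiset ℕ, ν ≤ μ ∧ ν.sum = m := by
  classical
  have hp' : p.Prime := Fact.out
  by_cases hall1 : ∀ b ∈ μ, b = 1
  · have hμ' : μ = Multiset.replicate (Multiset.card μ) 1 := Multiset.eq_replicate_card.mpr hall1
    have hcard : Multiset.card μ = n := by
      rw [hμ'] at hsum
      simpa using hsum
    refine ⟨Multiset.replicate m 1, ?_, by simp⟩
    rw [hμ', hcard, Multiset.replicate_le_replicate]
    exact hmn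
  · push Not at hall1
    obtain ⟨b₀, hb₀, hb₀1⟩ := hall1
    have hn0 : n ≠ 0 := by
      rintro rfl
      have := Multiset.sum_eq_zero_iff.mp hsum b₀ hb₀
      have := (hμ b₀ hb₀).1
      omega
    haveI : NeZero n := ⟨hn0⟩
    obtain ⟨T, hT⟩ := Cfsg.Agent.Lib.Helper99.exists_end_of_multiset F μ n hsum
    have hTp : T ^ p = 0 := by
      have h1 : Cfsg.Agent.Lib.Helper99.dker T p = n := by
        rw [hT, ← hsum]
        congr 1
        conv_rhs => rw [← Multiset.map_id μ]
        apply Multiset.map_congr rfl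
        intro b hb
        exact min_eq_left (hμ b hb).2
      have h2 : LinearMap.ker (T ^ p) = ⊤ := by
        apply Submodule.eq_top_of_finrank_eq
        rw [Module.finrank_fintype_fun_eq_card, Fintype.card_fin]
        exact h1
      exact LinearMap.ker_eq_top.mp h2
    set N : Matrix (Fin n) (Fin n) F := LinearMap.toMatrix' T with hNdef
    have hN : Matrix.toLin' N = T := Matrix.toLin'_toMatrix' T
    have hNp : N ^ p = 0 := by
      apply Matrix.toLin'.injective
      rw [Matrix.toLin'_pow, hN, hTp, map_zero]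
    set X : Matrix (Fin n) (Fin n) F := 1 + N with hXdef
    have hXp : X ^ p = 1 := by
      have hcomm : Commute (1 : Matrix (Fin n) (Fin n) F) N := Commute.one_left N
      rw [hXdef, add_pow_char_of_commute _ hcomm, one_pow, hNp, add_zero]
    have hdet : X.det = 1 := by
      have h1 : X.det ^ p = 1 := by rw [← Matrix.det_pow, hXp, Matrix.det_one]
      have h2 : (X.det - 1) ^ p = 0 := by rw [sub_pow_char, h1, one_pow, sub_self]
      exact sub_eq_zero.mp ((pow_eq_zero_iff hp'.ne_zero).mp h2)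
    let x : Matrix.SpecialLinearGroup (Fin n) F := ⟨X, hdet⟩
    have hx1 : ∃ z : F, ((x ^ p : Matrix.SpecialLinearGroup (Fin n) F) :
        Matrix (Fin n) (Fin n) F) = z • (1 : Matrix (Fin n) (Fin n) F) := by
      refine ⟨1, ?_⟩
      rw [Matrix.SpecialLinearGroup.coe_pow, one_smul]
      exact hXp
    have hx2 : ∀ z : F, (x : Matrix (Fin n) (Fin n) F) ≠ z • (1 : Matrix (Fin n) (Fin n) F) := by
      intro z hz
      have hz' : X = z • (1 : Matrix (Fin n) (Fin n) F) := hz
      have hN' : N = (z - 1) • (1 : Matrix (Fin n) (Fin n) F) := by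
        rw [sub_smul, one_smul, ← hz', hXdef]
        abel
      have hz1 : z = 1 := by
        have h3 := hNp
        rw [hN', smul_pow, one_pow] at h3
        have h4 := congrFun (congrFun h3 0) 0
        simp only [Matrix.smul_apply, Matrix.one_apply_eq, smul_eq_mul, mul_one,
          Matrix.zero_apply] at h4
        exact sub_eq_zero.mp ((pow_eq_zero_iff hp'.ne_zero).mp h4)
      have hN0 : N = 0 := by rw [hN', hz1, sub_self, zero_smul]
      have hT0 : T = 0 := by rw [← hN, hN0, map_zero]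
      have h4 : Cfsg.Agent.Lib.Helper99.dker T 1 = n := by
        rw [Cfsg.Agent.Lib.Helper99.dker_eq_of_pow_eq_zero T (K := 1) (by rw [hT0, pow_one]) 1 le_rfl,
          Module.finrank_fintype_fun_eq_card, Fintype.card_fin]
      have h5 : Cfsg.Agent.Lib.Helper99.dker T 1 < n := by
        rw [hT, ← hsum]
        have := Multiset.sum_lt_sum (s := μ) (f := fun b => min b 1) (g := id)
          (fun b _ => min_le_left b 1)
          ⟨b₀, hb₀, by
            have := (hμ b₀ hb₀).1
            simp only [id]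
            omega⟩
        simpa using this
      omega
    obtain ⟨U, W, hc, hUm, hU, hW⟩ := hall x hx1 hx2
    have hL : ∀ v, Matrix.toLin' X v = v + T v := by
      intro v
      rw [hXdef, map_add, Matrix.toLin'_one, hN]
      rfl
    have hinv : ∀ Y : Submodule F (Fin n → F), Y.map (Matrix.toLin' X) ≤ Y → ∀ v ∈ Y, T v ∈ Y := by
      intro Y hY v hv
      have h1 : Matrix.toLin' X v ∈ Y := hY (Submodule.mem_map_of_mem hv)
      rw [hL] at h1
      have : T v = (v + T v) - v := by abel
      rw [this]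
      exact Submodule.sub_mem _ h1 hv
    exact Cfsg.Agent.Lib.Helper99.exists_submultiset_of_invariant T p hTp U W hc (hinv U hU)
      (hinv W hW) μ hT m hUm

/-- (⇐), `r = p`. -/
theorem exists_pair_of_submultiset (n m : ℕ)
    (hcl : ∀ μ : Multiset ℕ, (∀ a ∈ μ, 0 < a ∧ a ≤ p) → μ.sum = n → ∃ ν : Multiset ℕ, ν ≤ μ ∧ ν.sum = m)
    (x : Matrix.SpecialLinearGroup (Fin n) F) (c : F)
    (hx : ((x ^ p : Matrix.SpecialLinearGroup (Fin n) F) : Matrix (Fin n) (Fin n) F) = c • (1 : Matrix (Fin n) (Fin n) F)) :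
    ∃ U W : Submodule F (Fin n → F), IsCompl U W ∧ Module.finrank F ↥U = m ∧
      U.map (Matrix.toLin' (x : Matrix (Fin n) (Fin n) F)) ≤ U ∧ W.map (Matrix.toLin' (x : Matrix (Fin n) (Fin n) F)) ≤ W := by
  classical
  have hp' : p.Prime := Fact.out
  rcases Nat.eq_zero_or_pos n with hn0 | hn0
  · subst hn0
    obtain ⟨ν, hν, hνs⟩ := hcl 0 (by simp) (by simp)
    have : ν = 0 := Multiset.le_zero.mp hν
    subst this
    refine ⟨⊥, ⊤, isCompl_bot_top, ?_, ?_, le_top⟩
    · rw [finrank_bot]; simpa using hνs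
    · rw [Submodule.map_bot]
  haveI : NeZero n := ⟨by omega⟩
  obtain ⟨d, hd⟩ : ∃ d : F, d ^ p = c := by
    obtain ⟨d, hd⟩ := surjective_frobenius F p c
    exact ⟨d, hd⟩
  set X : Matrix (Fin n) (Fin n) F := (x : Matrix (Fin n) (Fin n) F) with hXdef
  have hXp : X ^ p = c • (1 : Matrix (Fin n) (Fin n) F) := by
    rw [← hx, Matrix.SpecialLinearGroup.coe_pow]
  set N : Matrix (Fin n) (Fin n) F := X - d • (1 : Matrix (Fin n) (Fin n) F) with hNdef
  have hNp : N ^ p = 0 := by
    have hcomm : Commute X (d • (1 : Matrix (Fin n) (Fin n) F)) :=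
      (Commute.one_right X).smul_right d
    rw [hNdef, sub_pow_char_of_commute _ hcomm, hXp, smul_pow, one_pow, hd, sub_self]
  set T : Module.End F (Fin n → F) := Matrix.toLin' N with hTdef
  have hTp : T ^ p = 0 := by
    rw [hTdef, ← Matrix.toLin'_pow, hNp, map_zero]
  obtain ⟨μ, hμ, hμs, hdata⟩ := exists_jordan_data (F := F) p n (Fin n → F) T
    (Module.finrank_fin_fun F) hTp
  obtain ⟨ν, hν, hνs⟩ := hcl μ hμ hμs
  obtain ⟨U, W, hc, hU, hW, hfr⟩ := hdata ν hν
  have hL : ∀ v, Matrix.toLin' X v = T v + d • v := by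
    intro v
    have : X = N + d • (1 : Matrix (Fin n) (Fin n) F) := by rw [hNdef]; abel
    rw [this, map_add, map_smul, Matrix.toLin'_one]
    rfl
  have hinv : ∀ Y : Submodule F (Fin n → F), (∀ v ∈ Y, T v ∈ Y) → Y.map (Matrix.toLin' X) ≤ Y := by
    rintro Y hY _ ⟨v, hv, rfl⟩
    rw [hL]
    exact Y.add_mem (hY v hv) (Y.smul_mem d hv)
  exact ⟨U, W, hc, by rw [hfr, hνs], hinv U hU, hinv W hW⟩

/-- (⇐), `r ≠ p`: Maschke. -/
theorem exists_pair_semisimple {r : ℕ} [hr : Fact r.Prime] (hrp : r ≠ p) (n : ℕ) (hn : 0 < n)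
    (x : Matrix.SpecialLinearGroup (Fin n) F) (c : F)
    (hx : ((x ^ r : Matrix.SpecialLinearGroup (Fin n) F) : Matrix (Fin n) (Fin n) F) = c • (1 : Matrix (Fin n) (Fin n) F))
    (U : Submodule F (Fin n → F)) (hU : U.map (Matrix.toLin' (x : Matrix (Fin n) (Fin n) F)) ≤ U) :
    ∃ W : Submodule F (Fin n → F), IsCompl U W ∧
      W.map (Matrix.toLin' (x : Matrix (Fin n) (Fin n) F)) ≤ W := by
  have hc0 := Cfsg.Agent.Lib.Helper2.BG.scalar_ne_zero hn x c hx
  have hf := Cfsg.Agent.Lib.Helper2.BG.toLin'_pow_eq x c hx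
  set f : Module.End F (Fin n → F) := Matrix.toLin' (x : Matrix (Fin n) (Fin n) F) with hfdef
  have hpoly : Polynomial.aeval f (Polynomial.X ^ r - Polynomial.C c : Polynomial F) = 0 := by
    rw [map_sub, map_pow, Polynomial.aeval_X, Polynomial.aeval_C, hf, sub_self]
  have hss : f.IsSemisimple :=
    Module.End.isSemisimple_of_squarefree_aeval_eq_zero
      (Cfsg.Agent.Lib.Helper2.BG.squarefree_X_pow_sub_C
        (Cfsg.Agent.Lib.Helper2.BG.natCast_ne_zero_of_ne (p := p) hrp) hc0) hpoly
  have hU' : U ∈ Module.End.invtSubmodule f := by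
    rw [Module.End.mem_invtSubmodule]
    exact Submodule.map_le_iff_le_comap.mp hU
  obtain ⟨W, hW, hc⟩ := (Module.End.isSemisimple_iff.mp hss) U hU'
  refine ⟨W, hc, ?_⟩
  rw [Module.End.mem_invtSubmodule] at hW
  exact Submodule.map_le_iff_le_comap.mpr hW

/-- the prime `r ≠ p` divides the number of `m`-spaces if it divides the number of pairs -/
theorem dvd_card_subspaces_of_dvd_card_pairs {r : ℕ} [hr : Fact r.Prime] (hrp : r ≠ p) (n m : ℕ)
    (h : r ∣ Nat.card {P : Submodule F (Fin n → F) × Submodule F (Fin n → F) //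
      IsCompl P.1 P.2 ∧ Module.finrank F ↥P.1 = m}) :
    r ∣ Nat.card {W : Submodule F (Fin n → F) // Module.finrank F ↥W = m} := by
  rw [card_pairs] at h
  rcases (Nat.Prime.dvd_mul hr.out).mp h with h1 | h1
  · exact h1
  · exfalso
    have h2 := hr.out.dvd_of_dvd_pow h1
    obtain ⟨k, hpk, hk⟩ := FiniteField.card F p
    rw [hk] at h2
    have h3 := hr.out.dvd_of_dvd_pow h2
    exact hrp ((Nat.prime_dvd_prime_iff_eq hr.out hpk).mp h3)

end

/-- partitions into parts `1, 2` -/
theorem sum_eq_of_parts_le_two (μ : Multiset ℕ) (hμ : ∀ a ∈ μ, 0 < a ∧ a ≤ 2) :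
    μ.sum = 2 * μ.count 2 + μ.count 1 := by
  induction μ using Multiset.induction_on with
  | empty => simp
  | cons a μ ih =>
    have ha := hμ a (Multiset.mem_cons_self a μ)
    have := ih (fun b hb => hμ b (Multiset.mem_cons_of_mem hb))
    rw [Multiset.sum_cons, Multiset.count_cons, Multiset.count_cons, this]
    have h12 : a = 1 ∨ a = 2 := by omega
    rcases h12 with rfl | rfl <;> simp <;> omega

theorem two_claim_iff (n m : ℕ) (hmn : m ≤ n) :
    (∀ μ : Multiset ℕ, (∀ a ∈ μ, 0 < a ∧ a ≤ 2) → μ.sum = n → ∃ ν : Multiset ℕ, ν ≤ μ ∧ ν.sum = m) ↔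
      (Odd n ∨ Even m) := by
  constructor
  · intro h
    by_contra hcon
    push Not at hcon
    obtain ⟨hn, hm⟩ := hcon
    rw [Nat.not_odd_iff_even] at hn
    obtain ⟨k, hk⟩ := hn
    obtain ⟨ν, hν, hνs⟩ := h (Multiset.replicate k 2) (by
      intro a ha
      rw [Multiset.eq_of_mem_replicate ha]
      omega) (by simp; omega)
    apply hm
    have hall : ∀ b ∈ ν, b = 2 := fun b hb => Multiset.eq_of_mem_replicate (Multiset.mem_of_le hν hb)
    have : ν = Multiset.replicate (Multiset.card ν) 2 := Multiset.eq_replicate_card.mpr hall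
    rw [this] at hνs
    simp at hνs
    exact ⟨Multiset.card ν, by omega⟩
  · intro h μ hμ hsum
    have hs := sum_eq_of_parts_le_two μ hμ
    set a := μ.count 2 with ha
    set b := μ.count 1 with hb
    have hpar : n % 2 = 1 ∨ m % 2 = 0 := by
      rcases h with h | h
      · exact Or.inl (Nat.odd_iff.mp h)
      · exact Or.inr (Nat.even_iff.mp h)
    obtain ⟨a', b', ha', hb', hab⟩ : ∃ a' b' : ℕ, a' ≤ a ∧ b' ≤ b ∧ 2 * a' + b' = m := by
      rcases Nat.le_total a (m / 2) with hle | hle
      · exact ⟨a, m - 2 * a, le_rfl, by omega, by omega⟩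
      · exact ⟨m / 2, m % 2, hle, by omega, by omega⟩
    refine ⟨Multiset.replicate a' 2 + Multiset.replicate b' 1, ?_, ?_⟩
    · rw [Multiset.le_iff_count]
      intro c
      rw [Multiset.count_add, Multiset.count_replicate, Multiset.count_replicate]
      split_ifs with h1 h2 h2
      · omega
      · subst h1; omega
      · subst h2; omega
      · omega
    · simp; omega

end Cfsg.Agent.Lib.Helper6.JSplit
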