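import Mathlib

set_option autoImplicit false

/-! # Elements of prime order acting irreducibly on a vector space over a finite field

If `u` is a linear endomorphism of a finite vector space `V` over a finite field `F` with `u ^ p = 1`,
`u ≠ 1`, and `|F|` has multiplicative order `dim V` modulo the prime `p`, then `u` has no fixed
vector, acts irreducibly, and its centralizer in `End V` is commutative (a finite field). -/

namespace Cfsg.Agent.Lib.Helper6.Singer

open Module

lemma pow_sub_eq_one_of_pow_eq {K : Type*} [Field K] {x : K} (hx : x ≠ 0) {a b : ℕ} (hab : a ≤ b)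
    (h : x ^ b = x ^ a) : x ^ (b - a) = 1 := by
  have : x ^ a * x ^ (b - a) = x ^ a * 1 := by
    rw [← pow_add, Nat.add_sub_cancel' hab, h, mul_one]
  exact mul_left_cancel₀ (pow_ne_zero _ hx) this

section
variable {F : Type*} [Field F] [Finite F] {V : Type*} [AddCommGroup V] [Module F V]
  [Module.Finite F V]

lemma card_modEq_card_ker (p : ℕ) [hp : Fact p.Prime] (u : Module.End F V) (hu : u ^ p = 1) :
    Nat.card V ≡ Nat.card (LinearMap.ker (u - 1)) [MOD p] := by
  have : Finite V := Module.finite_of_finite F
  let U : (Module.End F V)ˣ := Units.ofPowEqOne u p hu hp.out.ne_zero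
  have hUp : U ^ p = 1 := Units.pow_ofPowEqOne hu hp.out.ne_zero
  have hZ : IsPGroup p (Subgroup.zpowers U) := by
    rintro ⟨c, hc⟩
    obtain ⟨j, rfl⟩ := Subgroup.mem_zpowers_iff.1 hc
    refine ⟨1, Subtype.ext ?_⟩
    simp only [pow_one, Subgroup.coe_pow, Subgroup.coe_one]
    rw [← zpow_natCast, ← zpow_mul, mul_comm, zpow_mul, zpow_natCast, hUp, one_zpow]
  have key := hZ.card_modEq_card_fixedPoints V
  have e : (MulAction.fixedPoints (Subgroup.zpowers U) V) = (LinearMap.ker (u - 1) : Set V) := by
    ext v
    simp only [MulAction.mem_fixedPoints, SetLike.mem_coe, LinearMap.mem_ker, LinearMap.sub_apply,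
      sub_eq_zero]
    constructor
    · intro h
      exact h ⟨U, Subgroup.mem_zpowers U⟩
    · rintro h ⟨c, hc⟩
      have hU : U ∈ MulAction.stabilizer (Module.End F V)ˣ v := MulAction.mem_stabilizer_iff.2 h
      exact MulAction.mem_stabilizer_iff.1 ((Subgroup.zpowers_le.2 hU) hc)
  rw [Nat.card_congr (Equiv.setCongr e)] at key
  exact key

variable (p : ℕ) [hp : Fact p.Prime] (u : Module.End F V) (hu : u ^ p = 1)
  (hq : (Nat.card F : ZMod p) ≠ 0)
  (hord : ∀ d, 0 < d → d < finrank F V → (Nat.card F : ZMod p) ^ d ≠ 1)

include hu hq hord in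
lemma ker_sub_one_eq_bot (hu1 : u ≠ 1) : LinearMap.ker (u - 1) = ⊥ := by
  have key := (ZMod.natCast_eq_natCast_iff _ _ _).2 (card_modEq_card_ker p u hu)
  rw [Module.natCard_eq_pow_finrank (K := F) (V := V),
    Module.natCard_eq_pow_finrank (K := F) (V := LinearMap.ker (u - 1)), Nat.cast_pow,
    Nat.cast_pow] at key
  have hle : finrank F (LinearMap.ker (u - 1)) ≤ finrank F V := Submodule.finrank_le _
  have h1 := pow_sub_eq_one_of_pow_eq hq hle key
  by_cases h0 : finrank F (LinearMap.ker (u - 1)) = 0
  · exact Submodule.finrank_eq_zero.1 h0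
  · exfalso
    by_cases h2 : finrank F V - finrank F (LinearMap.ker (u - 1)) = 0
    · have h3 : finrank F (LinearMap.ker (u - 1)) = finrank F V := by omega
      have h4 := Submodule.eq_top_of_finrank_eq h3
      apply hu1
      have : u - 1 = 0 := LinearMap.ker_eq_top.1 h4
      exact sub_eq_zero.1 this
    · exact hord _ (by omega) (by omega) h1

include hu hq hord in
lemma invariant_eq_bot_or_top (hu1 : u ≠ 1) (W : Submodule F V) (hW : ∀ w ∈ W, u w ∈ W) :
    W = ⊥ ∨ W = ⊤ := by
  have hker := ker_sub_one_eq_bot p u hu hq hord hu1
  have hu' : (u.restrict hW) ^ p = 1 := by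
    rw [Module.End.pow_restrict p hW]
    ext w
    simp [hu]
  have hker' : LinearMap.ker (u.restrict hW - 1) = ⊥ := by
    rw [Submodule.eq_bot_iff]
    intro w hw
    rw [LinearMap.mem_ker, LinearMap.sub_apply, sub_eq_zero] at hw
    have h1 : u (w : V) = w := by
      have := congrArg Subtype.val hw
      simpa using this
    have h2 : (w : V) ∈ LinearMap.ker (u - 1) := by
      rw [LinearMap.mem_ker, LinearMap.sub_apply, sub_eq_zero]; exact h1
    rw [hker, Submodule.mem_bot] at h2
    exact Subtype.ext h2
  have key := (ZMod.natCast_eq_natCast_iff _ _ _).2 (card_modEq_card_ker p (u.restrict hW) hu')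
  rw [hker', Module.natCard_eq_pow_finrank (K := F) (V := W), Nat.cast_pow] at key
  have hc1 : Nat.card (⊥ : Submodule F W) = 1 := by
    rw [Nat.card_eq_one_iff_unique]
    exact ⟨inferInstance, inferInstance⟩
  rw [hc1, Nat.cast_one] at key
  have hle : finrank F W ≤ finrank F V := Submodule.finrank_le _
  by_cases h0 : finrank F W = 0
  · exact Or.inl (Submodule.finrank_eq_zero.1 h0)
  · right
    by_cases h2 : finrank F W < finrank F V
    · exact absurd key (hord _ (by omega) h2)
    · exact Submodule.eq_top_of_finrank_eq (by omega)

include hu hq hord in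
lemma injective_of_commute (hu1 : u ≠ 1) (A : Module.End F V) (hA : A * u = u * A)
    (hA0 : A ≠ 0) : Function.Injective A := by
  have hinv : ∀ w ∈ LinearMap.ker A, u w ∈ LinearMap.ker A := by
    intro w hw
    rw [LinearMap.mem_ker] at hw ⊢
    have : A (u w) = u (A w) := by
      have := congrArg (fun f : Module.End F V => f w) hA
      simpa using this
    rw [this, hw, map_zero]
  rcases invariant_eq_bot_or_top p u hu hq hord hu1 _ hinv with h | h
  · exact LinearMap.ker_eq_bot.1 h
  · exact absurd (LinearMap.ker_eq_top.1 h) hA0

include hu hq hord in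
/-- the centralizer of `u` is a finite field. -/
theorem centralizer_isField (hu1 : u ≠ 1) :
    IsField (Subring.centralizer ({u} : Set (Module.End F V))) := by
  have : Finite V := Module.finite_of_finite F
  have : Finite (Module.End F V) := Finite.of_injective (fun f : Module.End F V => (f : V → V))
    DFunLike.coe_injective
  have hmem : ∀ A : Subring.centralizer ({u} : Set (Module.End F V)),
      (A : Module.End F V) * u = u * A := by
    intro A
    exact ((Subring.mem_centralizer_iff.1 A.2) u rfl).symm
  have : NoZeroDivisors (Subring.centralizer ({u} : Set (Module.End F V))) := by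
    refine ⟨fun {a b} hab => ?_⟩
    by_cases ha : a = 0
    · exact Or.inl ha
    · right
      have ha' : (a : Module.End F V) ≠ 0 := fun h => ha (Subtype.ext h)
      have hinj := injective_of_commute p u hu hq hord hu1 _ (hmem a) ha'
      apply Subtype.ext
      ext v
      apply hinj
      have := congrArg (fun f : Subring.centralizer ({u} : Set (Module.End F V)) =>
        (f : Module.End F V) v) hab
      simpa using this
  have hV : Nontrivial V := by
    by_contra h
    rw [not_nontrivial_iff_subsingleton] at h
    apply hu1
    ext v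
    exact Subsingleton.elim _ _
  have : Nontrivial (Module.End F V) := ⟨⟨0, 1, fun h => by
    obtain ⟨v, hv⟩ := exists_ne (0 : V)
    have := congrArg (fun f : Module.End F V => f v) h
    simp at this
    exact hv this.symm⟩⟩
  have : IsDomain (Subring.centralizer ({u} : Set (Module.End F V))) := NoZeroDivisors.to_isDomain _
  exact Finite.isDomain_to_isField _

include hu hq hord in
theorem commute_of_commute (hu1 : u ≠ 1) (A B : Module.End F V) (hA : A * u = u * A)
    (hB : B * u = u * B) : A * B = B * A := by
  have hf := centralizer_isField p u hu hq hord hu1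
  have hA' : A ∈ Subring.centralizer ({u} : Set (Module.End F V)) := by
    rw [Subring.mem_centralizer_iff]; rintro _ rfl; exact hA.symm
  have hB' : B ∈ Subring.centralizer ({u} : Set (Module.End F V)) := by
    rw [Subring.mem_centralizer_iff]; rintro _ rfl; exact hB.symm
  have := hf.mul_comm ⟨A, hA'⟩ ⟨B, hB'⟩
  exact congrArg Subtype.val this

include hu hq hord in
/-- a finite group embedded in the centralizer of `u` is cyclic. -/
theorem isCyclic_of_commute (hu1 : u ≠ 1) {P : Type*} [Group P] [Finite P]
    (f : P →* Module.End F V) (hf : Function.Injective f) (hc : ∀ g, f g * u = u * f g) :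
    IsCyclic P := by
  have hfield := centralizer_isField p u hu hq hord hu1
  letI : Field (Subring.centralizer ({u} : Set (Module.End F V))) := hfield.toField
  let f' : P →* Subring.centralizer ({u} : Set (Module.End F V)) :=
    { toFun := fun g => ⟨f g, by
        rw [Subring.mem_centralizer_iff]; rintro _ rfl; exact (hc g).symm⟩
      map_one' := Subtype.ext (map_one f)
      map_mul' := fun a b => Subtype.ext (map_mul f a b) }
  have hf' : Function.Injective f' := fun a b h => hf (congrArg Subtype.val h)
  exact isCyclic_of_injective_ringHom f' hf'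

end

end Cfsg.Agent.Lib.Helper6.Singer
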