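import Cfsg.Agent.Lib.Helper6.Singer

set_option autoImplicit false

/-! # The normalizer of a Singer-type torus: index at most `dim V` -/

namespace Cfsg.Agent.Lib.Helper6.Singer

open Module

section
variable {F : Type*} [Field F] [Finite F] {V : Type*} [AddCommGroup V] [Module F V]
  [Module.Finite F V]
variable (p : ℕ) [hp : Fact p.Prime] (u : Module.End F V) (hu : u ^ p = 1)
  (hq : (Nat.card F : ZMod p) ≠ 0)
  (hord : ∀ d, 0 < d → d < finrank F V → (Nat.card F : ZMod p) ^ d ≠ 1)

include hu hq hord in
/-- the centralizer of `u`, as a subalgebra, is a finite field. -/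
theorem centralizer_isField' (hu1 : u ≠ 1) :
    IsField (Subalgebra.centralizer F ({u} : Set (Module.End F V))) := by
  have : Finite V := Module.finite_of_finite F
  have : Finite (Module.End F V) := Finite.of_injective (fun f : Module.End F V => (f : V → V))
    DFunLike.coe_injective
  have hmem : ∀ A : Subalgebra.centralizer F ({u} : Set (Module.End F V)),
      (A : Module.End F V) * u = u * A := by
    intro A
    exact (((Subalgebra.mem_centralizer_iff F).1 A.2) u rfl).symm
  have : NoZeroDivisors (Subalgebra.centralizer F ({u} : Set (Module.End F V))) := by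
    refine ⟨fun {a b} hab => ?_⟩
    by_cases ha : a = 0
    · exact Or.inl ha
    · right
      have ha' : (a : Module.End F V) ≠ 0 := fun h => ha (Subtype.ext h)
      have hinj := injective_of_commute p u hu hq hord hu1 _ (hmem a) ha'
      apply Subtype.ext
      ext v
      apply hinj
      have := congrArg (fun f : Subalgebra.centralizer F ({u} : Set (Module.End F V)) =>
        (f : Module.End F V) v) hab
      simpa using this
  have hV : Nontrivial V := by
    by_contra h
    rw [not_nontrivial_iff_subsingleton] at h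
    apply hu1
    ext v
    exact Subsingleton.elim _ _
  have : Nontrivial (Module.End F V) := ⟨⟨0, 1, fun h => by
    obtain ⟨v, hv⟩ := exists_ne (0 : V)
    have := congrArg (fun f : Module.End F V => f v) h
    simp at this
    exact hv this.symm⟩⟩
  have : IsDomain (Subalgebra.centralizer F ({u} : Set (Module.End F V))) :=
    NoZeroDivisors.to_isDomain _
  exact Finite.isDomain_to_isField _

include hu hq hord in
/-- the normalizer of the centralizer of an element acting as `u` has index at most `dim V`. -/
theorem card_normalizer_le (hu1 : u ≠ 1) {Γ : Type*} [Group Γ] [Finite Γ]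
    (L : Γ →* Module.End F V) (hL : Function.Injective L) (x : Γ) (hx : L x = u) :
    Nat.card (Subgroup.normalizer ((Subgroup.centralizer ({x} : Set Γ) : Subgroup Γ) : Set Γ)) ≤
      finrank F V * Nat.card (Subgroup.centralizer ({x} : Set Γ)) := by
  classical
  have hfV : Finite V := Module.finite_of_finite F
  have hfE : Finite (Module.End F V) :=
    Finite.of_injective (fun f : Module.End F V => (f : V → V)) DFunLike.coe_injective
  set T := Subgroup.centralizer ({x} : Set Γ) with hT
  set NT := Subgroup.normalizer (T : Set Γ) with hNT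
  set K := Subalgebra.centralizer F ({u} : Set (Module.End F V)) with hK
  have hfield := centralizer_isField' p u hu hq hord hu1
  have hKmem : ∀ c : Module.End F V, c ∈ K ↔ u * c = c * u := by
    intro c
    rw [hK, Subalgebra.mem_centralizer_iff]
    constructor
    · intro h; exact h u rfl
    · rintro h _ rfl; exact h
  have hKcomm : ∀ a ∈ K, ∀ b ∈ K, a * b = b * a := by
    intro a ha b hb
    have := hfield.mul_comm ⟨a, ha⟩ ⟨b, hb⟩
    exact congrArg Subtype.val this
  have hTK : ∀ t ∈ T, L t ∈ K := by
    intro t ht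
    rw [hKmem, ← hx, ← map_mul, ← map_mul]
    rw [hT, Subgroup.mem_centralizer_singleton_iff] at ht
    rw [ht]
  have hxT : x ∈ T := by
    rw [hT, Subgroup.mem_centralizer_singleton_iff]
  have hinvmul : ∀ n : Γ, L n⁻¹ * L n = 1 := fun n => by rw [← map_mul, inv_mul_cancel, map_one]
  have hmulinv : ∀ n : Γ, L n * L n⁻¹ = 1 := fun n => by rw [← map_mul, mul_inv_cancel, map_one]
  have hconjT : ∀ n ∈ NT, n⁻¹ * x * n ∈ T := by
    intro n hn
    have hn' : n⁻¹ ∈ NT := NT.inv_mem hn
    have := (Subgroup.mem_normalizer_iff.1 hn' x).1 hxT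
    rwa [inv_inv] at this
  have conj_mem : ∀ n ∈ NT, ∀ c ∈ K, L n * c * L n⁻¹ ∈ K := by
    intro n hn c hc
    have hw : L (n⁻¹ * x * n) ∈ K := hTK _ (hconjT n hn)
    have e1 : u * L n = L n * L (n⁻¹ * x * n) := by
      rw [← hx, ← map_mul, ← map_mul]; congr 1; group
    have e2 : L n⁻¹ * u = L (n⁻¹ * x * n) * L n⁻¹ := by
      rw [← hx, ← map_mul, ← map_mul]; congr 1; group
    rw [hKmem]
    calc u * (L n * c * L n⁻¹) = (u * L n) * c * L n⁻¹ := by simp only [mul_assoc]
      _ = L n * (L (n⁻¹ * x * n) * c) * L n⁻¹ := by rw [e1]; simp only [mul_assoc]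
      _ = L n * (c * L (n⁻¹ * x * n)) * L n⁻¹ := by rw [hKcomm _ hw _ hc]
      _ = L n * c * (L (n⁻¹ * x * n) * L n⁻¹) := by simp only [mul_assoc]
      _ = L n * c * (L n⁻¹ * u) := by rw [e2]
      _ = L n * c * L n⁻¹ * u := by simp only [mul_assoc]
  -- the automorphisms
  let σ : NT → (K →ₐ[F] K) := fun n =>
    { toFun := fun c => ⟨L n * c * L (n : Γ)⁻¹, conj_mem n n.2 c c.2⟩
      map_one' := by
        apply Subtype.ext
        show L n * 1 * L (n : Γ)⁻¹ = 1
        rw [mul_one, hmulinv]
      map_mul' := by
        intro c d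
        apply Subtype.ext
        show L n * ((c : Module.End F V) * d) * L (n : Γ)⁻¹ =
          (L n * c * L (n : Γ)⁻¹) * (L n * d * L (n : Γ)⁻¹)
        calc L n * ((c : Module.End F V) * d) * L (n : Γ)⁻¹
            = L n * c * 1 * d * L (n : Γ)⁻¹ := by simp only [mul_assoc, one_mul]
          _ = L n * c * (L (n : Γ)⁻¹ * L n) * d * L (n : Γ)⁻¹ := by rw [hinvmul]
          _ = _ := by simp only [mul_assoc]
      map_zero' := by
        apply Subtype.ext
        show L n * 0 * L (n : Γ)⁻¹ = 0
        rw [mul_zero, zero_mul]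
      map_add' := by
        intro c d
        apply Subtype.ext
        show L n * ((c : Module.End F V) + d) * L (n : Γ)⁻¹ =
          (L n * c * L (n : Γ)⁻¹) + (L n * d * L (n : Γ)⁻¹)
        rw [mul_add, add_mul]
      commutes' := by
        intro r
        apply Subtype.ext
        show L n * (algebraMap F (Module.End F V) r) * L (n : Γ)⁻¹ =
          algebraMap F (Module.End F V) r
        rw [← Algebra.commutes, mul_assoc, hmulinv, mul_one] }
  have hσ : ∀ n m : NT, σ n = σ m → (m : Γ)⁻¹ * n ∈ T := by
    intro n m h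
    have huK : u ∈ K := by rw [hKmem]
    have h1 := congrArg (fun f : K →ₐ[F] K => ((f ⟨u, huK⟩ : K) : Module.End F V)) h
    have h2 : L n * u * L (n : Γ)⁻¹ = L m * u * L (m : Γ)⁻¹ := h1
    rw [← hx, ← map_mul, ← map_mul, ← map_mul, ← map_mul] at h2
    have h3 := hL h2
    rw [hT, Subgroup.mem_centralizer_singleton_iff]
    calc (m : Γ)⁻¹ * n * x = (m : Γ)⁻¹ * (n * x * (n : Γ)⁻¹) * n := by group
      _ = (m : Γ)⁻¹ * (m * x * (m : Γ)⁻¹) * n := by rw [h3]
      _ = _ := by group
  -- the injection
  let rep : (K →ₐ[F] K) → NT := fun a => if h : ∃ m, σ m = a then Classical.choose h else 1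
  have hrep : ∀ n : NT, σ (rep (σ n)) = σ n := by
    intro n
    have h : ∃ m, σ m = σ n := ⟨n, rfl⟩
    simp only [rep, dif_pos h]
    exact Classical.choose_spec h
  let Ψ : NT → T × (K →ₐ[F] K) := fun n =>
    (⟨((rep (σ n) : NT) : Γ)⁻¹ * n, hσ n (rep (σ n)) (hrep n).symm⟩, σ n)
  have hΨ : Function.Injective Ψ := by
    intro n n' h
    have h1 : σ n = σ n' := congrArg Prod.snd h
    have h2 : ((rep (σ n) : NT) : Γ)⁻¹ * n = ((rep (σ n') : NT) : Γ)⁻¹ * n' :=
      congrArg (fun z : T × (K →ₐ[F] K) => (z.1 : Γ)) h
    rw [h1] at h2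
    exact Subtype.ext (mul_left_cancel h2)
  have hfK : Finite K := Finite.of_injective (fun c : K => (c : Module.End F V))
    Subtype.val_injective
  have hfA : Finite (K →ₐ[F] K) := Finite.of_injective (fun f : K →ₐ[F] K => (f : K → K))
    DFunLike.coe_injective
  have hcard1 : Nat.card NT ≤ Nat.card (T × (K →ₐ[F] K)) := Nat.card_le_card_of_injective Ψ hΨ
  rw [Nat.card_prod] at hcard1
  -- bound on the number of automorphisms
  have hV : Nontrivial V := by
    by_contra h
    rw [not_nontrivial_iff_subsingleton] at h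
    apply hu1
    ext v
    exact Subsingleton.elim _ _
  have hrank : finrank F K ≤ finrank F V := by
    obtain ⟨v₀, hv₀⟩ := exists_ne (0 : V)
    let ev : K →ₗ[F] V :=
      { toFun := fun c => (c : Module.End F V) v₀
        map_add' := fun c d => rfl
        map_smul' := fun r c => rfl }
    apply LinearMap.finrank_le_finrank_of_injective (f := ev)
    rw [← LinearMap.ker_eq_bot, Submodule.eq_bot_iff]
    intro c hc
    by_contra hc0
    have hc0' : (c : Module.End F V) ≠ 0 := fun h => hc0 (Subtype.ext h)
    have hcu : (c : Module.End F V) * u = u * c := ((hKmem _).1 c.2).symm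
    have hinj := injective_of_commute p u hu hq hord hu1 _ hcu hc0'
    have : (c : Module.End F V) v₀ = 0 := hc
    exact hv₀ (hinj (by rw [this, map_zero]))
  have hA : Nat.card (K →ₐ[F] K) ≤ finrank F K := by
    letI : Field K := hfield.toField
    have : Module.Finite F K := Module.Finite.of_finite
    have := AlgHom.card_le (F := F) (K := K)
    rw [Nat.card_eq_fintype_card]
    convert this
  calc Nat.card NT ≤ Nat.card T * Nat.card (K →ₐ[F] K) := hcard1
    _ ≤ Nat.card T * finrank F V := Nat.mul_le_mul_left _ (hA.trans hrank)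
    _ = finrank F V * Nat.card T := mul_comm _ _

end

end Cfsg.Agent.Lib.Helper6.Singer
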