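import Mathlib
import Cfsg.Prelude.Def_Sporadic_a

set_option autoImplicit false

namespace Cfsg.Agent.Lib.Helper6.Steiner

open Cfsg Finset

variable {α : Type*} [Fintype α] [DecidableEq α] {t k : ℕ} {B : Set (Finset α)}

/-- the blocks as a finset. -/
noncomputable def blocks (B : Set (Finset α)) : Finset (Finset α) := (Set.toFinite B).toFinset

omit [DecidableEq α] in
lemma mem_blocks {b : Finset α} : b ∈ blocks B ↔ b ∈ B := by
  simp [blocks]

omit [DecidableEq α] in
lemma ncard_eq_card_blocks : B.ncard = (blocks B).card :=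
  Set.ncard_eq_toFinset_card B (Set.toFinite B)

lemma ncard_sep_eq (p : Finset α → Prop) [DecidablePred p] :
    {c : Finset α | c ∈ B ∧ p c}.ncard = ((blocks B).filter p).card := by
  rw [Set.ncard_eq_toFinset_card _ (Set.toFinite _)]
  congr 1
  ext c
  simp [mem_blocks]

/-- the number of blocks through a set `X` of at most `t` points. -/
theorem card_blocks_containing (hB : IsSteinerSystem t k B) (X : Finset α) (hX : X.card ≤ t) :
    ((blocks B).filter (X ⊆ ·)).card * Nat.choose (k - X.card) (t - X.card) =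
      Nat.choose (Fintype.card α - X.card) (t - X.card) := by
  classical
  obtain ⟨hcard, huniq⟩ := hB
  set T : Finset (Finset α) := (powersetCard t univ).filter (X ⊆ ·) with hT
  have hTcard : T.card = Nat.choose (Fintype.card α - X.card) (t - X.card) := by
    rw [hT, card_filter_powersetCard_subset X univ t (subset_univ _) hX, card_univ]
  rw [← hTcard]
  have hTmem : ∀ s, s ∈ T ↔ s.card = t ∧ X ⊆ s := by
    intro s
    simp [hT, mem_powersetCard]
  have hex : ∀ s : Finset α, s ∈ T → ∃ b, b ∈ B ∧ s ⊆ b := by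
    intro s hs
    exact (huniq s ((hTmem s).1 hs).1).exists
  let f : Finset α → Finset α := fun s => if h : s ∈ T then (hex s h).choose else ∅
  have hf : ∀ s ∈ T, f s ∈ B ∧ s ⊆ f s := by
    intro s hs
    simp only [f, dif_pos hs]
    exact (hex s hs).choose_spec
  have hmaps : ∀ s ∈ T, f s ∈ (blocks B).filter (X ⊆ ·) := by
    intro s hs
    rw [mem_filter, mem_blocks]
    exact ⟨(hf s hs).1, ((hTmem s).1 hs).2.trans (hf s hs).2⟩
  rw [card_eq_sum_card_fiberwise hmaps]
  have hfib : ∀ b ∈ (blocks B).filter (X ⊆ ·),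
      (T.filter (fun s => f s = b)).card = Nat.choose (k - X.card) (t - X.card) := by
    intro b hb
    rw [mem_filter, mem_blocks] at hb
    obtain ⟨hbB, hXb⟩ := hb
    have : T.filter (fun s => f s = b) = (powersetCard t b).filter (X ⊆ ·) := by
      ext s
      simp only [mem_filter, mem_powersetCard]
      constructor
      · rintro ⟨hs, rfl⟩
        exact ⟨⟨(hf s hs).2, ((hTmem s).1 hs).1⟩, ((hTmem s).1 hs).2⟩
      · rintro ⟨⟨hsb, hsc⟩, hXs⟩
        have hs : s ∈ T := (hTmem s).2 ⟨hsc, hXs⟩
        exact ⟨hs, (huniq s hsc).unique (hf s hs) ⟨hbB, hsb⟩⟩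
    rw [this, card_filter_powersetCard_subset X b t hXb hX, hcard b hbB]
  rw [sum_congr rfl hfib, sum_const, smul_eq_mul]

/-- double counting of pairs (`j`-subset of `b ∩ c`, block `c`). -/
theorem sum_choose_inter (hB : IsSteinerSystem t k B) {b : Finset α} (hb : b ∈ B) (j : ℕ)
    (hj : j ≤ t) :
    (∑ c ∈ blocks B, Nat.choose (c ∩ b).card j) * Nat.choose (k - j) (t - j) =
      Nat.choose k j * Nat.choose (Fintype.card α - j) (t - j) := by
  classical
  have h1 : ∀ c ∈ blocks B, Nat.choose (c ∩ b).card j =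
      ((powersetCard j b).filter (fun Y => Y ⊆ c)).card := by
    intro c _
    rw [← card_powersetCard]
    congr 1
    ext Y
    simp only [mem_powersetCard, mem_filter, subset_inter_iff]
    tauto
  rw [sum_congr rfl h1]
  have h2 : ∑ c ∈ blocks B, ((powersetCard j b).filter (fun Y => Y ⊆ c)).card =
      ∑ Y ∈ powersetCard j b, ((blocks B).filter (fun c => Y ⊆ c)).card :=
    sum_card_bipartiteAbove_eq_sum_card_bipartiteBelow (fun (c Y : Finset α) => Y ⊆ c)
  rw [h2, sum_mul]
  have h3 : ∀ Y ∈ powersetCard j b,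
      ((blocks B).filter (fun c => Y ⊆ c)).card * Nat.choose (k - j) (t - j) =
        Nat.choose (Fintype.card α - j) (t - j) := by
    intro Y hY
    rw [mem_powersetCard] at hY
    have hYt : Y.card ≤ t := by rw [hY.2]; exact hj
    have := card_blocks_containing hB Y hYt
    rw [hY.2] at this
    exact this
  rw [sum_congr rfl h3, sum_const, card_powersetCard, hB.1 b hb, smul_eq_mul]

/-- the number of blocks meeting `b` in exactly `i` points. -/
noncomputable def nInter (B : Set (Finset α)) (b : Finset α) (i : ℕ) : ℕ :=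
  ((blocks B).filter (fun c => (c ∩ b).card = i)).card

theorem sum_fiberwise (hB : IsSteinerSystem t k B) {b : Finset α} (hb : b ∈ B) (g : ℕ → ℕ) :
    ∑ c ∈ blocks B, g (c ∩ b).card = ∑ i ∈ range (k + 1), nInter B b i * g i := by
  classical
  have hmaps : ∀ c ∈ blocks B, (c ∩ b).card ∈ range (k + 1) := by
    intro c _
    rw [mem_range, Nat.lt_succ_iff, ← hB.1 b hb]
    exact card_le_card inter_subset_right
  rw [← sum_fiberwise_of_maps_to hmaps]
  apply sum_congr rfl
  intro i _
  have : ∀ c ∈ (blocks B).filter (fun c => (c ∩ b).card = i), g (c ∩ b).card = g i := by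
    intro c hc
    rw [(mem_filter.1 hc).2]
  rw [sum_congr rfl this, sum_const, smul_eq_mul]
  rfl

theorem sum_nInter (hB : IsSteinerSystem t k B) {b : Finset α} (hb : b ∈ B) (j : ℕ)
    (hj : j ≤ t) :
    (∑ i ∈ range (k + 1), nInter B b i * Nat.choose i j) * Nat.choose (k - j) (t - j) =
      Nat.choose k j * Nat.choose (Fintype.card α - j) (t - j) := by
  rw [← sum_fiberwise hB hb (fun i => Nat.choose i j)]
  exact sum_choose_inter hB hb j hj

omit [Fintype α] in
/-- distinct blocks share fewer than `t` points. -/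
theorem inter_card_lt (hB : IsSteinerSystem t k B) {b c : Finset α} (hb : b ∈ B) (hc : c ∈ B)
    (hne : c ≠ b) : (c ∩ b).card < t := by
  by_contra hlt
  push Not at hlt
  obtain ⟨s, hs, hst⟩ := exists_subset_card_eq hlt
  apply hne
  exact (hB.2 s hst).unique ⟨hc, hs.trans inter_subset_left⟩ ⟨hb, hs.trans inter_subset_right⟩

theorem nInter_eq_zero (hB : IsSteinerSystem t k B) {b : Finset α} (hb : b ∈ B) {i : ℕ}
    (hi : t ≤ i) (hik : i ≠ k) : nInter B b i = 0 := by
  unfold nInter
  rw [card_eq_zero, filter_eq_empty_iff]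
  intro c hc hci
  rw [mem_blocks] at hc
  by_cases hcb : c = b
  · subst hcb
    rw [inter_self, hB.1 c hc] at hci
    exact hik hci.symm
  · have := inter_card_lt hB hb hc hcb
    omega

theorem nInter_k (hB : IsSteinerSystem t k B) {b : Finset α} (hb : b ∈ B) (htk : t ≤ k) :
    nInter B b k = 1 := by
  unfold nInter
  rw [card_eq_one]
  refine ⟨b, ?_⟩
  ext c
  rw [mem_filter, mem_singleton, mem_blocks]
  constructor
  · rintro ⟨hc, hci⟩
    by_contra hcb
    have := inter_card_lt hB hb hc hcb
    omega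
  · rintro rfl
    exact ⟨hb, by rw [inter_self, hB.1 c hb]⟩

theorem nInter_pos {b c : Finset α} (hc : c ∈ B) : 0 < nInter B b (c ∩ b).card := by
  unfold nInter
  rw [card_pos]
  exact ⟨c, by rw [mem_filter, mem_blocks]; exact ⟨hc, rfl⟩⟩

end Cfsg.Agent.Lib.Helper6.Steiner
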