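import Cfsg.Agent.Lib.Helper88.CharBisetPt
import Cfsg.Agent.Lib.Helper88.BisetTransfer
import Cfsg.Agent.Lib.Helper87.Lemma26

set_option autoImplicit false

namespace Cfsg.Agent.Lib.Helper85.PStep

open Cfsg Cfsg.FusionSystem MulAction
open Cfsg.Agent.Lib.Helper88 Cfsg.Agent.Lib.Helper87

variable {Ω : Type*} [Group Ω] {S : Subgroup Ω}

/-- [L2] centralizers of conjugates of a fully centralized subgroup, modulo the focal subgroup -/
theorem exists_centralizer_mod_focal [Finite S] {p : ℕ} [Fact p.Prime] (hS : IsPGroup p S)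
    (F : FusionSystem S) (hF : F.IsSaturated p) {P : Subgroup Ω} (hfc : F.IsFullyCentralized P)
    {χ : P →* Ω} (hχ : χ ∈ F.Hom P) {s : Ω} (hsS : s ∈ S) (hs : ∀ x : P, s * χ x = χ x * s) :
    ∃ c : Ω, c ∈ S ∧ c ∈ Subgroup.centralizer (P : Set Ω) ∧ s⁻¹ * c ∈ F.focalSubgroup := by
  have hrec : F.IsReceptive P := receptive_of_fullyCentralized hS F hF hfc
  obtain ⟨ρ, hρ, hinv, hrange⟩ := inv_exists F hχ (rfl : χ.range = χ.range)
  obtain ⟨ψ, hψ, hψe⟩ := hrec.2 χ.range ρ hρ hrange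
  have hsC : s ∈ centralizerIn S χ.range := by
    refine ⟨hsS, ?_⟩
    show s ∈ Subgroup.centralizer (χ.range : Set Ω)
    rw [Subgroup.mem_centralizer_iff]
    rintro _ ⟨x, rfl⟩
    exact (hs x).symm
  have hsE : s ∈ extender S χ.range ρ := centralizerIn_le_extender' χ.range ρ hsC
  have hQE : χ.range ≤ extender S χ.range ρ := self_le_extender F hρ
  refine ⟨ψ ⟨s, hsE⟩, (F.le_of_mem hψ).2 _, ?_, ?_⟩
  · rw [Subgroup.mem_centralizer_iff]
    intro y hy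
    have hmem : χ ⟨y, hy⟩ ∈ χ.range := ⟨⟨y, hy⟩, rfl⟩
    have h1 : ψ ⟨χ ⟨y, hy⟩, hQE hmem⟩ = y := by
      rw [hψe _ hmem (hQE hmem), hinv ⟨y, hy⟩ hmem]
    have h2 : (⟨s, hsE⟩ : extender S χ.range ρ) * ⟨χ ⟨y, hy⟩, hQE hmem⟩ =
        ⟨χ ⟨y, hy⟩, hQE hmem⟩ * ⟨s, hsE⟩ := Subtype.ext (hs ⟨y, hy⟩)
    have h3 := congrArg ψ h2
    rw [map_mul, map_mul, h1] at h3
    exact h3.symm
  · exact Subgroup.subset_closure ⟨extender S χ.range ρ, ψ, ⟨s, hsE⟩, hψ, rfl⟩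

end Cfsg.Agent.Lib.Helper85.PStep
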