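import Cfsg.Agent.Lib.Helper88.CharBisetPt
import Cfsg.Agent.Lib.Helper88.BisetTransfer
import Cfsg.Agent.Lib.Helper87.Lemma26

set_option autoImplicit false

namespace Cfsg.Agent.Lib.Helper85.PStep

open Cfsg Cfsg.FusionSystem MulAction
open Cfsg.Agent.Lib.Helper88 Cfsg.Agent.Lib.Helper87

variable {Ω : Type*} [Group Ω] {S : Subgroup Ω}

/-- [L3] Park's group realizes the system -/
theorem isRealizedBy_parkι [Finite S] (F : FusionSystem S) (m : Subgroup (S × S) → ℕ)
    (hgen : Gen F m) (hstab : StabGe F m 0) (x₀ : OrbSum m)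
    (hx₀ : stabilizer (S × S) x₀ = diagS S) : F.IsRealizedBy (parkι m) := by
  refine ⟨parkι_injective hgen x₀, fun P hP φ hφS => ⟨fun hφ => ?_, ?_⟩⟩
  · exact park_conj_of_mem F m hgen hstab hP hφ
  · rintro ⟨g, hg⟩
    exact park_mem_of_conj' F m hgen x₀ hx₀ hP hφS g hg

end Cfsg.Agent.Lib.Helper85.PStep
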