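import Mathlib
import Cfsg.Agent.S1140

set_option autoImplicit false

namespace Cfsg.Agent.Lib.Helper6.SuzA

open Cfsg.Agent.S1140

section rho
variable {F : Type*} [Field F] [Fintype F] [CharP F 2]

/-- uniqueness of double expansions -/
theorem double_unique (d : (F ≃+* F) × (F ≃+* F) → F)
    (h : ∀ x y : F, ∑ p : (F ≃+* F) × (F ≃+* F), d p * (p.1 x * p.2 y) = 0) :
    ∀ p, d p = 0 := by
  have hli := Fintype.linearIndependent_iff.mp (li (F := F))
  have h1 : ∀ (y : F) (α : F ≃+* F), ∑ β : F ≃+* F, d (α, β) * β y = 0 := by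
    intro y
    apply hli (fun α => ∑ β : F ≃+* F, d (α, β) * β y)
    funext x
    have := h x y
    rw [Fintype.sum_prod_type] at this
    simp only [Finset.sum_apply, Pi.smul_apply, smul_eq_mul, Pi.zero_apply]
    rw [← this]
    apply Finset.sum_congr rfl
    intro α _
    rw [Finset.sum_mul]
    apply Finset.sum_congr rfl
    intro β _
    simp only [RingHom.coe_coe]
    ring
  rintro ⟨α, β⟩
  apply hli (fun β => d (α, β))
  funext y
  have := h1 y α
  simp only [Finset.sum_apply, Pi.smul_apply, smul_eq_mul, Pi.zero_apply]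
  rw [← this]
  rfl

theorem rho_eq_prod (ρ : F → F) (hmul : ∀ x y, ρ (x * y) = ρ x * ρ y)
    (B : F →+ F →+ F) (hB : ∀ x y, B x y = ρ (x + y) + ρ x + ρ y)
    (hne : ∃ x y, B x y ≠ 0) :
    ∃ α β : F ≃+* F, α ≠ β ∧ ∀ t, ρ t = α t * β t := by
  obtain ⟨s, c, hc⟩ := (Cfsg.Agent.S1140.result (F := F)).2.2 B
  classical
  -- total coefficient function
  let c' : (F ≃+* F) × (F ≃+* F) → F := fun p => if p ∈ s then c p else 0
  have hc' : ∀ x y, B x y = ∑ p : (F ≃+* F) × (F ≃+* F), c' p * (p.1 x * p.2 y) := by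
    intro x y
    rw [hc x y, ← Finset.sum_subset (Finset.subset_univ s)]
    · apply Finset.sum_congr rfl
      intro p hp
      simp [c', hp]
    · intro p _ hp
      simp [c', hp]
  have hscale : ∀ t x y, B (t * x) (t * y) = ρ t * B x y := by
    intro t x y
    rw [hB, hB, ← mul_add, hmul, hmul, hmul]
    ring
  have hkey : ∀ t p, c' p * (p.1 t * p.2 t - ρ t) = 0 := by
    intro t
    apply double_unique
    intro x y
    have h1 := hscale t x y
    rw [hc', hc', Finset.mul_sum] at h1
    rw [← sub_eq_zero, ← Finset.sum_sub_distrib] at h1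
    rw [← h1]
    apply Finset.sum_congr rfl
    intro p _
    simp only [map_mul]
    ring
  have hex : ∃ p, c' p ≠ 0 := by
    by_contra hcon
    push Not at hcon
    obtain ⟨x, y, hxy⟩ := hne
    apply hxy
    rw [hc']
    apply Finset.sum_eq_zero
    intro p _
    rw [hcon p, zero_mul]
  obtain ⟨⟨α, β⟩, hp⟩ := hex
  have hρ : ∀ t, ρ t = α t * β t := by
    intro t
    have := hkey t (α, β)
    rcases mul_eq_zero.mp this with h | h
    · exact absurd h hp
    · exact (sub_eq_zero.mp h).symm
  refine ⟨α, β, ?_, hρ⟩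
  rintro rfl
  obtain ⟨x, y, hxy⟩ := hne
  apply hxy
  rw [hB, hρ, hρ, hρ, map_add]
  have h2 : (2 : F) = 0 := CharP.cast_eq_zero F 2
  linear_combination (α x * α y + α x * α x + α y * α y) * h2

end rho

end Cfsg.Agent.Lib.Helper6.SuzA
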