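import Mathlib
import Cfsg.Agent.S1140

set_option autoImplicit false

namespace Cfsg.Agent.Lib.Helper6.SuzA

open Cfsg.Agent.S1140

section odd
variable {F : Type*} [Field F] [Fintype F]

theorem exists_fixed_sq_not_fixed (θ : F ≃+* F) (heven : Even (orderOf θ)) :
    ∃ w : F, θ (θ w) = w ∧ θ w ≠ w := by
  classical
  by_contra hcon
  push Not at hcon
  haveI : Finite (RingAut F) := Finite.of_injective (fun σ : F ≃+* F => (σ : F → F)) DFunLike.coe_injective
  let G : Subgroup (RingAut F) := Subgroup.zpowers θ
  let H : Subgroup (RingAut F) := Subgroup.zpowers (θ ^ 2)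
  letI : Fintype G := Fintype.ofFinite _
  letI : Fintype H := Fintype.ofFinite _
  have hG : Module.finrank (FixedPoints.subfield G F) F = Fintype.card G :=
    FixedPoints.finrank_eq_card G F
  have hH : Module.finrank (FixedPoints.subfield H F) F = Fintype.card H :=
    FixedPoints.finrank_eq_card H F
  have hsub : FixedPoints.subfield G F = FixedPoints.subfield H F := by
    ext w
    constructor
    · intro hw
      rintro ⟨σ, hσ⟩
      obtain ⟨k, rfl⟩ := Subgroup.mem_zpowers_iff.mp hσ
      have : ((θ ^ 2) ^ k) ∈ G := by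
        rw [← zpow_natCast, ← zpow_mul]
        exact Subgroup.zpow_mem_zpowers θ _
      exact hw ⟨_, this⟩
    · intro hw
      have h2 : θ (θ w) = w := by
        have := hw ⟨θ ^ 2, Subgroup.mem_zpowers _⟩
        simpa [pow_two] using this
      have h1 : θ w = w := hcon w h2
      have hfix : θ • w = w := h1
      have hinv : θ⁻¹ • w = w := by
        conv_lhs => rw [← hfix]
        rw [inv_smul_smul]
      have hall : ∀ k : ℤ, (θ ^ k) • w = w := by
        intro k
        induction k using Int.induction_on with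
        | zero => simp
        | succ n ih => rw [zpow_add_one, mul_smul, hfix, ih]
        | pred n ih => rw [zpow_sub_one, mul_smul, hinv, ih]
      rintro ⟨σ, hσ⟩
      obtain ⟨k, rfl⟩ := Subgroup.mem_zpowers_iff.mp hσ
      exact hall k
  have hcard : Fintype.card G = Fintype.card H := by
    rw [← hG, ← hH, hsub]
  rw [← Nat.card_eq_fintype_card, ← Nat.card_eq_fintype_card, Nat.card_zpowers, Nat.card_zpowers,
    orderOf_pow] at hcard
  obtain ⟨m, hm⟩ := heven
  have hpos : 0 < orderOf θ := orderOf_pos θ
  have : Nat.gcd (orderOf θ) 2 = 2 := Nat.gcd_eq_right (by rw [hm]; exact ⟨m, by ring⟩)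
  rw [this] at hcard
  have : orderOf θ / 2 < orderOf θ := Nat.div_lt_self hpos (by norm_num)
  omega

theorem odd_order_of_inj (θ : F ≃+* F)
    (hinj : ∀ x : F, x ≠ 0 → x * θ x = 1 → x = 1) : Odd (orderOf θ) := by
  rw [← Nat.not_even_iff_odd]
  intro heven
  obtain ⟨w, hw2, hw1⟩ := exists_fixed_sq_not_fixed θ heven
  have hw0 : w ≠ 0 := by
    rintro rfl
    exact hw1 (map_zero θ)
  have hθw0 : θ w ≠ 0 := by
    intro h
    exact hw0 (θ.injective (by rw [h, map_zero]))
  have hx : w / θ w ≠ 0 := div_ne_zero hw0 hθw0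
  have := hinj (w / θ w) hx (by
    rw [map_div₀, hw2]
    field_simp)
  rw [div_eq_one_iff_eq hθw0] at this
  exact hw1 this.symm

end odd

end Cfsg.Agent.Lib.Helper6.SuzA
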