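import Mathlib

set_option autoImplicit false

namespace Cfsg.Agent.Lib.Helper6.SuzA

section cob
variable {V W : Type*} [AddCommGroup V] [AddCommGroup W]

/-- the extension type -/
def Ext (V W : Type*) := V × W

/-- the twisted group structure -/
@[reducible] def extGroup (d : V → V → W)
    (hV : ∀ x : V, x + x = 0) (hW : ∀ x : W, x + x = 0)
    (hcoc : ∀ x y w, d x y + d (x + y) w = d y w + d x (y + w))
    (hsymm : ∀ x y, d x y = d y x) (hdiag : ∀ x, d x x = 0) (h0 : ∀ y, d 0 y = 0) :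
    AddCommGroup (Ext V W) :=
  letI : Add (Ext V W) := ⟨fun p q => ((p.1 + q.1, p.2 + q.2 + d p.1 q.1) : V × W)⟩
  letI : Zero (Ext V W) := ⟨((0, 0) : V × W)⟩
  letI : Neg (Ext V W) := ⟨fun p => p⟩
  letI : AddGroup (Ext V W) := AddGroup.ofLeftAxioms
    (fun p q r => by
      show ((p.1 + q.1 + r.1, p.2 + q.2 + d p.1 q.1 + r.2 + d (p.1 + q.1) r.1) : V × W)
        = (p.1 + (q.1 + r.1), p.2 + (q.2 + r.2 + d q.1 r.1) + d p.1 (q.1 + r.1))
      refine Prod.ext (add_assoc _ _ _) ?_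
      show p.2 + q.2 + d p.1 q.1 + r.2 + d (p.1 + q.1) r.1
        = p.2 + (q.2 + r.2 + d q.1 r.1) + d p.1 (q.1 + r.1)
      have := hcoc p.1 q.1 r.1
      calc p.2 + q.2 + d p.1 q.1 + r.2 + d (p.1 + q.1) r.1
          = p.2 + q.2 + r.2 + (d p.1 q.1 + d (p.1 + q.1) r.1) := by abel
        _ = p.2 + q.2 + r.2 + (d q.1 r.1 + d p.1 (q.1 + r.1)) := by rw [this]
        _ = _ := by abel)
    (fun p => by
      show ((0 + p.1, 0 + p.2 + d 0 p.1) : V × W) = p
      rw [h0, zero_add, zero_add, add_zero]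
      rfl)
    (fun p => by
      show ((p.1 + p.1, p.2 + p.2 + d p.1 p.1) : V × W) = (0, 0)
      rw [hV, hW, hdiag, add_zero])
  { add_comm := fun p q => by
      show ((p.1 + q.1, p.2 + q.2 + d p.1 q.1) : V × W) = (q.1 + p.1, q.2 + p.2 + d q.1 p.1)
      rw [hsymm p.1 q.1, add_comm p.1, add_comm p.2] }

theorem coboundary_of_symm (d : V → V → W)
    (hV : ∀ x : V, x + x = 0) (hW : ∀ x : W, x + x = 0)
    (hcoc : ∀ x y w, d x y + d (x + y) w = d y w + d x (y + w))
    (hsymm : ∀ x y, d x y = d y x) (hdiag : ∀ x, d x x = 0) (h0 : ∀ y, d 0 y = 0) :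
    ∃ f : V → W, ∀ x y, d x y = f (x + y) + f x + f y := by
  letI : AddCommGroup (Ext V W) := extGroup d hV hW hcoc hsymm hdiag h0
  have hadd : ∀ p q : Ext V W, p + q = ((p.1 + q.1, p.2 + q.2 + d p.1 q.1) : V × W) := fun _ _ => rfl
  letI : Module (ZMod 2) V := AddCommGroup.zmodModule (fun x => by rw [two_nsmul]; exact hV x)
  letI : Module (ZMod 2) (Ext V W) := AddCommGroup.zmodModule (fun p => by
    rw [two_nsmul, hadd]
    show ((p.1 + p.1, p.2 + p.2 + d p.1 p.1) : V × W) = (0, 0)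
    rw [hV, hW, hdiag, add_zero])
  let π₀ : Ext V W →+ V := AddMonoidHom.mk' (fun p => p.1) (fun p q => by rw [hadd])
  let π : Ext V W →ₗ[ZMod 2] V := π₀.toZModLinearMap 2
  have hπ : LinearMap.range π = ⊤ := by
    rw [LinearMap.range_eq_top]
    intro x
    exact ⟨((x, 0) : V × W), rfl⟩
  obtain ⟨g, hg⟩ := LinearMap.exists_rightInverse_of_surjective π hπ
  have hg1 : ∀ x, (g x).1 = x := fun x => LinearMap.congr_fun hg x
  refine ⟨fun x => (g x).2, fun x y => ?_⟩
  have h1 : g (x + y) = g x + g y := map_add g x y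
  rw [hadd] at h1
  have h2 : (g (x + y)).2 = (g x).2 + (g y).2 + d (g x).1 (g y).1 := congrArg Prod.snd h1
  rw [hg1, hg1] at h2
  show d x y = (g (x + y)).2 + (g x).2 + (g y).2
  rw [h2]
  have hneg : ∀ w : W, w + w = 0 := hW
  calc d x y = d x y + ((g x).2 + (g x).2) + ((g y).2 + (g y).2) := by rw [hW, hW, add_zero, add_zero]
    _ = _ := by abel

end cob

end Cfsg.Agent.Lib.Helper6.SuzA
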