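import Mathlib
import Cfsg.Prelude.Def_LieRecognition

set_option autoImplicit false

namespace Cfsg.Agent.Lib.Helper6.SuzA

section mat
variable {F : Type*} [Field F] (φ : F →+* F)

/-- the matrices -/
def M3 (x y : F) : Matrix (Fin 3) (Fin 3) F := !![1, 0, 0; x, 1, 0; y, φ x, 1]

theorem M3_mul (x y x' y' : F) : M3 φ x y * M3 φ x' y' = M3 φ (x + x') (y + y' + φ x * x') := by
  ext i j
  fin_cases i <;> fin_cases j <;> simp [M3, Matrix.mul_apply, Fin.sum_univ_three] <;> ring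

theorem M3_zero : M3 φ 0 0 = 1 := by
  ext i j
  fin_cases i <;> fin_cases j <;> simp [M3]

/-- as units -/
def m3 (x y : F) : GL (Fin 3) F :=
  ⟨M3 φ x y, M3 φ (-x) (-y + φ x * x),
    by rw [M3_mul, ← M3_zero φ]; congr 1 <;> ring,
    by rw [M3_mul, ← M3_zero φ]; congr 1 <;> simp <;> ring⟩

theorem m3_coe (x y : F) : ((m3 φ x y : GL (Fin 3) F) : Matrix (Fin 3) (Fin 3) F) = M3 φ x y := rfl

theorem m3_mul (x y x' y' : F) : m3 φ x y * m3 φ x' y' = m3 φ (x + x') (y + y' + φ x * x') := by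
  apply Units.ext
  rw [Units.val_mul, m3_coe, m3_coe, m3_coe, M3_mul]

theorem m3_inj {x y x' y' : F} (h : m3 φ x y = m3 φ x' y') : x = x' ∧ y = y' := by
  have h1 : M3 φ x y = M3 φ x' y' := congrArg Units.val h
  have h10 := congrFun (congrFun h1 1) 0
  have h20 := congrFun (congrFun h1 2) 0
  simp [M3] at h10 h20
  exact ⟨h10, h20⟩

theorem iso_of_param {P : Type*} [Group P] (e : P → F × F) (he : Function.Bijective e)
    (hmul : ∀ p p', e (p * p') = ((e p).1 + (e p').1, (e p).2 + (e p').2 + φ (e p).1 * (e p').1)) :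
    Nonempty (P ≃* Cfsg.suzukiTypeA F φ) := by
  let Ψ : P →* GL (Fin 3) F := MonoidHom.mk' (fun p => m3 φ (e p).1 (e p).2) (fun p p' => by
    rw [hmul, m3_mul])
  have hΨ : Function.Injective Ψ := by
    intro p p' h
    obtain ⟨h1, h2⟩ := m3_inj φ h
    exact he.1 (Prod.ext h1 h2)
  have hrange : Cfsg.suzukiTypeA F φ = Ψ.range := by
    have hset : {g : GL (Fin 3) F | ∃ x y : F, (g : Matrix (Fin 3) (Fin 3) F) = !![1, 0, 0; x, 1, 0; y, φ x, 1]}
        = (Ψ.range : Set (GL (Fin 3) F)) := by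
      ext g
      constructor
      · rintro ⟨x, y, hg⟩
        obtain ⟨p, hp⟩ := he.2 (x, y)
        refine ⟨p, ?_⟩
        apply Units.ext
        show M3 φ (e p).1 (e p).2 = _
        rw [hg, hp]
        rfl
      · rintro ⟨p, rfl⟩
        exact ⟨(e p).1, (e p).2, rfl⟩
    unfold Cfsg.suzukiTypeA
    rw [hset, Subgroup.closure_eq]
  exact ⟨(MonoidHom.ofInjective hΨ).trans (MulEquiv.subgroupCongr hrange.symm)⟩

end mat

end Cfsg.Agent.Lib.Helper6.SuzA
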