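import Mathlib
import Cfsg.Agent.Lib.Helper6.SuzA2
import Cfsg.Agent.Lib.Helper6.SuzA3
import Cfsg.Agent.Lib.Helper6.SuzA4

set_option autoImplicit false

namespace Cfsg.Agent.Lib.Helper6.SuzA

section core
variable {F : Type*} [Field F] [Fintype F] [CharP F 2]

theorem core (c₀ : F → F → F)
    (hCI : ∀ x y w, c₀ x y + c₀ (x + y) w = c₀ y w + c₀ x (y + w))
    (h0 : ∀ y, c₀ 0 y = 0) (h0' : ∀ x, c₀ x 0 = 0)
    (hmul : ∀ x y, c₀ (x * y) (x * y) = c₀ x x * c₀ y y)
    (hne : ∃ x y, c₀ x y + c₀ y x ≠ 0)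
    (hinj : ∀ x, x ≠ 0 → c₀ x x = 1 → x = 1) :
    ∃ (α β : F ≃+* F) (f : F → F), α ≠ β ∧ Odd (orderOf (β.trans α.symm)) ∧
      ∀ x y, c₀ x y + β x * α y = f (x + y) + f x + f y := by
  have h2 : (2 : F) = 0 := CharP.cast_eq_zero F 2
  have hxx : ∀ x : F, x + x = 0 := fun x => by linear_combination x * h2
  -- polar identity
  have hpolar : ∀ x y, c₀ x y + c₀ y x = c₀ (x + y) (x + y) + c₀ x x + c₀ y y := by
    intro x y
    have e1 := hCI (x + y) x y
    have e2 := hCI y x x
    have e3 : x + y + x = y := by linear_combination x * h2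
    rw [e3] at e1
    rw [hxx, h0', add_comm y x] at e2
    linear_combination (-1 : F) * e1 + e2 - c₀ (x + y) (x + y) * h2
  -- biadditivity
  have hBl : ∀ x y w, (c₀ (x + y) w + c₀ w (x + y)) = (c₀ x w + c₀ w x) + (c₀ y w + c₀ w y) := by
    intro x y w
    have e1 := hCI x y w
    have e2 := hCI w x y
    have e3 := hCI x w y
    rw [add_comm w x] at e2
    rw [add_comm w y] at e3
    linear_combination e1 - e2 - e3 + (c₀ (x + w) y - c₀ w y - c₀ x y) * h2
  let Bf : F → F → F := fun x y => c₀ x y + c₀ y x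
  have hBsymm : ∀ x y, Bf x y = Bf y x := fun x y => add_comm _ _
  have hBl' : ∀ x y w, Bf (x + y) w = Bf x w + Bf y w := hBl
  have hBr' : ∀ w x y, Bf w (x + y) = Bf w x + Bf w y := by
    intro w x y
    rw [hBsymm w, hBl', hBsymm x, hBsymm y]
  let B : F →+ F →+ F := AddMonoidHom.mk' (fun x => AddMonoidHom.mk' (fun y => Bf x y) (hBr' x))
    (fun x y => by
      ext w
      exact hBl' x y w)
  have hB : ∀ x y, B x y = c₀ (x + y) (x + y) + c₀ x x + c₀ y y := fun x y => hpolar x y
  obtain ⟨α, β, hαβ, hρ⟩ := rho_eq_prod (fun x => c₀ x x) hmul B hB hne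
  have hρ' : ∀ t, c₀ t t = α t * β t := hρ
  have hodd : Odd (orderOf (β.trans α.symm)) := by
    apply odd_order_of_inj
    intro x hx0 hx1
    apply hinj x hx0
    rw [hρ']
    have : α (x * (β.trans α.symm) x) = α 1 := by rw [hx1]
    rw [map_mul, map_one] at this
    rw [← this]
    simp
  -- the difference cocycle
  let d : F → F → F := fun x y => c₀ x y + β x * α y
  have hd : ∃ f : F → F, ∀ x y, d x y = f (x + y) + f x + f y := by
    apply coboundary_of_symm d hxx hxx
    · intro x y w
      show c₀ x y + β x * α y + (c₀ (x + y) w + β (x + y) * α w)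
        = c₀ y w + β y * α w + (c₀ x (y + w) + β x * α (y + w))
      rw [map_add, map_add]
      linear_combination hCI x y w
    · intro x y
      show c₀ x y + β x * α y = c₀ y x + β y * α x
      have := hpolar x y
      rw [hρ', hρ', hρ', map_add, map_add] at this
      linear_combination this + (-c₀ y x + β x * α y + α x * β x + α y * β y) * h2
    · intro x
      show c₀ x x + β x * α x = 0
      rw [hρ']
      linear_combination (α x * β x) * h2
    · intro y
      show c₀ 0 y + β 0 * α y = 0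
      rw [h0, map_zero, zero_mul, add_zero]
  obtain ⟨f, hf⟩ := hd
  exact ⟨α, β, f, hαβ, hodd, hf⟩

end core

end Cfsg.Agent.Lib.Helper6.SuzA
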