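import Mathlib
import Cfsg.Agent.Lib.Helper6.SuzA5
import Cfsg.Agent.Lib.Helper6.SuzA6

set_option autoImplicit false

namespace Cfsg.Agent.Lib.Helper6.SuzA

universe u

section grp
variable {P : Type u} [Group P] {F : Type*} [Field F] [CharP F 2]

/-- coordinates on `P` -/
structure Coord (s : F → P) (jZ : F → P) (c₀ : F → F → F) : Prop where
  jZ_add : ∀ x y, jZ (x + y) = jZ x * jZ y
  jZ_inj : Function.Injective jZ
  jZ_mem : ∀ x, jZ x ∈ Subgroup.center P
  s_zero : s 0 = 1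
  s_mul : ∀ x y, s x * s y = s (x + y) * jZ (c₀ x y)
  decomp : ∀ p : P, ∃ x u, p = s x * jZ u
  s_inj : ∀ x x' u u', s x * jZ u = s x' * jZ u' → x = x'

/-- equivariance data -/
structure Equi (ξ : MulAut P) (s jZ : F → P) (c₀ : F → F → F) (ν μ : F) : Prop where
  jZ_mu : ∀ x, jZ (μ * x) = ξ (jZ x)
  s_nu : ∀ x, ∃ u, ξ (s x) = s (ν * x) * jZ u
  gen : ∀ x : F, x ≠ 0 → ∃ i : ℕ, x = ν ^ i
  one : c₀ 1 1 = 1
  inj1 : ∀ i : ℕ, μ ^ i = 1 → ν ^ i = 1

variable {s jZ : F → P} {c₀ : F → F → F}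

omit [CharP F 2] in
theorem Coord.jZ_zero (hC : Coord s jZ c₀) : jZ 0 = 1 := by
  have := hC.jZ_add 0 0
  rw [add_zero] at this
  exact (mul_eq_left.mp this.symm)

omit [CharP F 2] in
theorem Coord.jZ_comm (hC : Coord s jZ c₀) (u : F) (p : P) : jZ u * p = p * jZ u :=
  (Subgroup.mem_center_iff.mp (hC.jZ_mem u) p).symm

omit [CharP F 2] in
theorem Coord.psi_mul (hC : Coord s jZ c₀) (x u x' u' : F) :
    (s x * jZ u) * (s x' * jZ u') = s (x + x') * jZ (u + u' + c₀ x x') := by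
  calc (s x * jZ u) * (s x' * jZ u') = s x * (jZ u * s x') * jZ u' := by group
    _ = s x * (s x' * jZ u) * jZ u' := by rw [hC.jZ_comm]
    _ = (s x * s x') * (jZ u * jZ u') := by group
    _ = s (x + x') * jZ (c₀ x x') * (jZ u * jZ u') := by rw [hC.s_mul]
    _ = s (x + x') * jZ (u + u' + c₀ x x') := by
      rw [mul_assoc, ← hC.jZ_add, ← hC.jZ_add]
      congr 2
      ring

omit [CharP F 2] in
theorem Coord.psi_inj (hC : Coord s jZ c₀) {x u x' u' : F} (h : s x * jZ u = s x' * jZ u') :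
    x = x' ∧ u = u' := by
  have hx := hC.s_inj x x' u u' h
  subst hx
  exact ⟨rfl, hC.jZ_inj (mul_left_cancel h)⟩

omit [CharP F 2] in
theorem Coord.zero_left (hC : Coord s jZ c₀) (y : F) : c₀ 0 y = 0 := by
  have := hC.s_mul 0 y
  rw [hC.s_zero, one_mul, zero_add] at this
  have h2 : jZ (c₀ 0 y) = 1 := (mul_eq_left.mp this.symm)
  rw [← hC.jZ_zero] at h2
  exact hC.jZ_inj h2

omit [CharP F 2] in
theorem Coord.zero_right (hC : Coord s jZ c₀) (x : F) : c₀ x 0 = 0 := by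
  have := hC.s_mul x 0
  rw [hC.s_zero, mul_one, add_zero] at this
  have h2 : jZ (c₀ x 0) = 1 := (mul_eq_left.mp this.symm)
  rw [← hC.jZ_zero] at h2
  exact hC.jZ_inj h2

omit [CharP F 2] in
theorem Coord.psi0 (hC : Coord s jZ c₀) (x : F) : s x * jZ 0 = s x := by
  rw [hC.jZ_zero, mul_one]

omit [CharP F 2] in
theorem Coord.cocycle (hC : Coord s jZ c₀) (x y w : F) :
    c₀ x y + c₀ (x + y) w = c₀ y w + c₀ x (y + w) := by
  have h1 : (s x * jZ 0) * (s y * jZ 0) * (s w * jZ 0) = s (x + y + w) * jZ (c₀ x y + c₀ (x + y) w) := by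
    rw [hC.psi_mul, hC.psi_mul]
    congr 2
    ring
  have h2 : (s x * jZ 0) * ((s y * jZ 0) * (s w * jZ 0)) = s (x + y + w) * jZ (c₀ y w + c₀ x (y + w)) := by
    rw [hC.psi_mul y, hC.psi_mul]
    rw [add_assoc x y w]
    congr 2
    ring
  rw [mul_assoc, h2] at h1
  exact (hC.psi_inj h1).2.symm

section eq
variable {ξ : MulAut P} {ν μ : F}

theorem Coord.sq (hC : Coord s jZ c₀) (x u : F) : (s x * jZ u) * (s x * jZ u) = jZ (c₀ x x) := by
  rw [hC.psi_mul, CharTwo.add_self_eq_zero, CharTwo.add_self_eq_zero, hC.s_zero, one_mul, zero_add]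

theorem rho_nu (hC : Coord s jZ c₀) (hE : Equi ξ s jZ c₀ ν μ) (x : F) :
    c₀ (ν * x) (ν * x) = μ * c₀ x x := by
  obtain ⟨u, hu⟩ := hE.s_nu x
  have h1 : ξ (s x * s x) = jZ (μ * c₀ x x) := by
    have := hC.sq x 0
    rw [hC.psi0] at this
    rw [this, hE.jZ_mu]
  have h2 : ξ (s x * s x) = jZ (c₀ (ν * x) (ν * x)) := by
    rw [map_mul, hu, hC.sq]
  rw [h1] at h2
  exact (hC.jZ_inj h2).symm

theorem rho_nu_pow (hC : Coord s jZ c₀) (hE : Equi ξ s jZ c₀ ν μ) (i : ℕ) (x : F) :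
    c₀ (ν ^ i * x) (ν ^ i * x) = μ ^ i * c₀ x x := by
  induction i with
  | zero => simp
  | succ n ih => rw [pow_succ', mul_assoc, rho_nu hC hE, ih, pow_succ', mul_assoc]

theorem rho_pow (hC : Coord s jZ c₀) (hE : Equi ξ s jZ c₀ ν μ) (i : ℕ) :
    c₀ (ν ^ i) (ν ^ i) = μ ^ i := by
  have := rho_nu_pow hC hE i 1
  rw [mul_one, hE.one, mul_one] at this
  exact this

theorem rho_mul (hC : Coord s jZ c₀) (hE : Equi ξ s jZ c₀ ν μ) (x y : F) :
    c₀ (x * y) (x * y) = c₀ x x * c₀ y y := by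
  by_cases hx : x = 0
  · rw [hx, zero_mul, hC.zero_left, zero_mul]
  · obtain ⟨i, rfl⟩ := hE.gen x hx
    rw [rho_nu_pow hC hE, rho_pow hC hE]

theorem rho_inj (hC : Coord s jZ c₀) (hE : Equi ξ s jZ c₀ ν μ) (x : F) (hx : x ≠ 0)
    (h : c₀ x x = 1) : x = 1 := by
  obtain ⟨i, rfl⟩ := hE.gen x hx
  rw [rho_pow hC hE] at h
  exact hE.inj1 i h

end eq

theorem abstract_main {P : Type u} [Group P] {F : Type} [Field F] [Fintype F] [CharP F 2]
    {s jZ : F → P} {c₀ : F → F → F} {ξ : MulAut P} {ν μ : F}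
    (hC : Coord s jZ c₀) (hE : Equi ξ s jZ c₀ ν μ) (hnab : ∃ a b : P, a * b ≠ b * a) :
    ∃ φ : F ≃+* F, φ ≠ RingEquiv.refl F ∧ Odd (orderOf φ) ∧
      Nonempty (P ≃* Cfsg.suzukiTypeA F (φ : F →+* F)) := by
  have hne : ∃ x y, c₀ x y + c₀ y x ≠ 0 := by
    obtain ⟨a, b, hab⟩ := hnab
    obtain ⟨x, u, rfl⟩ := hC.decomp a
    obtain ⟨y, v, rfl⟩ := hC.decomp b
    refine ⟨x, y, fun h => hab ?_⟩
    rw [hC.psi_mul, hC.psi_mul, add_comm y x, add_comm v u]
    have : c₀ x y = c₀ y x := by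
      have h2 := CharTwo.add_self_eq_zero (c₀ y x)
      linear_combination h - h2
    rw [this]
  obtain ⟨α, β, f, hαβ, hodd, hf⟩ := core c₀ hC.cocycle hC.zero_left hC.zero_right
    (rho_mul hC hE) hne (rho_inj hC hE)
  refine ⟨β.trans α.symm, ?_, hodd, ?_⟩
  · intro h
    apply hαβ
    ext t
    have := DFunLike.congr_fun h t
    simp only [RingEquiv.trans_apply, RingEquiv.refl_apply] at this
    have h2 := congrArg α this
    rw [RingEquiv.apply_symm_apply] at h2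
    exact h2.symm
  · -- the parametrization
    let ψ : F × F → P := fun p => s p.1 * jZ (α p.2 + f p.1)
    have hψ : Function.Bijective ψ := by
      constructor
      · rintro ⟨x, y⟩ ⟨x', y'⟩ h
        obtain ⟨h1, h2⟩ := hC.psi_inj h
        dsimp only at h1 h2
        subst h1
        have : α y = α y' := add_right_cancel h2
        rw [α.injective this]
      · intro p
        obtain ⟨x, u, rfl⟩ := hC.decomp p
        refine ⟨(x, α.symm (u + f x)), ?_⟩
        show s x * jZ (α (α.symm (u + f x)) + f x) = _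
        rw [RingEquiv.apply_symm_apply, add_assoc, CharTwo.add_self_eq_zero, add_zero]
    have hψmul : ∀ p q : F × F, ψ p * ψ q =
        ψ (p.1 + q.1, p.2 + q.2 + ((β.trans α.symm : F ≃+* F) : F →+* F) p.1 * q.1) := by
      rintro ⟨x, y⟩ ⟨x', y'⟩
      show s x * jZ (α y + f x) * (s x' * jZ (α y' + f x'))
        = s (x + x') * jZ (α (y + y' + α.symm (β x) * x') + f (x + x'))
      rw [hC.psi_mul]
      congr 2
      rw [map_add, map_add, map_mul, RingEquiv.apply_symm_apply]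
      have h1 := hf x x'
      have h2 := CharTwo.add_self_eq_zero (f x)
      have h3 := CharTwo.add_self_eq_zero (f x')
      have h4 := CharTwo.add_self_eq_zero (β x * α x')
      linear_combination h1 + h2 + h3 - h4
    let e : P → F × F := (Equiv.ofBijective ψ hψ).symm
    have he : Function.Bijective e := (Equiv.ofBijective ψ hψ).symm.bijective
    have heψ : ∀ p, ψ (e p) = p := fun p => (Equiv.ofBijective ψ hψ).apply_symm_apply p
    apply iso_of_param _ e he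
    intro p p'
    apply hψ.1
    rw [heψ, ← hψmul, heψ, heψ]

end grp

end Cfsg.Agent.Lib.Helper6.SuzA
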