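import Mathlib
import Cfsg.Agent.S1137
import Cfsg.Agent.Lib.Helper6.SuzA1

set_option autoImplicit false

namespace Cfsg.Agent.Lib.Helper6.SuzA

universe u

section coords
variable {P : Type u} [Group P]

theorem map_center (σ : MulAut P) {z : P} (hz : z ∈ Subgroup.center P) : σ z ∈ Subgroup.center P :=
  Cfsg.Agent.S1137.map_mem_center σ hz

theorem map_center_iff (σ : MulAut P) {z : P} : σ z ∈ Subgroup.center P ↔ z ∈ Subgroup.center P := by
  refine ⟨fun h => ?_, map_center σ⟩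
  have := map_center σ⁻¹ h
  simpa using this

theorem centerCoords [Finite P] (ξ : MulAut P) (hzsq : ∀ z ∈ Subgroup.center P, z * z = 1)
    (z₀ : P) (hz₀ : z₀ ∈ Subgroup.center P) (hz₀1 : z₀ ≠ 1)
    (horb : ∀ z ∈ Subgroup.center P, z ≠ 1 → ∃ i : ℕ, (ξ ^ i) z₀ = z)
    {m : ℕ} (hm : 0 < m) (hξm : ξ ^ m = 1)
    (F : Type) [Field F] [Fintype F] (hF : Fintype.card F = Nat.card (Subgroup.center P)) :
    ∃ (jZ : F → P) (μ : F), (∀ x y, jZ (x + y) = jZ x * jZ y) ∧ Function.Injective jZ ∧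
      (∀ x, jZ x ∈ Subgroup.center P) ∧ (∀ z ∈ Subgroup.center P, ∃ x, jZ x = z) ∧ jZ 1 = z₀ ∧
      ∀ x, jZ (μ * x) = ξ (jZ x) := by
  let T : Subgroup.center P →* Subgroup.center P :=
    MonoidHom.mk' (fun z => ⟨ξ z.1, map_center ξ z.2⟩) (fun a b => by
      apply Subtype.ext
      simp)
  have hT : ∀ (i : ℕ) (z : Subgroup.center P), ((T^[i]) z : P) = (ξ ^ i) z.1 := by
    intro i
    induction i with
    | zero => intro z; simp
    | succ n ih =>
      intro z
      rw [Function.iterate_succ_apply', pow_succ', MulAut.mul_apply, ← ih]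
      rfl
  obtain ⟨j, μ, hj, hjadd, hj1, hjμ⟩ := fieldModel (A := Subgroup.center P)
    (fun a => Subtype.ext (hzsq a.1 a.2)) T ⟨z₀, hz₀⟩
    (fun h => hz₀1 (congrArg Subtype.val h))
    (fun a ha => by
      obtain ⟨i, hi⟩ := horb a.1 a.2 (fun h => ha (Subtype.ext (by rw [h]; rfl)))
      exact ⟨i, Subtype.ext (by rw [hT, hi])⟩)
    hm (Subtype.ext (by rw [hT, hξm]; rfl)) F hF
  refine ⟨fun x => (j x : P), μ, ?_, ?_, ?_, ?_, ?_, ?_⟩
  · intro x y
    show ((j (x + y) : Subgroup.center P) : P) = _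
    rw [hjadd]
    rfl
  · intro x y h
    exact hj.1 (Subtype.ext h)
  · intro x
    exact (j x).2
  · intro z hz
    obtain ⟨x, hx⟩ := hj.2 ⟨z, hz⟩
    exact ⟨x, congrArg Subtype.val hx⟩
  · show ((j 1 : Subgroup.center P) : P) = z₀
    rw [hj1]
  · intro x
    show ((j (μ * x) : Subgroup.center P) : P) = _
    rw [hjμ]
    rfl

theorem quotCoords [Finite P] (ξ : MulAut P) (hsq : ∀ y : P, y * y ∈ Subgroup.center P)
    (x₀ : P) (hx₀ : x₀ ∉ Subgroup.center P)
    (horb : ∀ y : P, y ∉ Subgroup.center P → ∃ i : ℕ, ((ξ ^ i) x₀)⁻¹ * y ∈ Subgroup.center P)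
    {m : ℕ} (hm : 0 < m) (hξm : ξ ^ m = 1)
    (F : Type) [Field F] [Fintype F] (hF : Fintype.card F = Nat.card (P ⧸ Subgroup.center P)) :
    ∃ (s : F → P) (ν : F), s 0 = 1 ∧
      (∀ x y, (s (x + y))⁻¹ * (s x * s y) ∈ Subgroup.center P) ∧
      (∀ p, ∃ x, (s x)⁻¹ * p ∈ Subgroup.center P) ∧
      (∀ x x', (s x)⁻¹ * s x' ∈ Subgroup.center P → x = x') ∧
      (∀ x, (s (ν * x))⁻¹ * ξ (s x) ∈ Subgroup.center P) ∧
      (s 1)⁻¹ * x₀ ∈ Subgroup.center P ∧
      (∀ i : ℕ, (s (ν ^ i))⁻¹ * (ξ ^ i) x₀ ∈ Subgroup.center P) := by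
  classical
  have hexpV : ∀ v : P ⧸ Subgroup.center P, v * v = 1 := by
    intro v
    induction v using QuotientGroup.induction_on with
    | H y =>
      rw [← QuotientGroup.mk_mul]
      exact (QuotientGroup.eq_one_iff _).mpr (hsq y)
  let T : (P ⧸ Subgroup.center P) →* (P ⧸ Subgroup.center P) :=
    QuotientGroup.map _ _ ξ.toMonoidHom (fun z hz => map_center ξ hz)
  have hT1 : ∀ x : P, T (QuotientGroup.mk x) = QuotientGroup.mk (ξ x) := fun x => rfl
  have hT : ∀ (i : ℕ) (x : P), (T^[i]) (QuotientGroup.mk x) = QuotientGroup.mk ((ξ ^ i) x) := by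
    intro i
    induction i with
    | zero => intro x; simp
    | succ n ih =>
      intro x
      rw [Function.iterate_succ_apply', ih, hT1, pow_succ', MulAut.mul_apply]
  obtain ⟨j, ν, hj, hjadd, hj1, hjν⟩ := fieldModel hexpV T (QuotientGroup.mk x₀)
    (fun h => hx₀ ((QuotientGroup.eq_one_iff _).mp h))
    (fun v hv => by
      induction v using QuotientGroup.induction_on with
      | H y =>
        have hy : y ∉ Subgroup.center P := fun h => hv ((QuotientGroup.eq_one_iff _).mpr h)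
        obtain ⟨i, hi⟩ := horb y hy
        exact ⟨i, by rw [hT]; exact QuotientGroup.eq.mpr hi⟩)
    hm (by rw [hT, hξm]; rfl) F hF
  have hj0 : j 0 = 1 := by
    have := hjadd 0 0
    rw [add_zero] at this
    exact mul_eq_left.mp this.symm
  let s : F → P := fun x => if x = 0 then 1 else (j x).out
  have hs : ∀ x, (QuotientGroup.mk (s x) : P ⧸ Subgroup.center P) = j x := by
    intro x
    by_cases hx : x = 0
    · simp only [s, if_pos hx]
      rw [hx, hj0]
      rfl
    · simp only [s, if_neg hx]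
      exact QuotientGroup.out_eq' _
  have hjpow : ∀ i : ℕ, j (ν ^ i) = QuotientGroup.mk ((ξ ^ i) x₀) := by
    intro i
    induction i with
    | zero => simpa using hj1
    | succ n ih => rw [pow_succ', hjν, ih, hT1, pow_succ', MulAut.mul_apply]
  refine ⟨s, ν, by simp [s], ?_, ?_, ?_, ?_, ?_, ?_⟩
  · intro x y
    apply QuotientGroup.eq.mp
    rw [QuotientGroup.mk_mul, hs, hs, hs, hjadd]
  · intro p
    obtain ⟨x, hx⟩ := hj.2 (QuotientGroup.mk p)
    exact ⟨x, QuotientGroup.eq.mp (by rw [hs, hx])⟩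
  · intro x x' h
    have := QuotientGroup.eq.mpr h
    rw [hs, hs] at this
    exact hj.1 this
  · intro x
    apply QuotientGroup.eq.mp
    rw [hs, hjν, ← hs x, hT1]
  · apply QuotientGroup.eq.mp
    rw [hs, hj1]
  · intro i
    apply QuotientGroup.eq.mp
    rw [hs, hjpow]

end coords

end Cfsg.Agent.Lib.Helper6.SuzA
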