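import Mathlib
import Cfsg.Agent.S1137
import Cfsg.Agent.Lib.Helper6.SuzA8
import Cfsg.Agent.Lib.Helper6.SuzA7

set_option autoImplicit false

namespace Cfsg.Agent.Lib.Helper6.SuzA

universe u

section base
variable {P : Type u} [Group P]

/-- the basic data -/
structure Base (K : Subgroup (MulAut P)) : Prop where
  fin : Finite P
  pg : IsPGroup 2 P
  nonab : ∃ x y : P, x * y ≠ y * x
  card : Nat.card P = Nat.card (Subgroup.center P) ^ 2
  zsq : ∀ z ∈ Subgroup.center P, z * z = 1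
  invc : ∀ x : P, x * x = 1 → x ∈ Subgroup.center P
  nt : ∃ z ∈ Subgroup.center P, z ≠ 1
  trans : ∀ z ∈ Subgroup.center P, z ≠ 1 → ∀ z' ∈ Subgroup.center P, z' ≠ 1 →
    ∃ k : K, (k : MulAut P) z = z'
  free : ∀ k : K, ∀ z ∈ Subgroup.center P, z ≠ 1 → (k : MulAut P) z = z → k = 1
  cyc : IsCyclic K

theorem base_of (hP : Cfsg.IsSuzukiTwoGroup P)
    (hcard : Nat.card P = Nat.card (Subgroup.center P) ^ 2) :
    ∃ K : Subgroup (MulAut P), Base K := by
  obtain ⟨hfin, hpg, hnab, ⟨i₁, i₂, hne, hi₁, hi₁', hi₂, hi₂'⟩, K, hK, hreg⟩ := hP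
  have hP' : Cfsg.IsSuzukiTwoGroup P :=
    ⟨hfin, hpg, hnab, ⟨i₁, i₂, hne, hi₁, hi₁', hi₂, hi₂'⟩, K, hK, hreg⟩
  obtain ⟨hinv, hzsq⟩ := Cfsg.Agent.S1137.result hP'
  refine ⟨K, hfin, hpg, hnab, hcard, hzsq, ?_, ⟨i₁, ((hinv i₁).mp ⟨hi₁, hi₁'⟩).1, hi₁⟩, ?_, ?_, hK⟩
  · intro x hx
    by_cases h1 : x = 1
    · rw [h1]; exact Subgroup.one_mem _
    · exact ((hinv x).mp ⟨h1, hx⟩).1
  · intro z hz hz1 z' hz' hz'1
    obtain ⟨k, hk, -⟩ := hreg z z' hz1 (hzsq z hz) hz'1 (hzsq z' hz')
    exact ⟨k, hk⟩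
  · intro k z hz hz1 hkz
    obtain ⟨k₀, -, huniq⟩ := hreg z z hz1 (hzsq z hz) hz1 (hzsq z hz)
    rw [huniq k hkz, huniq 1 (by simp)]

variable {K : Subgroup (MulAut P)}

theorem Base.fp_trivial (hB : Base K) (k : K) (hk : k ≠ 1) (y : P) (hy : (k : MulAut P) y = y) :
    y = 1 := by
  by_contra hy1
  have hex : ∃ a : ℕ, y ^ 2 ^ a = 1 := hB.pg y
  classical
  let a := Nat.find hex
  have ha : y ^ 2 ^ a = 1 := Nat.find_spec hex
  have ha0 : a ≠ 0 := by
    intro h
    rw [h, pow_zero, pow_one] at ha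
    exact hy1 ha
  obtain ⟨b, hb⟩ : ∃ b, a = b + 1 := ⟨a - 1, by omega⟩
  have hmin : y ^ 2 ^ b ≠ 1 := Nat.find_min hex (by omega : b < a)
  have htt : y ^ 2 ^ b * y ^ 2 ^ b = 1 := by
    rw [← pow_add, ← two_mul, ← pow_succ', ← hb, ha]
  have htc := hB.invc _ htt
  have hkt : (k : MulAut P) (y ^ 2 ^ b) = y ^ 2 ^ b := by rw [map_pow, hy]
  exact hk (hB.free k _ htc hmin hkt)

theorem Base.fpf_quot (hB : Base K) (k : K) (hk : k ≠ 1) (x : P)
    (hx : x⁻¹ * (k : MulAut P) x ∈ Subgroup.center P) : x ∈ Subgroup.center P := by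
  haveI := hB.fin
  let h : Subgroup.center P → Subgroup.center P := fun z =>
    ⟨z.1⁻¹ * (k : MulAut P) z.1, Subgroup.mul_mem _ (Subgroup.inv_mem _ z.2) (map_center _ z.2)⟩
  have hinj : Function.Injective h := by
    intro z z' hzz
    have h1 : z.1⁻¹ * (k : MulAut P) z.1 = z'.1⁻¹ * (k : MulAut P) z'.1 := congrArg Subtype.val hzz
    have h2 : (k : MulAut P) (z.1 * z'.1⁻¹) = z.1 * z'.1⁻¹ := by
      rw [map_mul, map_inv]
      have : (k : MulAut P) z.1 = z.1 * (z'.1⁻¹ * (k : MulAut P) z'.1) := by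
        rw [← h1]; group
      rw [this]; group
    have h3 := hB.fp_trivial k hk _ h2
    apply Subtype.ext
    exact mul_inv_eq_one.mp h3
  have hsurj : Function.Surjective h := Finite.injective_iff_surjective.mp hinj
  obtain ⟨z, hz⟩ := hsurj ⟨(x⁻¹ * (k : MulAut P) x)⁻¹, Subgroup.inv_mem _ hx⟩
  have hz' : z.1⁻¹ * (k : MulAut P) z.1 = (x⁻¹ * (k : MulAut P) x)⁻¹ := congrArg Subtype.val hz
  have hfix : (k : MulAut P) (x * z.1) = x * z.1 := by
    rw [map_mul]
    have hc : ∀ g : P, g * (x⁻¹ * (k : MulAut P) x) = (x⁻¹ * (k : MulAut P) x) * g :=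
      Subgroup.mem_center_iff.mp hx
    have h5 : (k : MulAut P) z.1 = z.1 * (x⁻¹ * (k : MulAut P) x)⁻¹ := by
      rw [← hz']; group
    rw [h5]
    have h6 : (k : MulAut P) x = x * (x⁻¹ * (k : MulAut P) x) := by group
    conv_lhs => rw [h6]
    rw [mul_assoc, ← mul_assoc _ z.1, ← hc z.1]
    group
  have h7 := hB.fp_trivial k hk _ hfix
  have : x = z.1⁻¹ := eq_inv_of_mul_eq_one_left h7
  rw [this]
  exact Subgroup.inv_mem _ z.2

theorem Base.inj_K (hB : Base K) {z : P} (hz : z ∈ Subgroup.center P) (hz1 : z ≠ 1) {k k' : K}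
    (h : (k : MulAut P) z = (k' : MulAut P) z) : k = k' := by
  have h1 : ((k⁻¹ * k' : K) : MulAut P) z = z := by
    rw [Subgroup.coe_mul, MulAut.mul_apply, ← h, Subgroup.coe_inv, MulAut.inv_apply_self]
  have := hB.free _ z hz hz1 h1
  exact (inv_mul_eq_one.mp this)

theorem Base.finite_K (hB : Base K) : Finite K := by
  haveI := hB.fin
  obtain ⟨z₀, hz₀, hz₀1⟩ := hB.nt
  exact Finite.of_injective (fun k : K => (k : MulAut P) z₀) (fun k k' h => hB.inj_K hz₀ hz₀1 h)

theorem Base.card_K (hB : Base K) : Nat.card K + 1 = Nat.card (Subgroup.center P) := by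
  haveI := hB.fin
  haveI := hB.finite_K
  obtain ⟨z₀, hz₀, hz₀1⟩ := hB.nt
  let g : Option K → Subgroup.center P := fun o =>
    match o with
    | none => 1
    | some k => ⟨(k : MulAut P) z₀, map_center _ hz₀⟩
  have hg : Function.Bijective g := by
    constructor
    · intro o o' h
      match o, o' with
      | none, none => rfl
      | none, some k =>
        exfalso
        have h1 : (1 : P) = (k : MulAut P) z₀ := congrArg Subtype.val h
        apply hz₀1
        have := congrArg ((k : MulAut P)⁻¹) h1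
        simpa using this.symm
      | some k, none =>
        exfalso
        have h1 : (k : MulAut P) z₀ = (1 : P) := congrArg Subtype.val h
        apply hz₀1
        have := congrArg ((k : MulAut P)⁻¹) h1
        simpa using this
      | some k, some k' =>
        have h1 : (k : MulAut P) z₀ = (k' : MulAut P) z₀ := congrArg Subtype.val h
        rw [hB.inj_K hz₀ hz₀1 h1]
    · intro z
      by_cases hz : z = 1
      · exact ⟨none, hz.symm⟩
      · obtain ⟨k, hk⟩ := hB.trans z₀ hz₀ hz₀1 z.1 z.2 (fun h => hz (Subtype.ext h))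
        exact ⟨some k, Subtype.ext hk⟩
  rw [← Nat.card_congr (Equiv.ofBijective g hg), Finite.card_option]

theorem Base.card_quot (hB : Base K) :
    Nat.card (P ⧸ Subgroup.center P) = Nat.card (Subgroup.center P) := by
  haveI := hB.fin
  have h1 := Subgroup.card_eq_card_quotient_mul_card_subgroup (Subgroup.center P)
  rw [hB.card, pow_two] at h1
  have hpos : 0 < Nat.card (Subgroup.center P) := Nat.card_pos
  exact (Nat.eq_of_mul_eq_mul_right hpos h1).symm

theorem Base.trans_quot (hB : Base K) {x y : P} (hx : x ∉ Subgroup.center P)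
    (hy : y ∉ Subgroup.center P) : ∃ k : K, ((k : MulAut P) x)⁻¹ * y ∈ Subgroup.center P := by
  haveI := hB.fin
  haveI := hB.finite_K
  let g : Option K → P ⧸ Subgroup.center P := fun o =>
    match o with
    | none => 1
    | some k => QuotientGroup.mk ((k : MulAut P) x)
  have hne : ∀ k : K, (QuotientGroup.mk ((k : MulAut P) x) : P ⧸ Subgroup.center P) ≠ 1 := by
    intro k h
    exact hx ((map_center_iff _).mp ((QuotientGroup.eq_one_iff _).mp h))
  have hinj : Function.Injective g := by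
    intro o o' h
    match o, o' with
    | none, none => rfl
    | none, some k => exact absurd h.symm (hne k)
    | some k, none => exact absurd h (hne k)
    | some k, some k' =>
      have h1 : ((k : MulAut P) x)⁻¹ * (k' : MulAut P) x ∈ Subgroup.center P := QuotientGroup.eq.mp h
      have h2 := map_center ((k : MulAut P)⁻¹) h1
      rw [map_mul, map_inv, MulAut.inv_apply_self] at h2
      by_contra hkk
      have hkk' : k⁻¹ * k' ≠ 1 := fun h => hkk (Option.some_inj.mpr (inv_mul_eq_one.mp h))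
      apply hx
      apply hB.fpf_quot (k⁻¹ * k') hkk'
      rw [Subgroup.coe_mul, MulAut.mul_apply, Subgroup.coe_inv]
      exact h2
  have hbij : Function.Bijective g := by
    apply hinj.bijective_of_nat_card_le
    rw [Finite.card_option, hB.card_K, hB.card_quot]
  obtain ⟨o, ho⟩ := hbij.2 (QuotientGroup.mk y)
  match o, ho with
  | none, ho =>
    exfalso
    exact hy ((QuotientGroup.eq_one_iff _).mp ho.symm)
  | some k, ho =>
    exact ⟨k, QuotientGroup.eq.mp ho⟩

theorem Base.exists_noncentral (hB : Base K) : ∃ x : P, x ∉ Subgroup.center P := by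
  obtain ⟨x, y, hxy⟩ := hB.nonab
  refine ⟨y, fun h => hxy ?_⟩
  exact Subgroup.mem_center_iff.mp h x

theorem Base.sq_mem (hB : Base K) (y : P) : y * y ∈ Subgroup.center P := by
  obtain ⟨x, hx⟩ := hB.exists_noncentral
  have hex : ∃ a : ℕ, x ^ 2 ^ a ∈ Subgroup.center P := by
    obtain ⟨a, ha⟩ := hB.pg x
    exact ⟨a, by rw [ha]; exact Subgroup.one_mem _⟩
  classical
  let a := Nat.find hex
  have ha : x ^ 2 ^ a ∈ Subgroup.center P := Nat.find_spec hex
  have ha0 : a ≠ 0 := by
    intro h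
    rw [h, pow_zero, pow_one] at ha
    exact hx ha
  obtain ⟨b, hb⟩ : ∃ b, a = b + 1 := ⟨a - 1, by omega⟩
  have hmin : x ^ 2 ^ b ∉ Subgroup.center P := Nat.find_min hex (by omega : b < a)
  have huu : x ^ 2 ^ b * x ^ 2 ^ b ∈ Subgroup.center P := by
    rw [← pow_add, ← two_mul, ← pow_succ', ← hb]
    exact ha
  by_cases hy : y ∈ Subgroup.center P
  · exact Subgroup.mul_mem _ hy hy
  · obtain ⟨u, hu⟩ : ∃ u, u = x ^ 2 ^ b := ⟨_, rfl⟩
    rw [← hu] at hmin huu
    obtain ⟨k, hk⟩ := hB.trans_quot hmin hy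
    obtain ⟨z, hz⟩ : ∃ z, z = ((k : MulAut P) u)⁻¹ * y := ⟨_, rfl⟩
    rw [← hz] at hk
    have hyz : y = (k : MulAut P) u * z := by rw [hz]; group
    have hc : ∀ g : P, g * z = z * g := Subgroup.mem_center_iff.mp hk
    have : y * y = (k : MulAut P) (u * u) * (z * z) := by
      rw [hyz, map_mul]
      calc (k : MulAut P) u * z * ((k : MulAut P) u * z)
          = (k : MulAut P) u * (z * (k : MulAut P) u) * z := by group
        _ = (k : MulAut P) u * ((k : MulAut P) u * z) * z := by rw [← hc ((k : MulAut P) u)]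
        _ = _ := by group
    rw [this]
    exact Subgroup.mul_mem _ (map_center _ huu) (Subgroup.mul_mem _ hk hk)

theorem main_of_base (hB : Base K) :
    ∃ (F : Type) (_ : Field F) (_ : Fintype F) (φ : F ≃+* F),
      Fintype.card F = Nat.card (Subgroup.center P) ∧
      φ ≠ RingEquiv.refl F ∧ Odd (orderOf φ) ∧
      Nonempty (P ≃* Cfsg.suzukiTypeA F (φ : F →+* F)) := by
  haveI := hB.fin
  haveI := hB.finite_K
  haveI := hB.cyc
  -- generator
  obtain ⟨g, hg⟩ := IsCyclic.exists_monoid_generator (α := K)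
  let ξ : MulAut P := (g : MulAut P)
  have hξpow : ∀ i : ℕ, ξ ^ i = ((g ^ i : K) : MulAut P) := fun i => (Subgroup.coe_pow _ _ _).symm
  have hpow : ∀ k : K, ∃ i : ℕ, (k : MulAut P) = ξ ^ i := by
    intro k
    obtain ⟨i, hi⟩ := (Submonoid.mem_powers_iff _ _).mp (hg k)
    exact ⟨i, by rw [hξpow, hi]⟩
  let m := Nat.card K
  have hm : 0 < m := Nat.card_pos
  have hξm : ξ ^ m = 1 := by rw [hξpow, pow_card_eq_one']; rfl
  -- the field
  obtain ⟨n, hn⟩ := IsPGroup.iff_card.mp (hB.pg.to_subgroup (Subgroup.center P))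
  have hn0 : n ≠ 0 := by
    rintro rfl
    obtain ⟨z, hz, hz1⟩ := hB.nt
    rw [pow_zero] at hn
    have := (Nat.card_eq_one_iff_unique.mp hn).1
    exact hz1 (congrArg Subtype.val (Subsingleton.elim (⟨z, hz⟩ : Subgroup.center P) 1))
  let F := GaloisField 2 n
  letI : Fintype F := Fintype.ofFinite F
  have hF : Fintype.card F = Nat.card (Subgroup.center P) := by
    rw [hn, ← Nat.card_eq_fintype_card, GaloisField.card 2 n hn0]
  -- noncentral element
  obtain ⟨x₀, hx₀⟩ := hB.exists_noncentral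
  -- quotient coordinates
  obtain ⟨s, ν, hs0, hsadd, hssurj, hsinj, hsν, hs1, hspow⟩ := quotCoords ξ hB.sq_mem x₀ hx₀
    (fun y hy => by
      obtain ⟨k, hk⟩ := hB.trans_quot hx₀ hy
      obtain ⟨i, hi⟩ := hpow k
      exact ⟨i, by rw [← hi]; exact hk⟩)
    hm hξm F (by rw [hF, hB.card_quot])
  -- z₀
  have hs1n : s 1 ∉ Subgroup.center P := by
    intro h
    apply hx₀
    have := Subgroup.mul_mem _ h hs1
    simpa using this
  let z₀ := s 1 * s 1
  have hz₀ : z₀ ∈ Subgroup.center P := hB.sq_mem _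
  have hz₀1 : z₀ ≠ 1 := fun h => hs1n (hB.invc _ h)
  obtain ⟨jZ, μ, hjadd, hjinj, hjmem, hjsurj, hj1, hjμ⟩ := centerCoords ξ hB.zsq z₀ hz₀ hz₀1
    (fun z hz hz1 => by
      obtain ⟨k, hk⟩ := hB.trans z₀ hz₀ hz₀1 z hz hz1
      obtain ⟨i, hi⟩ := hpow k
      exact ⟨i, by rw [← hi]; exact hk⟩)
    hm hξm F hF
  -- the cocycle
  have hc₀ : ∀ x y : F, ∃ c : F, s x * s y = s (x + y) * jZ c := by
    intro x y
    obtain ⟨c, hc⟩ := hjsurj _ (hsadd x y)
    exact ⟨c, by rw [hc]; group⟩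
  choose c₀ hc₀ using hc₀
  have hC : Coord s jZ c₀ :=
    { jZ_add := hjadd
      jZ_inj := hjinj
      jZ_mem := hjmem
      s_zero := hs0
      s_mul := hc₀
      decomp := fun p => by
        obtain ⟨x, hx⟩ := hssurj p
        obtain ⟨u, hu⟩ := hjsurj _ hx
        exact ⟨x, u, by rw [hu]; group⟩
      s_inj := fun x x' u u' h => by
        apply hsinj
        have : (s x)⁻¹ * s x' = jZ u * (jZ u')⁻¹ := by
          have h2 : s x' = s x * jZ u * (jZ u')⁻¹ := by rw [h]; group
          rw [h2]; group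
        rw [this]
        exact Subgroup.mul_mem _ (hjmem u) (Subgroup.inv_mem _ (hjmem u')) }
  have hE : Equi ξ s jZ c₀ ν μ :=
    { jZ_mu := hjμ
      s_nu := fun x => by
        obtain ⟨u, hu⟩ := hjsurj _ (hsν x)
        exact ⟨u, by rw [hu]; group⟩
      gen := fun x hx => by
        have hsx : s x ∉ Subgroup.center P := by
          intro h
          apply hx
          have : (s 0)⁻¹ * s x ∈ Subgroup.center P := by rw [hs0]; simpa using h
          exact (hsinj 0 x this).symm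
        obtain ⟨k, hk⟩ := hB.trans_quot hx₀ hsx
        obtain ⟨i, hi⟩ := hpow k
        refine ⟨i, (hsinj _ _ ?_).symm⟩
        have : (s (ν ^ i))⁻¹ * s x = ((s (ν ^ i))⁻¹ * (ξ ^ i) x₀) * (((ξ ^ i) x₀)⁻¹ * s x) := by
          group
        rw [this]
        exact Subgroup.mul_mem _ (hspow i) (by rw [← hi]; exact hk)
      one := by
        apply hjinj
        rw [hj1]
        have := hc₀ 1 1
        rw [CharTwo.add_self_eq_zero, hs0, one_mul] at this
        exact this.symm
      inj1 := fun i hi => by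
        have h1 : ∀ i : ℕ, jZ (μ ^ i) = (ξ ^ i) z₀ := by
          intro i
          induction i with
          | zero => simpa using hj1
          | succ n ih => rw [pow_succ', hjμ, ih, pow_succ', MulAut.mul_apply]
        have h2 : (ξ ^ i) z₀ = z₀ := by rw [← h1, hi, hj1]
        have h3 : g ^ i = 1 := hB.free (g ^ i) z₀ hz₀ hz₀1 (by rw [← hξpow]; exact h2)
        have h4 : ξ ^ i = 1 := by rw [hξpow, h3]; rfl
        have h5 := hspow i
        rw [h4, MulAut.one_apply] at h5
        apply hsinj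
        have : (s (ν ^ i))⁻¹ * s 1 = ((s (ν ^ i))⁻¹ * x₀) * ((s 1)⁻¹ * x₀)⁻¹ := by group
        rw [this]
        exact Subgroup.mul_mem _ h5 (Subgroup.inv_mem _ hs1) }
  obtain ⟨φ, h1, h2, h3⟩ := abstract_main hC hE hB.nonab
  exact ⟨F, inferInstance, ‹Fintype F›, φ, hF, h1, h2, h3⟩

end base

end Cfsg.Agent.Lib.Helper6.SuzA
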