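import Mathlib

set_option autoImplicit false

/-! # Arithmetic for counting the tori of a Suzuki group -/

namespace Cfsg.Agent.Lib.Helper6.SzArith

/-- one class of tori is impossible. -/
lemma single_class_absurd {q u n idx : ℕ} (hq : 3 ≤ q) (hu : 5 ≤ u) (hn : n = 1 ∨ n = 2 ∨ n = 4)
    (hidx : 0 < idx)
    (h1 : 2 * (idx * (u - 1)) = q ^ 3 * (q - 1) ^ 2)
    (h2 : idx * (n * u) = (q ^ 2 + 1) * (q ^ 2 * (q - 1))) : False := by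
  have hq1 : 1 ≤ q := by omega
  have hu1 : 1 ≤ u := by omega
  obtain ⟨Q, rfl⟩ : ∃ Q, q = Q + 1 := ⟨q - 1, by omega⟩
  obtain ⟨U, rfl⟩ : ∃ U, u = U + 1 := ⟨u - 1, by omega⟩
  simp only [Nat.add_sub_cancel] at h1 h2
  have hQ : 2 ≤ Q := by omega
  have hU : 4 ≤ U := by omega
  -- key identity: 2 U ((Q+1)^2+1) = (Q+1) Q n (U+1)
  have key : 2 * U * ((Q + 1) ^ 2 + 1) = (Q + 1) * Q * (n * (U + 1)) := by
    have h3 : idx * (2 * U * ((Q + 1) ^ 2 + 1)) * ((Q + 1) ^ 2 * Q) =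
        idx * ((Q + 1) * Q * (n * (U + 1))) * ((Q + 1) ^ 2 * Q) := by
      calc idx * (2 * U * ((Q + 1) ^ 2 + 1)) * ((Q + 1) ^ 2 * Q)
          = (2 * (idx * U)) * (((Q + 1) ^ 2 + 1) * ((Q + 1) ^ 2 * Q)) := by ring
        _ = ((Q + 1) ^ 3 * Q ^ 2) * (idx * (n * (U + 1))) := by rw [h1, h2]
        _ = _ := by ring
    have hpos : 0 < (Q + 1) ^ 2 * Q := by positivity
    have h4 := Nat.eq_of_mul_eq_mul_right hpos h3
    exact Nat.eq_of_mul_eq_mul_left hidx h4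
  rcases hn with rfl | rfl | rfl
  · nlinarith [Nat.mul_le_mul hU (le_refl (Q * Q)), Nat.mul_le_mul hU (le_refl Q)]
  · -- (U+1)(Q+2) = (Q+1)^2+1
    have h5 : U * ((Q + 1) ^ 2 + 1) = (Q + 1) * Q * (U + 1) := by linarith
    have h6 : (U + 1) * (Q + 2) = (Q + 2) * Q + 2 := by nlinarith
    -- so (Q+2) divides 2
    have h7 : (Q + 2) ∣ 2 := by
      have : (Q + 2) ∣ (Q + 2) * Q + 2 := Dvd.intro_left _ h6
      exact (Nat.dvd_add_right (Dvd.intro _ rfl)).1 this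
    have := Nat.le_of_dvd (by norm_num) h7
    omega
  · nlinarith [Nat.mul_le_mul hU (le_refl (Q * Q)), Nat.mul_le_mul hU (le_refl Q),
      Nat.mul_le_mul hQ (le_refl Q), Nat.mul_le_mul hQ (le_refl (Q * U))]

/-- each class of tori has at least `|G| / 5` elements. -/
lemma class_large {u n idx g c : ℕ} (hu : 5 ≤ u) (hn : n = 1 ∨ n = 2 ∨ n = 4)
    (hc : c = idx * (u - 1)) (hg : idx * (n * u) = g) : g ≤ 5 * c := by
  obtain ⟨U, rfl⟩ : ∃ U, u = U + 1 := ⟨u - 1, by omega⟩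
  simp only [Nat.add_sub_cancel] at hc
  subst hc hg
  have hn4 : n ≤ 4 := by omega
  have : n * (U + 1) ≤ 5 * U := by nlinarith
  calc idx * (n * (U + 1)) ≤ idx * (5 * U) := Nat.mul_le_mul_left _ this
    _ = 5 * (idx * U) := by ring

/-- three classes of tori are impossible. -/
lemma three_class_absurd {q c₁ c₂ c₃ e : ℕ} (hq : 1 ≤ q)
    (h1 : (q ^ 2 + 1) * (q ^ 2 * (q - 1)) ≤ 5 * c₁)
    (h2 : (q ^ 2 + 1) * (q ^ 2 * (q - 1)) ≤ 5 * c₂)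
    (h3 : (q ^ 2 + 1) * (q ^ 2 * (q - 1)) ≤ 5 * c₃)
    (hle : c₁ + c₂ + c₃ ≤ e) (he : 2 * e = q ^ 3 * (q - 1) ^ 2) (hq2 : 2 ≤ q) : False := by
  obtain ⟨Q, rfl⟩ : ∃ Q, q = Q + 1 := ⟨q - 1, by omega⟩
  simp only [Nat.add_sub_cancel] at *
  have hQ : 1 ≤ Q := by omega
  have h4 : 6 * (((Q + 1) ^ 2 + 1) * ((Q + 1) ^ 2 * Q)) ≤ 5 * ((Q + 1) ^ 3 * Q ^ 2) := by
    rw [← he]; linarith
  have h5 : 0 < (Q + 1) ^ 2 * Q := by positivity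
  have h6 : 6 * ((Q + 1) ^ 2 + 1) * ((Q + 1) ^ 2 * Q) ≤ 5 * ((Q + 1) * Q) * ((Q + 1) ^ 2 * Q) := by
    calc 6 * ((Q + 1) ^ 2 + 1) * ((Q + 1) ^ 2 * Q) = 6 * (((Q + 1) ^ 2 + 1) * ((Q + 1) ^ 2 * Q)) := by
          ring
      _ ≤ 5 * ((Q + 1) ^ 3 * Q ^ 2) := h4
      _ = _ := by ring
  have h7 := Nat.le_of_mul_le_mul_right h6 h5
  nlinarith


lemma mul_eq_of_hall {N u₁ u₂ : ℕ} (hN : N ≠ 0) (h1 : u₁ ∣ N) (h2 : u₂ ∣ N)
    (hc : Nat.Coprime u₁ u₂)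
    (hp : ∀ p, p.Prime → p ∣ N → p ^ N.factorization p ∣ u₁ ∨ p ^ N.factorization p ∣ u₂) :
    u₁ * u₂ = N := by
  have hu1 : u₁ ≠ 0 := fun h => hN (by rw [h] at h1; exact zero_dvd_iff.1 h1)
  have hu2 : u₂ ≠ 0 := fun h => hN (by rw [h] at h2; exact zero_dvd_iff.1 h2)
  apply Nat.dvd_antisymm (hc.mul_dvd_of_dvd_of_dvd h1 h2)
  rw [← Nat.factorization_le_iff_dvd hN (mul_ne_zero hu1 hu2)]
  intro p
  rw [Nat.factorization_mul hu1 hu2, Finsupp.add_apply]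
  by_cases hpp : p.Prime
  · by_cases hpN : p ∣ N
    · rcases hp p hpp hpN with h | h
      · have := (hpp.pow_dvd_iff_le_factorization hu1).1 h
        omega
      · have := (hpp.pow_dvd_iff_le_factorization hu2).1 h
        omega
    · rw [Nat.factorization_eq_zero_of_not_dvd hpN]; omega
  · rw [Nat.factorization_eq_zero_of_not_prime _ hpp]; omega



lemma two_class_int {Q a b n₁ n₂ : ℤ} (hQ : 3 ≤ Q) (ha : 5 ≤ a) (hb : 5 ≤ b)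
    (hn₁ : n₁ = 1 ∨ n₁ = 2 ∨ n₁ = 4) (hn₂ : n₂ = 1 ∨ n₂ = 2 ∨ n₂ = 4)
    (key : 2 * (Q ^ 2 + 1) * ((a - 1) * (n₂ * b) + (b - 1) * (n₁ * a)) =
      Q * (Q - 1) * (n₁ * n₂ * (a * b))) : n₁ = 4 ∧ n₂ = 4 := by
  have hA : 5 * ((Q ^ 2 + 1) * b) ≤ (Q ^ 2 + 1) * (a * b) := by
    have : 0 ≤ (Q ^ 2 + 1) * ((a - 5) * b) := by
      apply mul_nonneg (by positivity)
      apply mul_nonneg <;> linarith
    linarith
  have hB : 5 * ((Q ^ 2 + 1) * a) ≤ (Q ^ 2 + 1) * (a * b) := by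
    have : 0 ≤ (Q ^ 2 + 1) * ((b - 5) * a) := by
      apply mul_nonneg (by positivity)
      apply mul_nonneg <;> linarith
    linarith
  have hC : 0 < Q * (a * b) := by
    apply mul_pos (by linarith)
    apply mul_pos <;> linarith
  have hD : 0 < a * b := by apply mul_pos <;> linarith
  have hE : 0 < Q ^ 2 * (a * b) := by positivity
  rcases hn₁ with rfl | rfl | rfl <;> rcases hn₂ with rfl | rfl | rfl
  · exfalso; ring_nf at key hA hB hC hD hE; linarith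
  · exfalso; ring_nf at key hA hB hC hD hE; linarith
  · exfalso; ring_nf at key hA hB hC hD hE; linarith
  · exfalso; ring_nf at key hA hB hC hD hE; linarith
  · exfalso; ring_nf at key hA hB hC hD hE; linarith
  · exfalso; ring_nf at key hA hB hC hD hE; linarith
  · exfalso; ring_nf at key hA hB hC hD hE; linarith
  · exfalso; ring_nf at key hA hB hC hD hE; linarith
  · exact ⟨rfl, rfl⟩

lemma two_class_int2 {Q a b r : ℤ} (hr : Q = 2 * r ^ 2)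
    (key : 2 * (Q ^ 2 + 1) * ((a - 1) * (4 * b) + (b - 1) * (4 * a)) =
      Q * (Q - 1) * (4 * 4 * (a * b))) (hN : a * b = Q ^ 2 + 1) :
    (a = Q + 2 * r + 1 ∧ b + 2 * r = Q + 1) ∨ (b = Q + 2 * r + 1 ∧ a + 2 * r = Q + 1) := by
  have hpos : (0 : ℤ) < Q ^ 2 + 1 := by positivity
  have hsum : a + b = 2 * Q + 2 := by
    have key2 : (Q ^ 2 + 1) * (a + b) = (Q ^ 2 + 1) * (2 * Q + 2) := by
      have h1 : (Q ^ 2 + 1) * (2 * (a * b) - a - b) = 2 * Q * (Q - 1) * (a * b) := by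
        have h8 : (8 : ℤ) * ((Q ^ 2 + 1) * (2 * (a * b) - a - b)) =
            8 * (2 * Q * (Q - 1) * (a * b)) := by linear_combination key
        exact mul_left_cancel₀ (by norm_num) h8
      rw [hN] at h1
      linear_combination -h1
    exact mul_left_cancel₀ hpos.ne' key2
  have hZ : (a - b) ^ 2 = (4 * r) ^ 2 := by
    have : (a - b) ^ 2 = (a + b) ^ 2 - 4 * (a * b) := by ring
    rw [this, hsum, hN, hr]; ring
  rcases sq_eq_sq_iff_eq_or_eq_neg.1 hZ with h | h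
  · left
    constructor <;> linarith
  · right
    constructor <;> linarith

/-- exactly two classes of tori: their orders and the indices of their normalizers. -/
lemma two_class {q r u₁ u₂ n₁ n₂ idx₁ idx₂ : ℕ} (hq : 3 ≤ q) (hr : q = 2 * r ^ 2)
    (hu₁ : 5 ≤ u₁) (hu₂ : 5 ≤ u₂)
    (hn₁ : n₁ = 1 ∨ n₁ = 2 ∨ n₁ = 4) (hn₂ : n₂ = 1 ∨ n₂ = 2 ∨ n₂ = 4)
    (h1 : 2 * (idx₁ * (u₁ - 1) + idx₂ * (u₂ - 1)) = q ^ 3 * (q - 1) ^ 2)
    (h21 : idx₁ * (n₁ * u₁) = (q ^ 2 + 1) * (q ^ 2 * (q - 1)))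
    (h22 : idx₂ * (n₂ * u₂) = (q ^ 2 + 1) * (q ^ 2 * (q - 1)))
    (hN : u₁ * u₂ = q ^ 2 + 1) :
    n₁ = 4 ∧ n₂ = 4 ∧ ((u₁ = q + 2 * r + 1 ∧ u₂ + 2 * r = q + 1) ∨
      (u₂ = q + 2 * r + 1 ∧ u₁ + 2 * r = q + 1)) := by
  have hq1 : 1 ≤ q := by omega
  have hu1 : 1 ≤ u₁ := by omega
  have hu2 : 1 ≤ u₂ := by omega
  have c1 : ((u₁ - 1 : ℕ) : ℤ) = (u₁ : ℤ) - 1 := by rw [Nat.cast_sub hu1]; simp
  have c2 : ((u₂ - 1 : ℕ) : ℤ) = (u₂ : ℤ) - 1 := by rw [Nat.cast_sub hu2]; simp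
  have c3 : ((q - 1 : ℕ) : ℤ) = (q : ℤ) - 1 := by rw [Nat.cast_sub hq1]; simp
  have h1z : 2 * ((idx₁ : ℤ) * ((u₁ : ℤ) - 1) + (idx₂ : ℤ) * ((u₂ : ℤ) - 1)) =
      (q : ℤ) ^ 3 * ((q : ℤ) - 1) ^ 2 := by
    have := congrArg (Nat.cast : ℕ → ℤ) h1
    push_cast at this
    rw [c1, c2, c3] at this
    exact this
  have h21z : (idx₁ : ℤ) * ((n₁ : ℤ) * u₁) =
      ((q : ℤ) ^ 2 + 1) * ((q : ℤ) ^ 2 * ((q : ℤ) - 1)) := by
    have := congrArg (Nat.cast : ℕ → ℤ) h21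
    push_cast at this
    rw [c3] at this
    exact this
  have h22z : (idx₂ : ℤ) * ((n₂ : ℤ) * u₂) =
      ((q : ℤ) ^ 2 + 1) * ((q : ℤ) ^ 2 * ((q : ℤ) - 1)) := by
    have := congrArg (Nat.cast : ℕ → ℤ) h22
    push_cast at this
    rw [c3] at this
    exact this
  have hNz : (u₁ : ℤ) * u₂ = (q : ℤ) ^ 2 + 1 := by exact_mod_cast hN
  have hqz : (3 : ℤ) ≤ q := by exact_mod_cast hq
  have hu₁z : (5 : ℤ) ≤ u₁ := by exact_mod_cast hu₁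
  have hu₂z : (5 : ℤ) ≤ u₂ := by exact_mod_cast hu₂
  have hrz : (q : ℤ) = 2 * (r : ℤ) ^ 2 := by exact_mod_cast hr
  generalize hqq : (q : ℤ) = Q at *
  generalize hu : (u₁ : ℤ) = a at *
  generalize hv : (u₂ : ℤ) = b at *
  have key : 2 * (Q ^ 2 + 1) * ((a - 1) * ((n₂ : ℤ) * b) + (b - 1) * ((n₁ : ℤ) * a)) =
      Q * (Q - 1) * ((n₁ : ℤ) * n₂ * (a * b)) := by
    have hpos : (0 : ℤ) < Q ^ 2 * (Q - 1) := by
      apply mul_pos (by positivity)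
      linarith
    apply mul_right_cancel₀ hpos.ne'
    calc 2 * (Q ^ 2 + 1) * ((a - 1) * ((n₂ : ℤ) * b) + (b - 1) * ((n₁ : ℤ) * a)) *
          (Q ^ 2 * (Q - 1))
        = 2 * ((a - 1) * ((n₂ : ℤ) * b) * ((Q ^ 2 + 1) * (Q ^ 2 * (Q - 1))) +
            (b - 1) * ((n₁ : ℤ) * a) * ((Q ^ 2 + 1) * (Q ^ 2 * (Q - 1)))) := by ring
      _ = 2 * ((a - 1) * ((n₂ : ℤ) * b) * ((idx₁ : ℤ) * ((n₁ : ℤ) * a)) +
            (b - 1) * ((n₁ : ℤ) * a) * ((idx₂ : ℤ) * ((n₂ : ℤ) * b))) := by rw [h21z, h22z]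
      _ = (2 * ((idx₁ : ℤ) * (a - 1) + (idx₂ : ℤ) * (b - 1))) *
            ((n₁ : ℤ) * a * ((n₂ : ℤ) * b)) := by ring
      _ = (Q ^ 3 * (Q - 1) ^ 2) * ((n₁ : ℤ) * a * ((n₂ : ℤ) * b)) := by rw [h1z]
      _ = _ := by ring
  have hn₁z : (n₁ : ℤ) = 1 ∨ (n₁ : ℤ) = 2 ∨ (n₁ : ℤ) = 4 := by
    rcases hn₁ with h | h | h <;> simp [h]
  have hn₂z : (n₂ : ℤ) = 1 ∨ (n₂ : ℤ) = 2 ∨ (n₂ : ℤ) = 4 := by
    rcases hn₂ with h | h | h <;> simp [h]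
  obtain ⟨e1, e2⟩ := two_class_int hqz hu₁z hu₂z hn₁z hn₂z key
  rw [e1, e2] at key
  have := two_class_int2 hrz key hNz
  refine ⟨by exact_mod_cast e1, by exact_mod_cast e2, ?_⟩
  rcases this with ⟨h3, h4⟩ | ⟨h3, h4⟩
  · left
    constructor
    · have : (u₁ : ℤ) = ((q + 2 * r + 1 : ℕ) : ℤ) := by push_cast; rw [hu, hqq]; exact h3
      exact_mod_cast this
    · have : ((u₂ + 2 * r : ℕ) : ℤ) = ((q + 1 : ℕ) : ℤ) := by push_cast; rw [hv, hqq]; exact h4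
      exact_mod_cast this
  · right
    constructor
    · have : (u₂ : ℤ) = ((q + 2 * r + 1 : ℕ) : ℤ) := by push_cast; rw [hv, hqq]; exact h3
      exact_mod_cast this
    · have : ((u₁ + 2 * r : ℕ) : ℤ) = ((q + 1 : ℕ) : ℤ) := by push_cast; rw [hu, hqq]; exact h4
      exact_mod_cast this


end Cfsg.Agent.Lib.Helper6.SzArith
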