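import Cfsg.Agent.Lib.Helper6.SzTorus

set_option autoImplicit false

/-! # Suzuki groups: centralizers of elements -/

namespace Cfsg.Agent.Lib.Helper6.Sz

open Matrix
open scoped Pointwise

section general
variable {G : Type*} [Group G]

lemma conj_comm {g h z : G} (hc : h * g = g * h) :
    (z⁻¹ * h * z) * (z⁻¹ * g * z) = (z⁻¹ * g * z) * (z⁻¹ * h * z) := by
  calc (z⁻¹ * h * z) * (z⁻¹ * g * z) = z⁻¹ * (h * g) * z := by group
    _ = z⁻¹ * (g * h) * z := by rw [hc]
    _ = _ := by group

lemma nilpotent_of_comm (H : Subgroup G) (h : ∀ a ∈ H, ∀ b ∈ H, a * b = b * a) :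
    Group.IsNilpotent H := by
  let inst : CommGroup H :=
    { (inferInstance : Group H) with
      mul_comm := fun a b => Subtype.ext (h a a.2 b b.2) }
  exact @CommGroup.isNilpotent H inst

lemma nilpotent_of_exp_four [Finite G] (H : Subgroup G) (h : ∀ a ∈ H, a ^ 4 = 1) :
    Group.IsNilpotent H := by
  have : Fact (Nat.Prime 2) := ⟨Nat.prime_two⟩
  have hp : IsPGroup 2 H := by
    intro a
    refine ⟨2, Subtype.ext ?_⟩
    have := h a a.2
    simpa using this
  exact hp.isNilpotent

end general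

section cent
variable {F : Type*} [Field F] [CharP F 2] [Finite F] (s : F →+* F)
  (hs : ∀ x, s (s x) = x ^ 2)

lemma exists_fixed_opt (a b : F) {t : Fˣ} (ht : t ≠ 1) :
    ∃ x y, (Tg s hs a b * Dg s hs t) • opt s x y = opt s x y := by
  have h2 : (2 : F) = 0 := CharTwo.two_eq_zero
  have h1 : (1 : F) + s t ≠ 0 := by
    intro h
    apply ht
    apply Units.ext
    apply s.injective
    rw [Units.val_one, map_one]
    linear_combination h - h2
  have h3 : (1 : F) + (t : F) ^ 2 * s t ≠ 0 := by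
    intro h
    apply ht
    apply Units.ext
    exact sq_mul_s_eq_one s hs (by linear_combination h - h2)
  refine ⟨a / (1 + s t), (b + s a * (s t * (a / (1 + s t)))) / (1 + (t : F) ^ 2 * s t), ?_⟩
  rw [mul_smul, Dg_smul_opt, Tg_smul_opt]
  congr 1
  · field_simp
    linear_combination (a * s (t : F)) * h2
  · field_simp
    linear_combination ((t : F) ^ 2 * s t * (b * (1 + s t) + s a * s t * a)) * h2

lemma Tg_pow_four (a b : F) : Tg s hs a b ^ 4 = 1 := by
  have : Tg s hs a b ^ 4 = (Tg s hs a b * Tg s hs a b) * (Tg s hs a b * Tg s hs a b) := by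
    rw [← sq, ← sq, ← pow_mul]
  rw [this, Tg_mul_self, Tg_mul_self, ← Tg_zero s hs]
  simp

include hs in
lemma centralizer_Tg (hnt : ∃ y : F, s y ≠ y ^ 2) {a b : F} (hab : ¬(a = 0 ∧ b = 0)) {h : G s}
    (hc : h * Tg s hs a b = Tg s hs a b * h) : ∃ a' b', h = Tg s hs a' b' := by
  have hfix := fix_oinf_of_commute s hs hab hc
  obtain ⟨a', b', u, hkk⟩ := exists_Tg_Dg s hs hnt ⟨h, hfix⟩
  have hkk' : h = Tg s hs a' b' * Dg s hs u := hkk
  refine ⟨a', b', ?_⟩
  rw [hkk', mul_assoc, Dg_mul_Tg, ← mul_assoc, ← mul_assoc, Tg_mul, Tg_mul] at hc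
  obtain ⟨e1, e2⟩ := Tg_inj s hs (mul_right_cancel hc)
  have hu : u = 1 := by
    by_cases ha : a = 0
    · have hb : b ≠ 0 := fun hb => hab ⟨ha, hb⟩
      rw [ha] at e2
      have : ((u : F) ^ 2 * s u - 1) * b = 0 := by
        have h0 : s (0 : F) = 0 := map_zero s
        rw [h0] at e2
        linear_combination e2
      rcases mul_eq_zero.1 this with h' | h'
      · exact Units.ext (sq_mul_s_eq_one s hs (sub_eq_zero.1 h'))
      · exact absurd h' hb
    · have : (s (u : F) - 1) * a = 0 := by linear_combination e1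
      rcases mul_eq_zero.1 this with h' | h'
      · apply Units.ext
        apply s.injective
        rw [Units.val_one, map_one]
        exact sub_eq_zero.1 h'
      · exact absurd h' ha
  rw [hkk', hu, Dg_one, mul_one]

include hs in
lemma centralizer_Dg (hnt : ∃ y : F, s y ≠ y ^ 2) {t : Fˣ} (ht : t ≠ 1) {h : G s}
    (hc : h * Dg s hs t = Dg s hs t * h) : ∃ u, h = Dg s hs u := by
  have hfixset : ∀ p : Ov s, Dg s hs t • p = p → p = oinf s ∨ p = opt s 0 0 := by
    intro p hp
    rcases Ov_cases s p with h' | ⟨x, y, h'⟩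
    · exact Or.inl h'
    · right
      rw [h'] at hp ⊢
      by_contra hne
      apply ht
      apply Dg_fix_third s hs (x := x) (y := y) _ hp
      rintro ⟨rfl, rfl⟩
      exact hne rfl
  have h1 : Dg s hs t • (h • oinf s) = h • oinf s := by
    rw [← mul_smul, ← hc, mul_smul, Dg_smul_oinf]
  have h2 : Dg s hs t • (h • opt s 0 0) = h • opt s 0 0 := by
    rw [← mul_smul, ← hc, mul_smul, Dg_smul_opt00]
  have hne : h • oinf s ≠ h • opt s 0 0 := by
    intro he
    exact (opt_ne_oinf s 0 0) (MulAction.injective h he).symm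
  rcases hfixset _ h1 with k1 | k1
  · rcases hfixset _ h2 with k2 | k2
    · exact absurd (k1.trans k2.symm) hne
    · exact eq_Dg_of_fix s hs hnt k1 k2
  · rcases hfixset _ h2 with k2 | k2
    · exfalso
      have f1 : (Wg s hs * h) • oinf s = oinf s := by
        rw [mul_smul, k1, Wg_smul_opt00]
      have f2 : (Wg s hs * h) • opt s 0 0 = opt s 0 0 := by
        rw [mul_smul, k2, Wg_smul_oinf]
      obtain ⟨u, hu⟩ := eq_Dg_of_fix s hs hnt f1 f2
      have hh : h = Wg s hs * Dg s hs u := by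
        rw [← hu, ← mul_assoc, Wg_mul_Wg, one_mul]
      rw [hh] at hc
      have e1 : Dg s hs t * Wg s hs = Wg s hs * Dg s hs t⁻¹ := by
        have := Wg_mul_Dg s hs t⁻¹
        rw [inv_inv] at this
        exact this.symm
      rw [mul_assoc, ← Dg_mul, ← mul_assoc, e1, mul_assoc, ← Dg_mul] at hc
      have e2 := Dg_injective s hs (mul_left_cancel hc)
      have e3 : t * t = 1 := by
        have : u * t * u⁻¹ = t⁻¹ * u * u⁻¹ := by rw [e2]
        rw [mul_comm u t, mul_assoc, mul_inv_cancel, mul_one, mul_assoc, mul_inv_cancel,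
          mul_one] at this
        calc t * t = t⁻¹ * t := by rw [← this]
          _ = 1 := inv_mul_cancel t
      apply ht
      apply Units.ext
      rw [Units.val_one]
      apply sq_eq_one_char_two
      have := congrArg Units.val e3
      rw [sq]
      simpa using this
    · exact absurd (k1.trans k2.symm) hne

end cent

section fpf
variable {F : Type*} [Field F] [CharP F 2] [Finite F] (s : F →+* F)
  (hs : ∀ x, s (s x) = x ^ 2)

include hs in
/-- a nontrivial `p`-subgroup, `p ∣ q - 1` odd, fixes exactly two points. -/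
lemma two_fixed_of_pgroup (hnt : ∃ y : F, s y ≠ y ^ 2) {p : ℕ} [hp : Fact p.Prime] (hp2 : p ≠ 2)
    (hdvd : p ∣ Nat.card F - 1) (H : Subgroup (G s)) (hH : IsPGroup p H) (hne : Nontrivial H) :
    ∃ a b : Ov s, a ≠ b ∧ MulAction.fixedPoints H (Ov s) = {a, b} := by
  have hq1 : 1 ≤ Nat.card F := Nat.card_pos
  have hmod : Nat.card (Ov s) ≡ 2 [MOD p] := by
    rw [Nat.card_coe_set_eq, ncard_Ov]
    have h1 : Nat.card F ≡ 1 [MOD p] := ((Nat.modEq_iff_dvd' hq1).2 hdvd).symm
    have := (h1.pow 2).add_right 1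
    simpa using this
  have hfix := hH.card_modEq_card_fixedPoints (Ov s)
  have hfix2 : Nat.card (MulAction.fixedPoints H (Ov s)) ≡ 2 [MOD p] := hfix.symm.trans hmod
  have hp3 : 3 ≤ p := by
    have := hp.out.two_le
    omega
  have hle : (MulAction.fixedPoints H (Ov s)).ncard ≤ 2 := by
    by_contra hcon
    push Not at hcon
    obtain ⟨a, b, c, ha, hb, hc, hab, hac, hbc⟩ := (Set.two_lt_ncard_iff).1 hcon
    obtain ⟨g, g', hgg'⟩ := hne
    apply hgg'
    have h1 : ∀ g : H, g = 1 := by
      intro g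
      apply Subtype.ext
      exact three_point s hs hnt (g : G s) a b c hab hbc hac (ha g) (hb g) (hc g)
    rw [h1 g, h1 g']
  rw [Nat.card_coe_set_eq] at hfix2
  have h2 : (MulAction.fixedPoints H (Ov s)).ncard = 2 := by
    have hlt : (MulAction.fixedPoints H (Ov s)).ncard < p := by omega
    exact Nat.ModEq.eq_of_lt_of_lt hfix2 hlt (by omega)
  exact Set.ncard_eq_two.1 h2

include hs in
/-- a fixed-point-free element has odd order. -/
lemma odd_order_of_fpf (hnt : ∃ y : F, s y ≠ y ^ 2) {k : ℕ} (hk : Nat.card F = 2 ^ k)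
    {g : G s} (hfpf : ∀ α : Ov s, g • α ≠ α) : ¬ 2 ∣ orderOf g := by
  intro h2
  have hn0 : orderOf g ≠ 0 := (orderOf_pos g).ne'
  have hx2 : orderOf (g ^ (orderOf g / 2)) = 2 := orderOf_pow_orderOf_div hn0 h2
  set x := g ^ (orderOf g / 2) with hx
  have hxx : x ^ 2 = 1 := by rw [← hx2]; exact pow_orderOf_eq_one x
  have hx1 : x ≠ 1 := by
    intro h
    rw [h, orderOf_one] at hx2
    omega
  obtain ⟨y, b, hxy⟩ := exists_conj_Tg_zero s hs hnt hk hxx
  have hb : b ≠ 0 := by
    rintro rfl
    apply hx1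
    rw [hxy, Tg_zero]; group
  have hcomm : x * g = g * x := by
    rw [hx]
    exact ((Commute.refl g).pow_left _).eq
  apply hfpf (y • oinf s)
  have h1 : Tg s hs 0 b = y⁻¹ * x * y := by rw [hxy]; group
  have h3 : Tg s hs 0 b • ((y⁻¹ * g * y) • oinf s) = (y⁻¹ * g * y) • oinf s := by
    rw [← mul_smul, h1]
    have : y⁻¹ * x * y * (y⁻¹ * g * y) = (y⁻¹ * g * y) * (y⁻¹ * x * y) := conj_comm hcomm
    rw [this, mul_smul, ← h1, Tg_smul_oinf]
  have h4 := Tg_fix_only s hs (a := 0) (b := b) (fun h => hb h.2) h3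
  rw [mul_smul, mul_smul, inv_smul_eq_iff] at h4
  exact h4

include hs in
/-- the prime divisors of the order of a fixed-point-free element divide `q² + 1`. -/
lemma prime_dvd_of_fpf (hnt : ∃ y : F, s y ≠ y ^ 2) {k : ℕ} (hk : Nat.card F = 2 ^ k)
    {g : G s} (hfpf : ∀ α : Ov s, g • α ≠ α) {p : ℕ} [hp : Fact p.Prime]
    (hpg : p ∣ orderOf g) : p ≠ 2 ∧ p ∣ Nat.card F ^ 2 + 1 := by
  have hodd := odd_order_of_fpf s hs hnt hk hfpf
  have hp2 : p ≠ 2 := by
    rintro rfl
    exact hodd hpg
  refine ⟨hp2, ?_⟩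
  have hpG : p ∣ Nat.card (G s) := hpg.trans (orderOf_dvd_natCard g)
  rw [card_G s hs hnt] at hpG
  rcases (Nat.Prime.dvd_mul hp.out).1 hpG with h | h
  · exact h
  exfalso
  rcases (Nat.Prime.dvd_mul hp.out).1 h with h | h
  · rw [hk, ← pow_mul] at h
    exact hp2 ((Nat.prime_dvd_prime_iff_eq hp.out Nat.prime_two).1 (hp.out.dvd_of_dvd_pow h))
  · have hn0 : orderOf g ≠ 0 := (orderOf_pos g).ne'
    have hxo : orderOf (g ^ (orderOf g / p)) = p := orderOf_pow_orderOf_div hn0 hpg
    set x := g ^ (orderOf g / p) with hx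
    have hPG : IsPGroup p (Subgroup.zpowers x) :=
      IsPGroup.of_card (n := 1) (by rw [Nat.card_zpowers, hxo, pow_one])
    have hne : Nontrivial (Subgroup.zpowers x) := by
      rw [← Finite.one_lt_card_iff_nontrivial, Nat.card_zpowers, hxo]
      exact hp.out.one_lt
    obtain ⟨a, b, hab, hset⟩ := two_fixed_of_pgroup s hs hnt hp2 h _ hPG hne
    have hmemfix : ∀ c : Ov s, c ∈ MulAction.fixedPoints (Subgroup.zpowers x) (Ov s) →
        g • c ∈ MulAction.fixedPoints (Subgroup.zpowers x) (Ov s) := by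
      intro c hc
      rintro ⟨z, hz⟩
      obtain ⟨j, rfl⟩ := Subgroup.mem_zpowers_iff.1 hz
      have hcomm : x ^ j * g = g * x ^ j := by
        rw [hx]
        exact (((Commute.refl g).pow_left _).zpow_left j).eq
      show (x ^ j) • (g • c) = g • c
      rw [← mul_smul, hcomm, mul_smul]
      congr 1
      exact hc ⟨x ^ j, hz⟩
    have ha : a ∈ MulAction.fixedPoints (Subgroup.zpowers x) (Ov s) := by rw [hset]; simp
    have hb : b ∈ MulAction.fixedPoints (Subgroup.zpowers x) (Ov s) := by rw [hset]; simp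
    have hga : g • a = b := by
      have := hmemfix a ha
      rw [hset] at this
      rcases this with h' | h'
      · exact absurd h' (hfpf a)
      · exact h'
    have hgb : g • b = a := by
      have := hmemfix b hb
      rw [hset] at this
      rcases this with h' | h'
      · exact h'
      · exact absurd h' (hfpf b)
    have hg2 : (g ^ 2) • a = a := by rw [sq, mul_smul, hga, hgb]
    have hg2j : ∀ j : ℕ, ((g ^ 2) ^ j) • a = a := by
      intro j
      induction j with
      | zero => simp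
      | succ j ih => rw [pow_succ, mul_smul, hg2, ih]
    obtain ⟨j, hj⟩ : ∃ j, orderOf g = 2 * j + 1 := by
      have : orderOf g % 2 = 1 := by omega
      exact ⟨orderOf g / 2, by omega⟩
    have : g ^ orderOf g = 1 := pow_orderOf_eq_one g
    rw [hj, pow_succ, pow_mul] at this
    have h5 : ((g ^ 2) ^ j * g) • a = a := by rw [this, one_smul]
    rw [mul_smul, hga] at h5
    apply hab
    have h6 : ((g ^ 2) ^ j) • b = b := by
      have : ((g ^ 2) ^ j) • (g • a) = g • (((g ^ 2) ^ j) • a) := by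
        rw [← mul_smul, ← mul_smul]
        congr 1
        exact (((Commute.refl g).pow_left 2).pow_left j).eq
      rw [hga, hg2j j, hga] at this
      exact this
    rw [← h5, h6]

include hs in
/-- centralizers of fixed-point-free elements are commutative. -/
lemma comm_centralizer_of_fpf (hnt : ∃ y : F, s y ≠ y ^ 2) {k : ℕ} (hk : Nat.card F = 2 ^ k)
    {g : G s} (hg1 : g ≠ 1) (hfpf : ∀ α : Ov s, g • α ≠ α) {h h' : G s}
    (hh : h * g = g * h) (hh' : h' * g = g * h') : h * h' = h' * h := by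
  have hn1 : orderOf g ≠ 1 := by
    intro h
    exact hg1 (orderOf_eq_one_iff.1 h)
  obtain ⟨p, hp, hpg⟩ := Nat.exists_prime_and_dvd hn1
  have : Fact p.Prime := ⟨hp⟩
  obtain ⟨hp2, hdvd⟩ := prime_dvd_of_fpf s hs hnt hk hfpf hpg
  have hn0 : orderOf g ≠ 0 := (orderOf_pos g).ne'
  have hxo : orderOf (g ^ (orderOf g / p)) = p := orderOf_pow_orderOf_div hn0 hpg
  set x := g ^ (orderOf g / p) with hx
  have hxp : x ^ p = 1 := by
    have := pow_orderOf_eq_one x
    rw [hxo] at this
    exact this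
  have hx1 : x ≠ 1 := by
    intro h
    rw [h, orderOf_one] at hxo
    exact hp.one_lt.ne hxo
  apply commute_of_commute_prime s hp2 hdvd hxp hx1
  · rw [hx]; exact ((Commute.pow_right (show Commute h g from hh) _)).eq
  · rw [hx]; exact ((Commute.pow_right (show Commute h' g from hh') _)).eq

include hs in
theorem isCN (hnt : ∃ y : F, s y ≠ y ^ 2) {k : ℕ} (hk : Nat.card F = 2 ^ k) :
    Cfsg.IsCNGroup (G s) := by
  intro g hg1
  by_cases hfix : ∃ α : Ov s, g • α = α
  · obtain ⟨α, hα⟩ := hfix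
    obtain ⟨y, hy⟩ : ∃ y : G s, y • oinf s = α := by
      rcases Ov_cases s α with h | ⟨a, b, h⟩
      · exact ⟨1, by rw [one_smul, h]⟩
      · exact ⟨Tg s hs a b * Wg s hs, by rw [mul_smul, Wg_smul_oinf, Tg_smul_opt00, h]⟩
    have hfix' : (y⁻¹ * g * y) • oinf s = oinf s := by
      rw [mul_smul, mul_smul, hy, hα, ← hy, inv_smul_smul]
    obtain ⟨a, b, t, hkk⟩ := exists_Tg_Dg s hs hnt ⟨_, hfix'⟩
    have hkk' : y⁻¹ * g * y = Tg s hs a b * Dg s hs t := hkk
    by_cases ht : t = 1
    · -- unipotent case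
      rw [ht, Dg_one, mul_one] at hkk'
      have hab : ¬(a = 0 ∧ b = 0) := by
        rintro ⟨rfl, rfl⟩
        rw [Tg_zero] at hkk'
        apply hg1
        have : g = y * (y⁻¹ * g * y) * y⁻¹ := by group
        rw [this, hkk']; group
      apply nilpotent_of_exp_four
      intro h hh
      rw [Subgroup.mem_centralizer_singleton_iff] at hh
      have hc := conj_comm (z := y) hh
      rw [hkk'] at hc
      obtain ⟨a', b', hh'⟩ := centralizer_Tg s hs hnt hab hc
      have : h = y * (y⁻¹ * h * y) * y⁻¹ := by group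
      rw [this, hh']
      rw [conj_pow, Tg_pow_four]; group
    · -- semisimple case
      obtain ⟨x₀, y₀, hxy⟩ := exists_fixed_opt s hs a b ht
      set z := y * Tg s hs x₀ y₀ with hz
      have hz1 : (z⁻¹ * g * z) • oinf s = oinf s := by
        have : z⁻¹ * g * z = (Tg s hs x₀ y₀)⁻¹ * (y⁻¹ * g * y) * Tg s hs x₀ y₀ := by
          rw [hz]; group
        rw [this, hkk', mul_smul, mul_smul, mul_smul, Tg_smul_oinf, Dg_smul_oinf, Tg_smul_oinf,
          inv_smul_eq_iff, Tg_smul_oinf]
      have hz2 : (z⁻¹ * g * z) • opt s 0 0 = opt s 0 0 := by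
        have : z⁻¹ * g * z = (Tg s hs x₀ y₀)⁻¹ * (y⁻¹ * g * y) * Tg s hs x₀ y₀ := by
          rw [hz]; group
        rw [this, hkk', mul_smul, mul_smul, Tg_smul_opt00, hxy, inv_smul_eq_iff, Tg_smul_opt00]
      obtain ⟨t', ht'⟩ := eq_Dg_of_fix s hs hnt hz1 hz2
      have ht'1 : t' ≠ 1 := by
        rintro rfl
        rw [Dg_one] at ht'
        apply hg1
        have : g = z * (z⁻¹ * g * z) * z⁻¹ := by group
        rw [this, ht']; group
      apply nilpotent_of_comm
      intro h hh h' hh'
      rw [Subgroup.mem_centralizer_singleton_iff] at hh hh'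
      have hc := conj_comm (z := z) hh
      have hc' := conj_comm (z := z) hh'
      rw [ht'] at hc hc'
      obtain ⟨u, hu⟩ := centralizer_Dg s hs hnt ht'1 hc
      obtain ⟨u', hu'⟩ := centralizer_Dg s hs hnt ht'1 hc'
      have e1 : h = z * Dg s hs u * z⁻¹ := by rw [← hu]; group
      have e2 : h' = z * Dg s hs u' * z⁻¹ := by rw [← hu']; group
      rw [e1, e2]
      have e3 : Dg s hs u * Dg s hs u' = Dg s hs u' * Dg s hs u := by
        rw [← Dg_mul, ← Dg_mul, mul_comm]
      calc z * Dg s hs u * z⁻¹ * (z * Dg s hs u' * z⁻¹)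
          = z * (Dg s hs u * Dg s hs u') * z⁻¹ := by group
        _ = z * (Dg s hs u' * Dg s hs u) * z⁻¹ := by rw [e3]
        _ = _ := by group
  · push Not at hfix
    apply nilpotent_of_comm
    intro h hh h' hh'
    rw [Subgroup.mem_centralizer_singleton_iff] at hh hh'
    exact comm_centralizer_of_fpf s hs hnt hk hg1 hfix hh hh'

end fpf

end Cfsg.Agent.Lib.Helper6.Sz
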