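import Cfsg.Agent.Lib.Helper6.SzCent
import Cfsg.Agent.Lib.Helper6.Singer

set_option autoImplicit false

/-! # Suzuki groups: elements of odd order, via the action on the natural module -/

namespace Cfsg.Agent.Lib.Helper6.Sz

open Matrix
open scoped Pointwise

section lin
variable {F : Type*} [Field F] (s : F →+* F)

/-- the action on the natural module. -/
noncomputable def linHom : G s →* Module.End F (Fin 4 → F) where
  toFun g := Matrix.toLin' (g : Matrix.SpecialLinearGroup (Fin 4) F).1
  map_one' := by
    show Matrix.toLin' (1 : Matrix (Fin 4) (Fin 4) F) = 1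
    rw [Matrix.toLin'_one]; rfl
  map_mul' a b := by
    show Matrix.toLin' ((a : Matrix.SpecialLinearGroup (Fin 4) F).1 *
      (b : Matrix.SpecialLinearGroup (Fin 4) F).1) = _
    rw [Matrix.toLin'_mul]; rfl

lemma linHom_injective : Function.Injective (linHom s) := by
  intro a b h
  apply Subtype.ext; apply Subtype.ext
  exact Matrix.toLin'.injective h

end lin

section arith

/-- arithmetic: if the odd prime `p` divides `q ^ 2 + 1` then `q` has order `4` modulo `p`. -/
lemma ord_four {p q : ℕ} [hp : Fact p.Prime] (hp2 : p ≠ 2) (hdvd : p ∣ q ^ 2 + 1) :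
    (q : ZMod p) ≠ 0 ∧ ∀ d, 0 < d → d < 4 → (q : ZMod p) ^ d ≠ 1 := by
  have h1 : (q : ZMod p) ^ 2 + 1 = 0 := by
    have := (ZMod.natCast_eq_zero_iff (q ^ 2 + 1) p).2 hdvd
    push_cast at this
    exact this
  have h2 : (2 : ZMod p) ≠ 0 := by
    intro h
    have : ((2 : ℕ) : ZMod p) = 0 := by exact_mod_cast h
    rw [ZMod.natCast_eq_zero_iff] at this
    exact hp2 ((Nat.prime_dvd_prime_iff_eq hp.out Nat.prime_two).1 this)
  have hsq : (q : ZMod p) ^ 2 ≠ 1 := by
    intro h
    apply h2
    linear_combination h1 - h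
  refine ⟨?_, ?_⟩
  · intro h
    rw [h] at h1
    simp at h1
  · intro d hd0 hd4 hd
    interval_cases d
    · apply hsq
      rw [pow_one] at hd
      rw [hd, one_pow]
    · exact hsq hd
    · apply hsq
      have h3 : (q : ZMod p) = -1 := by linear_combination -hd + (q : ZMod p) * h1
      rw [h3]; ring

end arith

section torus0
variable {F : Type*} [Field F] [Finite F] (s : F →+* F)

/-- elements commuting with an element of odd prime order `p ∣ q² + 1` commute with each other. -/
theorem commute_of_commute_prime {p : ℕ} [hp : Fact p.Prime] (hp2 : p ≠ 2)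
    (hdvd : p ∣ Nat.card F ^ 2 + 1) {x : G s} (hx : x ^ p = 1) (hx1 : x ≠ 1) {g h : G s}
    (hg : g * x = x * g) (hh : h * x = x * h) : g * h = h * g := by
  obtain ⟨hq, hord⟩ := ord_four hp2 hdvd
  apply linHom_injective s
  rw [map_mul, map_mul]
  apply Singer.commute_of_commute p (linHom s x) (by rw [← map_pow, hx, map_one]) hq
    (by rw [Module.finrank_fin_fun]; exact hord)
    (fun h1 => hx1 (linHom_injective s (by rw [h1, map_one])))
  · rw [← map_mul, ← map_mul, hg]
  · rw [← map_mul, ← map_mul, hh]

/-- a subgroup centralizing an element of odd prime order `p ∣ q² + 1` is cyclic. -/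
theorem isCyclic_of_centralizes {p : ℕ} [hp : Fact p.Prime] (hp2 : p ≠ 2)
    (hdvd : p ∣ Nat.card F ^ 2 + 1) {x : G s} (hx : x ^ p = 1) (hx1 : x ≠ 1)
    (H : Subgroup (G s)) (hH : ∀ g ∈ H, g * x = x * g) : IsCyclic H := by
  obtain ⟨hq, hord⟩ := ord_four hp2 hdvd
  apply Singer.isCyclic_of_commute p (linHom s x) (by rw [← map_pow, hx, map_one]) hq
    (by rw [Module.finrank_fin_fun]; exact hord)
    (fun h1 => hx1 (linHom_injective s (by rw [h1, map_one])))
    ((linHom s).comp H.subtype)
  · exact (linHom_injective s).comp Subtype.val_injective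
  · intro g
    show linHom s (g : G s) * linHom s x = linHom s x * linHom s (g : G s)
    rw [← map_mul, ← map_mul, hH g g.2]

end torus0

section torus
variable {F : Type*} [Field F] [CharP F 2] [Finite F] (s : F →+* F)
  (hs : ∀ x, s (s x) = x ^ 2)

/-- the diagonal torus as a homomorphism. -/
def DgHom : Fˣ →* G s where
  toFun := Dg s hs
  map_one' := Dg_one s hs
  map_mul' := Dg_mul s hs

lemma isCyclic_range_DgHom : IsCyclic (DgHom s hs).range := by
  have : IsCyclic Fˣ := inferInstance
  exact isCyclic_of_surjective (DgHom s hs).rangeRestrict (DgHom s hs).rangeRestrict_surjective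

include hs in
/-- a subgroup fixing two distinct points is cyclic. -/
theorem isCyclic_of_fix_two (hnt : ∃ y : F, s y ≠ y ^ 2) {a b : Ov s} (hab : a ≠ b)
    (H : Subgroup (G s)) (hHa : ∀ g ∈ H, g • a = a) (hHb : ∀ g ∈ H, g • b = b) : IsCyclic H := by
  obtain ⟨y, hy1, hy2⟩ := exists_smul_pair s hs hab
  have hmem : ∀ g : H, y⁻¹ * (g : G s) * y ∈ (DgHom s hs).range := by
    intro g
    have k1 : (y⁻¹ * (g : G s) * y) • oinf s = oinf s := by
      rw [mul_smul, mul_smul, hy1, hHa g g.2, ← hy1, inv_smul_smul]
    have k2 : (y⁻¹ * (g : G s) * y) • opt s 0 0 = opt s 0 0 := by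
      rw [mul_smul, mul_smul, hy2, hHb g g.2, ← hy2, inv_smul_smul]
    obtain ⟨t, ht⟩ := eq_Dg_of_fix s hs hnt k1 k2
    exact ⟨t, ht.symm⟩
  let ψ : H →* (DgHom s hs).range :=
    { toFun := fun g => ⟨y⁻¹ * (g : G s) * y, hmem g⟩
      map_one' := by apply Subtype.ext; simp
      map_mul' := by
        intro g h
        apply Subtype.ext
        show y⁻¹ * ((g : G s) * (h : G s)) * y = (y⁻¹ * (g : G s) * y) * (y⁻¹ * (h : G s) * y)
        group }
  have hψ : Function.Injective ψ := by
    intro g h hgh
    have := congrArg Subtype.val hgh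
    exact Subtype.ext (mul_left_cancel (mul_right_cancel this))
  have := isCyclic_range_DgHom s hs
  exact isCyclic_of_injective ψ hψ

end torus

end Cfsg.Agent.Lib.Helper6.Sz
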