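import Cfsg.Agent.Lib.Helper6.SzCN
import Cfsg.Agent.Lib.Helper6.SzTorus

set_option autoImplicit false

/-! # Subfield embeddings of Suzuki groups -/

namespace Cfsg.Agent.Lib.Helper6.Sz

open Matrix
open scoped Pointwise

section wact
variable {F : Type*} [Field F] [CharP F 2] (s : F →+* F) (hs : ∀ x, s (s x) = x ^ 2)

include hs in
lemma W_smul_pt {x y : F} (hz : ff s x y ≠ 0) :
    (W : Matrix.SpecialLinearGroup (Fin 4) F) • pt s x y =
      pt s (y / ff s x y) (x / ff s x y) :=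
  smul_mk_eq _ _ _ (Wm_Pv s hs hz)

variable [Finite F]

lemma Wg_smul_opt {x y : F} (hz : ff s x y ≠ 0) :
    Wg s hs • opt s x y = opt s (y / ff s x y) (x / ff s x y) :=
  Subtype.ext (W_smul_pt s hs hz)

end wact

section embed
variable {K : Type*} {F : Type*} [Field K] [Field F]
  (sK : K →+* K) (sF : F →+* F) (ι : K →+* F) (hι : ∀ x, sF (ι x) = ι (sK x))

include hι in
lemma map_Tm (a b : K) : (Tm sK a b).map ι = Tm sF (ι a) (ι b) := by
  ext i j
  fin_cases i <;> fin_cases j <;> simp [Tm, ff, hι]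

include hι in
lemma map_Dm (t : K) : (Dm sK t).map ι = Dm sF (ι t) := by
  ext i j
  fin_cases i <;> fin_cases j <;> simp [Dm, hι]

lemma map_Wm : (Wm : Matrix (Fin 4) (Fin 4) K).map ι = Wm := by
  ext i j
  fin_cases i <;> fin_cases j <;> simp [Wm]

include hι in
lemma map_T (a b : K) :
    Matrix.SpecialLinearGroup.map ι (T sK a b) = T sF (ι a) (ι b) := by
  apply Subtype.ext
  exact map_Tm sK sF ι hι a b

include hι in
lemma map_D (t : Kˣ) :
    Matrix.SpecialLinearGroup.map ι (D sK t) = D sF (Units.map (ι : K →* F) t) := by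
  apply Subtype.ext
  exact map_Dm sK sF ι hι t

lemma map_W : Matrix.SpecialLinearGroup.map ι (W : Matrix.SpecialLinearGroup (Fin 4) K) = W := by
  apply Subtype.ext
  exact map_Wm ι

lemma map_SL_injective :
    Function.Injective (Matrix.SpecialLinearGroup.map (n := Fin 4) ι) := by
  intro g h hgh
  apply Subtype.ext
  ext i j
  have := congrArg (fun x : Matrix.SpecialLinearGroup (Fin 4) F => x.1 i j) hgh
  exact ι.injective this

variable [CharP K 2] [CharP F 2] [Finite K] [Finite F]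
  (hsK : ∀ x, sK (sK x) = x ^ 2) (hsF : ∀ x, sF (sF x) = x ^ 2)
  (hntK : ∃ y : K, sK y ≠ y ^ 2)

include hι hsK hsF hntK in
lemma map_mem_G {g : Matrix.SpecialLinearGroup (Fin 4) K} (hg : g ∈ G sK) :
    Matrix.SpecialLinearGroup.map ι g ∈ G sF := by
  rcases exists_decomp sK hsK hntK hg with ⟨a, b, t, rfl⟩ | ⟨a, b, a', b', t, rfl⟩
  · rw [map_mul, map_T sK sF ι hι, map_D sK sF ι hι]
    exact (G sF).mul_mem (T_mem sF hsF _ _) (D_mem sF hsF _)
  · rw [map_mul, map_mul, map_mul, map_T sK sF ι hι, map_T sK sF ι hι, map_D sK sF ι hι, map_W]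
    exact (G sF).mul_mem ((G sF).mul_mem (T_mem sF hsF _ _) (W_mem sF hsF))
      ((G sF).mul_mem (T_mem sF hsF _ _) (D_mem sF hsF _))

/-- the embedding of Suzuki groups induced by a field embedding. -/
noncomputable def Phi : G sK →* G sF :=
  ((Matrix.SpecialLinearGroup.map ι).comp (G sK).subtype).codRestrict (G sF)
    (fun g => map_mem_G sK sF ι hι hsK hsF hntK g.2)

lemma Phi_injective : Function.Injective (Phi sK sF ι hι hsK hsF hntK) := by
  intro g h hgh
  have h1 := congrArg Subtype.val hgh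
  exact Subtype.ext (map_SL_injective ι h1)

lemma Phi_Tg (a b : K) :
    Phi sK sF ι hι hsK hsF hntK (Tg sK hsK a b) = Tg sF hsF (ι a) (ι b) :=
  Subtype.ext (map_T sK sF ι hι a b)

lemma Phi_Dg (t : Kˣ) :
    Phi sK sF ι hι hsK hsF hntK (Dg sK hsK t) = Dg sF hsF (Units.map (ι : K →* F) t) :=
  Subtype.ext (map_D sK sF ι hι t)

lemma Phi_Wg : Phi sK sF ι hι hsK hsF hntK (Wg sK hsK) = Wg sF hsF :=
  Subtype.ext (map_W ι)

include hntK in
/-- two homomorphisms agreeing on the generators agree. -/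
lemma hom_ext_gens {H : Type*} [Group H] (f g : G sK →* H)
    (hT : ∀ a b, f (Tg sK hsK a b) = g (Tg sK hsK a b))
    (hD : ∀ t, f (Dg sK hsK t) = g (Dg sK hsK t))
    (hW : f (Wg sK hsK) = g (Wg sK hsK)) : f = g := by
  have h := eq_top_of_mem sK hsK hntK (f.eqLocus g) hT hD
    ⟨Wg sK hsK, hW, by rw [Wg_smul_oinf]; exact opt_ne_oinf sK 0 0⟩
  refine MonoidHom.ext fun x => ?_
  have hx : x ∈ f.eqLocus g := by rw [h]; trivial
  exact hx

end embed

end Cfsg.Agent.Lib.Helper6.Sz
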