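import Cfsg.Agent.Lib.Helper6.SzCN

set_option autoImplicit false

/-! # Suzuki groups: counting the fixed-point-free elements -/

namespace Cfsg.Agent.Lib.Helper6.Sz

open scoped Pointwise

section count
variable {F : Type*} [Field F] [CharP F 2] [Finite F] (s : F →+* F)
  (hs : ∀ x, s (s x) = x ^ 2)

/-- fixed-point-free elements. -/
def IsFpf (g : G s) : Prop := ∀ α : Ov s, g • α ≠ α

include hs in
lemma card_stab (hnt : ∃ y : F, s y ≠ y ^ 2) (α : Ov s) :
    Nat.card (MulAction.stabilizer (G s) α) = Nat.card F ^ 2 * (Nat.card F - 1) := by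
  have hprim : MulAction.IsPreprimitive (G s) (Ov s) :=
    MulAction.isPreprimitive_of_is_two_pretransitive (is_two_trans s hs)
  have htr : MulAction.IsPretransitive (G s) (Ov s) := hprim.toIsPretransitive
  have h1 := Subgroup.index_mul_card (MulAction.stabilizer (G s) α)
  rw [MulAction.index_stabilizer, MulAction.orbit_eq_univ, Set.ncard_univ,
    Nat.card_coe_set_eq, ncard_Ov, card_G s hs hnt] at h1
  exact Nat.eq_of_mul_eq_mul_left (by positivity) h1

include hs in
lemma card_stab_two (hnt : ∃ y : F, s y ≠ y ^ 2) {α β : Ov s} (h : α ≠ β) :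
    Nat.card ↥(MulAction.stabilizer (G s) α ⊓ MulAction.stabilizer (G s) β) =
      Nat.card F - 1 := by
  obtain ⟨y, hy1, hy2⟩ := exists_smul_pair s hs h
  rw [← Nat.card_units F]
  symm
  apply Nat.card_congr
  refine Equiv.ofBijective (fun t : Fˣ =>
    (⟨y * Dg s hs t * y⁻¹, ?_, ?_⟩ : ↥(MulAction.stabilizer (G s) α ⊓
      MulAction.stabilizer (G s) β))) ⟨?_, ?_⟩
  · show (y * Dg s hs t * y⁻¹) • α = α
    rw [mul_smul, mul_smul, ← hy1, inv_smul_smul, Dg_smul_oinf]
  · show (y * Dg s hs t * y⁻¹) • β = β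
    rw [mul_smul, mul_smul, ← hy2, inv_smul_smul, Dg_smul_opt00]
  · intro t t' htt
    have := congrArg Subtype.val htt
    exact Dg_injective s hs (mul_left_cancel (mul_right_cancel this))
  · rintro ⟨g, hg1, hg2⟩
    have k1 : (y⁻¹ * g * y) • oinf s = oinf s := by
      rw [mul_smul, mul_smul, hy1, MulAction.mem_stabilizer_iff.1 hg1, ← hy1, inv_smul_smul]
    have k2 : (y⁻¹ * g * y) • opt s 0 0 = opt s 0 0 := by
      rw [mul_smul, mul_smul, hy2, MulAction.mem_stabilizer_iff.1 hg2, ← hy2, inv_smul_smul]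
    obtain ⟨t, ht⟩ := eq_Dg_of_fix s hs hnt k1 k2
    refine ⟨t, Subtype.ext ?_⟩
    show y * Dg s hs t * y⁻¹ = g
    rw [← ht]; group

open Classical in
include hs in
theorem card_fpf (hnt : ∃ y : F, s y ≠ y ^ 2) :
    2 * Nat.card {g : G s // IsFpf s g} = Nat.card F ^ 3 * (Nat.card F - 1) ^ 2 := by
  haveI := Fintype.ofFinite (G s)
  haveI := Fintype.ofFinite (Ov s)
  set q := Nat.card F with hq
  have hq1 : 1 ≤ q := Nat.card_pos
  -- number of fixed points
  let fx : G s → Finset (Ov s) := fun g => Finset.univ.filter (fun α => g • α = α)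
  have hfx : ∀ g α, α ∈ fx g ↔ g • α = α := by
    intro g α; simp [fx]
  have hcardOv : Fintype.card (Ov s) = q ^ 2 + 1 := by
    rw [← Nat.card_eq_fintype_card, Nat.card_coe_set_eq, ncard_Ov]
  have hcardG : Fintype.card (G s) = (q ^ 2 + 1) * (q ^ 2 * (q - 1)) := by
    rw [← Nat.card_eq_fintype_card, card_G s hs hnt]
  -- first double count
  have S1 : ∑ g : G s, (fx g).card = (q ^ 2 + 1) * (q ^ 2 * (q - 1)) := by
    have := Finset.sum_card_bipartiteAbove_eq_sum_card_bipartiteBelow
      (s := (Finset.univ : Finset (G s))) (t := (Finset.univ : Finset (Ov s)))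
      (fun g α => g • α = α)
    have e1 : ∀ g : G s, Finset.bipartiteAbove (fun g α => g • α = α)
        (Finset.univ : Finset (Ov s)) g = fx g := fun g => rfl
    simp only [e1] at this
    rw [this]
    have e2 : ∀ α : Ov s, (Finset.bipartiteBelow (fun (g : G s) (α : Ov s) => g • α = α)
        (Finset.univ : Finset (G s)) α).card = q ^ 2 * (q - 1) := by
      intro α
      rw [← card_stab s hs hnt α, Nat.card_eq_fintype_card, Fintype.card_subtype]
      rfl
    simp only [e2]
    rw [Finset.sum_const, Finset.card_univ, hcardOv, smul_eq_mul]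
  -- second double count
  have S2 : ∑ g : G s, (fx g).offDiag.card = ((q ^ 2 + 1) * (q ^ 2 + 1) - (q ^ 2 + 1)) * (q - 1) := by
    have := Finset.sum_card_bipartiteAbove_eq_sum_card_bipartiteBelow
      (s := (Finset.univ : Finset (G s))) (t := (Finset.univ : Finset (Ov s)).offDiag)
      (fun g p => g • p.1 = p.1 ∧ g • p.2 = p.2)
    have e1 : ∀ g : G s, Finset.bipartiteAbove (fun (g : G s) (p : Ov s × Ov s) =>
        g • p.1 = p.1 ∧ g • p.2 = p.2) (Finset.univ : Finset (Ov s)).offDiag g =
        (fx g).offDiag := by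
      intro g
      ext ⟨a, b⟩
      simp only [Finset.bipartiteAbove, Finset.mem_filter, Finset.mem_offDiag, Finset.mem_univ,
        true_and, hfx]
      tauto
    simp only [e1] at this
    rw [this]
    have e2 : ∀ p ∈ (Finset.univ : Finset (Ov s)).offDiag,
        (Finset.bipartiteBelow (fun (g : G s) (p : Ov s × Ov s) =>
          g • p.1 = p.1 ∧ g • p.2 = p.2) (Finset.univ : Finset (G s)) p).card = q - 1 := by
      rintro ⟨a, b⟩ hp
      have hab : a ≠ b := by
        simp only [Finset.mem_offDiag, Finset.mem_univ, true_and] at hp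
        exact hp
      rw [← card_stab_two s hs hnt hab, Nat.card_eq_fintype_card, Fintype.card_subtype]
      congr 1
      ext g
      simp [Finset.bipartiteBelow, Subgroup.mem_inf, MulAction.mem_stabilizer_iff]
    rw [Finset.sum_congr rfl e2, Finset.sum_const, Finset.offDiag_card, Finset.card_univ,
      hcardOv, smul_eq_mul]
  -- pointwise identity
  have hle2 : ∀ g : G s, g ≠ 1 → (fx g).card ≤ 2 := by
    intro g hg
    by_contra hcon
    push Not at hcon
    obtain ⟨a, b, c, ha, hb, hc, hab, hac, hbc⟩ := Finset.two_lt_card_iff.1 hcon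
    exact hg (three_point s hs hnt g a b c hab hbc hac ((hfx g a).1 ha) ((hfx g b).1 hb)
      ((hfx g c).1 hc))
  have hone : (fx (1 : G s)).card = q ^ 2 + 1 := by
    have : fx (1 : G s) = Finset.univ := by
      ext α; simp [fx]
    rw [this, Finset.card_univ, hcardOv]
  have hpt : ∀ g : G s, g ≠ 1 →
      ((if (fx g).card = 0 then 2 else 0 : ℤ)) + 2 * ((fx g).card : ℤ) =
        2 + ((fx g).offDiag.card : ℤ) := by
    intro g hg
    have h2 := hle2 g hg
    rw [Finset.offDiag_card]
    interval_cases h : (fx g).card <;> simp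
  -- fpf count
  have hfpf : Nat.card {g : G s // IsFpf s g} =
      ((Finset.univ : Finset (G s)).erase 1).sum (fun g => if (fx g).card = 0 then 1 else 0) := by
    rw [Nat.card_eq_fintype_card, Fintype.card_subtype, Finset.card_filter]
    rw [← Finset.add_sum_erase _ _ (Finset.mem_univ (1 : G s))]
    have h1 : ¬ IsFpf s (1 : G s) := fun h => h (oinf s) (one_smul _ _)
    rw [if_neg h1, zero_add]
    apply Finset.sum_congr rfl
    intro g _
    have : IsFpf s g ↔ (fx g).card = 0 := by
      rw [Finset.card_eq_zero, Finset.eq_empty_iff_forall_notMem]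
      constructor
      · intro h α hα
        exact h α ((hfx g α).1 hα)
      · intro h α hα
        exact h α ((hfx g α).2 hα)
    simp only [this]
  have hsum := Finset.sum_congr (s₁ := (Finset.univ : Finset (G s)).erase 1) rfl
    (fun g hg => hpt g (Finset.ne_of_mem_erase hg))
  rw [Finset.sum_add_distrib, Finset.sum_add_distrib, ← Finset.mul_sum] at hsum
  have h1 : ((Finset.univ : Finset (G s)).erase 1).sum (fun g => ((fx g).card : ℤ)) =
      ((q ^ 2 + 1) * (q ^ 2 * (q - 1)) : ℕ) - ((q ^ 2 + 1 : ℕ) : ℤ) := by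
    have := Finset.add_sum_erase (Finset.univ : Finset (G s)) (fun g => ((fx g).card : ℤ))
      (Finset.mem_univ 1)
    rw [hone] at this
    rw [← S1]
    push_cast at this ⊢
    linarith
  have h2 : ((Finset.univ : Finset (G s)).erase 1).sum (fun g => ((fx g).offDiag.card : ℤ)) =
      ((((q ^ 2 + 1) * (q ^ 2 + 1) - (q ^ 2 + 1)) * (q - 1) : ℕ) : ℤ) -
        (((q ^ 2 + 1) * (q ^ 2 + 1) - (q ^ 2 + 1) : ℕ) : ℤ) := by
    have := Finset.add_sum_erase (Finset.univ : Finset (G s))
      (fun g => ((fx g).offDiag.card : ℤ)) (Finset.mem_univ 1)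
    rw [Finset.offDiag_card, hone] at this
    rw [← S2]
    push_cast at this ⊢
    linarith
  have h3 : ((Finset.univ : Finset (G s)).erase 1).sum
      (fun g => (if (fx g).card = 0 then 2 else 0 : ℤ)) =
      2 * (Nat.card {g : G s // IsFpf s g} : ℤ) := by
    rw [hfpf]
    push_cast
    rw [Finset.mul_sum]
    apply Finset.sum_congr rfl
    intro g _
    split_ifs <;> simp
  have h4 : ((Finset.univ : Finset (G s)).erase 1).sum (fun _ => (2 : ℤ)) =
      2 * ((((q ^ 2 + 1) * (q ^ 2 * (q - 1)) : ℕ) : ℤ) - 1) := by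
    rw [Finset.sum_const, Finset.card_erase_of_mem (Finset.mem_univ _), Finset.card_univ, hcardG]
    have : 1 ≤ (q ^ 2 + 1) * (q ^ 2 * (q - 1)) := by
      rw [← hcardG]; exact Fintype.card_pos
    rw [nsmul_eq_mul, Nat.cast_sub this]
    push_cast
    ring
  rw [h1, h2, h3, h4] at hsum
  have hsub : (((q - 1 : ℕ)) : ℤ) = (q : ℤ) - 1 := by
    rw [Nat.cast_sub hq1]; simp
  have hsub2 : ((((q ^ 2 + 1) * (q ^ 2 + 1) - (q ^ 2 + 1) : ℕ)) : ℤ) =
      ((q : ℤ) ^ 2 + 1) * ((q : ℤ) ^ 2 + 1) - ((q : ℤ) ^ 2 + 1) := by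
    rw [Nat.cast_sub (Nat.le_mul_self _)]
    push_cast; ring
  have goal : (2 * (Nat.card {g : G s // IsFpf s g} : ℤ)) = (q : ℤ) ^ 3 * ((q : ℤ) - 1) ^ 2 := by
    push_cast at hsum
    rw [hsub2, hsub] at hsum
    linear_combination hsum
  have : ((2 * Nat.card {g : G s // IsFpf s g} : ℕ) : ℤ) = ((q ^ 3 * (q - 1) ^ 2 : ℕ) : ℤ) := by
    push_cast
    rw [hsub]
    exact goal
  exact_mod_cast this

end count

end Cfsg.Agent.Lib.Helper6.Sz
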