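import Cfsg.Agent.Lib.Helper6.SzMat

set_option autoImplicit false

/-! # The stabilizer of the Suzuki–Tits ovoid -/

namespace Cfsg.Agent.Lib.Helper6.Sz

open Matrix
open scoped Pointwise

section onO
variable {F : Type*} [Field F] (s : F →+* F)

/-- `v` spans a point of the ovoid. -/
def OnO (v : Fin 4 → F) : Prop := ∃ c : F, c ≠ 0 ∧ (v = c • e0 ∨ ∃ x y, v = c • Pv s x y)

/-- the ovoid, as in the statement. -/
def Ov : Set (Projectivization F (Fin 4 → F)) :=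
  {p | ∃ (v : Fin 4 → F) (hv : v ≠ 0), p = Projectivization.mk F v hv ∧
    (v = e0 ∨ ∃ x y : F, v = Pv s x y)}

variable {s}

lemma OnO.ne_zero {v : Fin 4 → F} (h : OnO s v) : v ≠ 0 := by
  obtain ⟨c, hc, h | ⟨x, y, h⟩⟩ := h
  · rw [h]; exact smul_ne_zero hc e0_ne_zero
  · rw [h]; exact smul_ne_zero hc (Pv_ne_zero s x y)

lemma OnO.smul {v : Fin 4 → F} (h : OnO s v) {c : F} (hc : c ≠ 0) : OnO s (c • v) := by
  obtain ⟨c', hc', h | ⟨x, y, h⟩⟩ := h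
  · exact ⟨c * c', mul_ne_zero hc hc', Or.inl (by rw [h, smul_smul])⟩
  · exact ⟨c * c', mul_ne_zero hc hc', Or.inr ⟨x, y, by rw [h, smul_smul]⟩⟩

lemma onO_e0 : OnO s (e0 : Fin 4 → F) := ⟨1, one_ne_zero, Or.inl (by simp)⟩

lemma onO_Pv (x y : F) : OnO s (Pv s x y) := ⟨1, one_ne_zero, Or.inr ⟨x, y, by simp⟩⟩

variable (s)

lemma mk_mem_Ov_iff {v : Fin 4 → F} (hv : v ≠ 0) :
    Projectivization.mk F v hv ∈ Ov s ↔ OnO s v := by
  constructor
  · rintro ⟨w, hw, heq, hcase⟩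
    rw [Projectivization.mk_eq_mk_iff] at heq
    obtain ⟨a, ha⟩ := heq
    refine ⟨(a : F), a.ne_zero, ?_⟩
    rcases hcase with h | ⟨x, y, h⟩
    · left; rw [← ha, h]; rfl
    · right; exact ⟨x, y, by rw [← ha, h]; rfl⟩
  · rintro ⟨c, hc, h | ⟨x, y, h⟩⟩
    · refine ⟨e0, e0_ne_zero, ?_, Or.inl rfl⟩
      rw [Projectivization.mk_eq_mk_iff']
      exact ⟨c, h.symm⟩
    · refine ⟨Pv s x y, Pv_ne_zero s x y, ?_, Or.inr ⟨x, y, rfl⟩⟩
      rw [Projectivization.mk_eq_mk_iff']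
      exact ⟨c, h.symm⟩

lemma mem_Ov_iff (p : Projectivization F (Fin 4 → F)) : p ∈ Ov s ↔ OnO s p.rep := by
  conv_lhs => rw [← Projectivization.mk_rep p]
  exact mk_mem_Ov_iff s p.rep_nonzero

variable {s}

lemma OnO.of_last_zero {v : Fin 4 → F} (h : OnO s v) (h3 : v 3 = 0) :
    ∃ c : F, c ≠ 0 ∧ v = c • e0 := by
  obtain ⟨c, hc, h | ⟨x, y, h⟩⟩ := h
  · exact ⟨c, hc, h⟩
  · exfalso
    rw [h] at h3
    simp at h3
    exact hc h3

lemma OnO.of_last_ne_zero {v : Fin 4 → F} (h : OnO s v) (h3 : v 3 ≠ 0) :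
    v = v 3 • Pv s (v 2 / v 3) (v 1 / v 3) := by
  obtain ⟨c, hc, h | ⟨x, y, h⟩⟩ := h
  · exfalso; apply h3; rw [h]; simp
  · have e3 : v 3 = c := by rw [h]; simp
    have e2 : v 2 = c * x := by rw [h]; simp
    have e1 : v 1 = c * y := by rw [h]; simp
    rw [e3, e2, e1, mul_div_cancel_left₀ _ hc, mul_div_cancel_left₀ _ hc]
    exact h

end onO

section stab
variable {F : Type*} [Field F] [CharP F 2] (s : F →+* F) (hs : ∀ x, s (s x) = x ^ 2)

include hs in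
lemma OnO.of_first_zero {v : Fin 4 → F} (h : OnO s v) (h0 : v 0 = 0) :
    v 1 = 0 ∧ v 2 = 0 := by
  obtain ⟨c, hc, h | ⟨x, y, h⟩⟩ := h
  · exfalso; rw [h] at h0; simp at h0; exact hc h0
  · rw [h] at h0
    simp at h0
    rcases h0 with h0 | h0
    · exact absurd h0 hc
    · obtain ⟨hx, hy⟩ := tangent s hs h0
      rw [h, hx, hy]; simp

include hs in
lemma OnO.Tm {v : Fin 4 → F} (h : OnO s v) (a b : F) : OnO s (Tm s a b *ᵥ v) := by
  obtain ⟨c, hc, h | ⟨x, y, h⟩⟩ := h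
  · rw [h, Matrix.mulVec_smul, Tm_e0]; exact onO_e0.smul hc
  · rw [h, Matrix.mulVec_smul, Tm_Pv s hs]; exact (onO_Pv _ _).smul hc

include hs in
lemma OnO.Dm {v : Fin 4 → F} (h : OnO s v) {t : F} (ht : t ≠ 0) : OnO s (Dm s t *ᵥ v) := by
  have hst : s t ≠ 0 := by simpa using ht
  obtain ⟨c, hc, h | ⟨x, y, h⟩⟩ := h
  · rw [h, Matrix.mulVec_smul, Dm_e0]
    exact (onO_e0.smul (mul_ne_zero ht hst)).smul hc
  · rw [h, Matrix.mulVec_smul, Dm_Pv s hs ht]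
    exact ((onO_Pv _ _).smul (inv_ne_zero (mul_ne_zero ht hst))).smul hc

include hs in
lemma OnO.Wm {v : Fin 4 → F} (h : OnO s v) : OnO s ((Wm : Matrix (Fin 4) (Fin 4) F) *ᵥ v) := by
  obtain ⟨c, hc, h | ⟨x, y, h⟩⟩ := h
  · rw [h, Matrix.mulVec_smul, Wm_e0 s]; exact (onO_Pv _ _).smul hc
  · rw [h, Matrix.mulVec_smul]
    by_cases hz : ff s x y = 0
    · obtain ⟨hx, hy⟩ := tangent s hs hz
      rw [hx, hy, Wm_Pv00]; exact onO_e0.smul hc
    · rw [Wm_Pv s hs hz]; exact ((onO_Pv _ _).smul hz).smul hc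

/-- the stabilizer of the ovoid in `SL₄(F)`. -/
abbrev G : Subgroup (Matrix.SpecialLinearGroup (Fin 4) F) :=
  MulAction.stabilizer (Matrix.SpecialLinearGroup (Fin 4) F) (Ov s)

lemma smul_mk (g : Matrix.SpecialLinearGroup (Fin 4) F) {v : Fin 4 → F} (hv : v ≠ 0) :
    ∃ hv' : g.1 *ᵥ v ≠ 0, g • Projectivization.mk F v hv = Projectivization.mk F (g.1 *ᵥ v) hv' := by
  have h := Projectivization.smul_mk (K := F) g hv
  exact ⟨_, h⟩

lemma inv_mulVec_mulVec (g : Matrix.SpecialLinearGroup (Fin 4) F) (v : Fin 4 → F) :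
    (g⁻¹).1 *ᵥ (g.1 *ᵥ v) = v := by
  rw [Matrix.mulVec_mulVec, ← Matrix.SpecialLinearGroup.coe_mul, inv_mul_cancel,
    Matrix.SpecialLinearGroup.coe_one, Matrix.one_mulVec]

lemma mulVec_inv_mulVec (g : Matrix.SpecialLinearGroup (Fin 4) F) (v : Fin 4 → F) :
    g.1 *ᵥ ((g⁻¹).1 *ᵥ v) = v := by
  rw [Matrix.mulVec_mulVec, ← Matrix.SpecialLinearGroup.coe_mul, mul_inv_cancel,
    Matrix.SpecialLinearGroup.coe_one, Matrix.one_mulVec]

lemma mem_G_iff [Finite F] (g : Matrix.SpecialLinearGroup (Fin 4) F) :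
    g ∈ G s ↔ ∀ v, OnO s v → OnO s (g.1 *ᵥ v) := by
  constructor
  · intro hg v hv
    have hmem : Projectivization.mk F v hv.ne_zero ∈ Ov s := (mk_mem_Ov_iff s _).2 hv
    obtain ⟨hv', e⟩ := smul_mk g hv.ne_zero
    have h2 : g • Projectivization.mk F v hv.ne_zero ∈ g • Ov s := Set.smul_mem_smul_set hmem
    rw [MulAction.mem_stabilizer_iff.1 hg, e] at h2
    exact (mk_mem_Ov_iff s _).1 h2
  · intro h
    rw [MulAction.mem_stabilizer_set_iff_smul_set_subset (Set.toFinite _)]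
    rintro _ ⟨p, hp, rfl⟩
    have hp' := (mem_Ov_iff s p).1 hp
    have e1 : p = Projectivization.mk F p.rep p.rep_nonzero := (Projectivization.mk_rep p).symm
    obtain ⟨hv', e⟩ := smul_mk g p.rep_nonzero
    show g • p ∈ Ov s
    rw [e1, e]
    exact (mk_mem_Ov_iff s _).2 (h _ hp')

/-- the translations as elements of `SL₄`. -/
def T (a b : F) : Matrix.SpecialLinearGroup (Fin 4) F := ⟨Tm s a b, det_Tm s a b⟩

/-- the diagonal elements of `SL₄`. -/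
def D (t : Fˣ) : Matrix.SpecialLinearGroup (Fin 4) F := ⟨Dm s t, det_Dm s t.ne_zero⟩

/-- the inversion in `SL₄`. -/
def W : Matrix.SpecialLinearGroup (Fin 4) F := ⟨Wm, det_Wm⟩

include hs in
lemma T_mem [Finite F] (a b : F) : T s a b ∈ G s :=
  (mem_G_iff s _).2 fun _ hv => hv.Tm s hs a b

include hs in
lemma D_mem [Finite F] (t : Fˣ) : D s t ∈ G s :=
  (mem_G_iff s _).2 fun _ hv => hv.Dm s hs t.ne_zero

include hs in
lemma W_mem [Finite F] : (W : Matrix.SpecialLinearGroup (Fin 4) F) ∈ G s :=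
  (mem_G_iff s _).2 fun _ hv => hv.Wm s hs

end stab

end Cfsg.Agent.Lib.Helper6.Sz
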