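import Cfsg.Agent.Lib.Helper6.SzSol5
import Cfsg.Agent.Lib.Helper6.SzLS1

set_option autoImplicit false

/-! # Modules for the Sylow `2`-subgroup of a Suzuki group -/

namespace Cfsg.Agent.Lib.Helper6.SzLS

open Cfsg.Agent.Lib.Helper6.Sz Module

section signchar
variable {F : Type*} [Field F] [Fintype F] (lam : F → ℂ)
  (hmul : ∀ c c', lam (c + c') = lam c * lam c') (hsq : ∀ c, lam c * lam c = 1)

omit [Fintype F] in
include hmul hsq in
lemma lam_zero : lam 0 = 1 := by
  have h := hmul 0 0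
  rw [add_zero] at h
  rw [h]
  exact hsq 0

omit [Fintype F] in
include hsq in
lemma lam_pm (c : F) : lam c = 1 ∨ lam c = -1 := mul_self_eq_one_iff.1 (hsq c)

include hmul in
lemma sum_lam (hnt : ∃ c, lam c ≠ 1) : ∑ c, lam c = 0 := by
  obtain ⟨c₁, hc₁⟩ := hnt
  have h1 : ∑ c, lam (c + c₁) = ∑ c, lam c :=
    Fintype.sum_equiv (Equiv.addRight c₁) _ _ (fun c => rfl)
  have h2 : ∑ c, lam (c + c₁) = (∑ c, lam c) * lam c₁ := by
    rw [Finset.sum_mul]
    exact Finset.sum_congr rfl (fun c _ => hmul c c₁)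
  rw [h1] at h2
  have h3 : (∑ c, lam c) * (1 - lam c₁) = 0 := by
    rw [mul_sub, mul_one, ← h2, sub_self]
  rcases mul_eq_zero.1 h3 with h | h
  · exact h
  · exact absurd (sub_eq_zero.1 h).symm hc₁

include hmul in
lemma sum_lam_mul (hnt : ∃ c, lam c ≠ 1) {u : F} (hu : u ≠ 0) : ∑ c, lam (u * c) = 0 := by
  have h1 : ∑ c, lam (u * c) = ∑ c, lam c :=
    Fintype.sum_equiv (Equiv.mulLeft₀ u hu) _ _ (fun c => rfl)
  rw [h1]
  exact sum_lam lam hmul hnt

end signchar

section Qmod
variable {F : Type*} [Field F] [CharP F 2] [Fintype F] (s : F →+* F)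
  (hs : ∀ x, s (s x) = x ^ 2)
  (lam : F → ℂ)
  (hmul : ∀ c c', lam (c + c') = lam c * lam c') (hsq : ∀ c, lam c * lam c = 1)

include hs hmul hsq in
/-- the radical of the commutator form has at most one nonzero element. -/
lemma rad_unique (hnt : ∃ c, lam c ≠ 1) {a₁ a₂ : F} (h₁ : a₁ ≠ 0) (h₂ : a₂ ≠ 0)
    (hr₁ : ∀ a', lam (s a₁ * a' + s a' * a₁) = 1)
    (hr₂ : ∀ a', lam (s a₂ * a' + s a' * a₂) = 1) : a₁ = a₂ := by
  have key : ∀ a : F, a ≠ 0 → (∀ a', lam (s a * a' + s a' * a) = 1) →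
      (∀ u, lam (s a * a * (s u + u)) = 1) ∧ lam (s a * a) = -1 := by
    intro a ha hr
    have h1 : ∀ u, lam (s a * a * (s u + u)) = 1 := by
      intro u
      have := hr (a * u)
      rw [map_mul] at this
      rw [← this]
      congr 1
      ring
    refine ⟨h1, ?_⟩
    rcases lam_pm lam hsq (s a * a) with h | h
    · exfalso
      obtain ⟨c, hc⟩ := hnt
      apply hc
      have hne : s a * a ≠ 0 := mul_ne_zero ((map_ne_zero s).2 ha) ha
      obtain ⟨u, hu⟩ := exists_psi s hs (c / (s a * a))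
      rcases hu with hu | hu
      · have : c = s a * a * (s u + u) := by rw [← hu, mul_div_cancel₀ _ hne]
        rw [this, h1]
      · have : c = s a * a * (s u + u) + s a * a := by
          have e : s a * a * (s u + u) + s a * a = s a * a * (s u + u + 1) := by ring
          rw [e, ← hu, mul_div_cancel₀ _ hne]
        rw [this, hmul, h1, h, mul_one]
    · exact h
  obtain ⟨k₁, k₁'⟩ := key a₁ h₁ hr₁
  obtain ⟨k₂, k₂'⟩ := key a₂ h₂ hr₂
  by_contra hne
  have hmu : s a₁ * a₁ + s a₂ * a₂ ≠ 0 := by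
    intro h
    apply hne
    exact mu_injective s hs (CharTwo.add_eq_zero.1 h)
  obtain ⟨c, hc⟩ := hnt
  apply hc
  -- every element is of the form (μ a₁ + μ a₂) γ
  have hall : ∀ γ : F, lam ((s a₁ * a₁ + s a₂ * a₂) * γ) = 1 := by
    intro γ
    obtain ⟨u, hu⟩ := exists_psi s hs γ
    rw [add_mul, hmul]
    rcases hu with hu | hu
    · rw [hu, k₁, k₂, mul_one]
    · have e : ∀ μ : F, μ * (s u + u + 1) = μ * (s u + u) + μ := by intro μ; ring
      rw [hu, e, e, hmul, hmul (s a₂ * a₂ * (s u + u)), k₁, k₂, k₁', k₂']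
      norm_num
  have := hall (c / (s a₁ * a₁ + s a₂ * a₂))
  rw [mul_div_cancel₀ _ hmu] at this
  exact this

include hs hmul hsq in
/-- a module for the Sylow subgroup on which the centre acts through a nontrivial sign character
has dimension at least `2 ^ m`. -/
theorem Q_module_bound {m : ℕ} (hk : Nat.card F = 2 ^ (2 * m + 1)) (hnt : ∃ c, lam c ≠ 1)
    {W : Type*} [AddCommGroup W] [Module ℂ W] [FiniteDimensional ℂ W] [Nontrivial W]
    (σ : Representation ℂ (Qs s hs) W) (hσ : ∀ c, σ (qT s hs 0 c) = lam c • 1) :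
    2 ^ m ≤ finrank ℂ W := by
  classical
  obtain ⟨n, hn⟩ : ∃ n, n = finrank ℂ W := ⟨_, rfl⟩
  rw [← hn]
  let _ : Fintype (Qs s hs) := Fintype.ofFinite _
  obtain ⟨N, hN1, hsum⟩ := card_le_sum_char σ
  have hbij : Function.Bijective (fun ab : F × F => qT s hs ab.1 ab.2) := by
    constructor
    · rintro ⟨a, b⟩ ⟨a', b'⟩ h
      obtain ⟨h1, h2⟩ := qT_inj s hs h
      simp only at h1 h2
      rw [h1, h2]
    · intro g
      obtain ⟨a, b, rfl⟩ := qT_surj s hs g
      exact ⟨(a, b), rfl⟩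
  rw [← Fintype.sum_equiv (Equiv.ofBijective _ hbij)
    (fun ab : F × F => σ.character (qT s hs ab.1 ab.2)⁻¹ * σ.character (qT s hs ab.1 ab.2))
    (fun g => σ.character g⁻¹ * σ.character g) (fun ab => rfl), Fintype.sum_prod_type] at hsum
  -- vanishing off the radical
  have hvan : ∀ a b : F, (∃ a', lam (s a * a' + s a' * a) ≠ 1) →
      σ.character (qT s hs a b) = 0 := by
    rintro a b ⟨a', ha'⟩
    have h1 : qT s hs a' 0 * qT s hs a b * (qT s hs a' 0)⁻¹ =
        qT s hs 0 (s a * a' + s a' * a) * qT s hs a b := by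
      have := comm_qT s hs a' 0 a b
      rw [commutatorElement_def] at this
      have e : s a' * a + a' * s a = s a * a' + s a' * a := by ring
      rw [e] at this
      rw [← this]
      group
    have h2 := Representation.char_conj σ (qT s hs a b) (qT s hs a' 0)
    rw [h1] at h2
    have h3 : σ.character (qT s hs 0 (s a * a' + s a' * a) * qT s hs a b) =
        lam (s a * a' + s a' * a) * σ.character (qT s hs a b) := by
      unfold Representation.character
      rw [map_mul, hσ, smul_mul_assoc, one_mul, map_smul, smul_eq_mul]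
    rw [h3] at h2
    have h4 : (lam (s a * a' + s a' * a) - 1) * σ.character (qT s hs a b) = 0 := by
      rw [sub_mul, one_mul, h2, sub_self]
    rcases mul_eq_zero.1 h4 with h | h
    · exact absurd (sub_eq_zero.1 h) ha'
    · exact h
  -- the bound on each term
  have hbd : ∀ a b : F,
      ‖σ.character (qT s hs a b)⁻¹ * σ.character (qT s hs a b)‖ ≤ (n : ℝ) ^ 2 := by
    intro a b
    obtain ⟨T, hT⟩ : ∃ T, T = σ (qT s hs a b) := ⟨_, rfl⟩
    have hxx : qT s hs a b * qT s hs a b = qT s hs 0 (s a * a) := by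
      rw [← sq, qT_sq]
    have hTT : T * T = lam (s a * a) • 1 := by
      rw [hT, ← map_mul, hxx, hσ]
    have hinv : (qT s hs a b)⁻¹ = qT s hs a b * (qT s hs a b * qT s hs a b) := by
      symm
      apply eq_inv_of_mul_eq_one_left
      have := qT_pow_four s hs a b
      rw [pow_succ, pow_succ, pow_succ, pow_one] at this
      rw [← this]
      simp only [mul_assoc]
    have hχinv : σ.character (qT s hs a b)⁻¹ = lam (s a * a) * LinearMap.trace ℂ W T := by
      unfold Representation.character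
      rw [hinv, map_mul, hxx, hσ, ← hT, mul_smul_comm, mul_one, map_smul, smul_eq_mul]
    have hχ : σ.character (qT s hs a b) = LinearMap.trace ℂ W T := by
      unfold Representation.character
      rw [hT]
    rw [hχinv, hχ]
    have hfin : ∃ r : ℕ, r ≤ n ∧ lam (s a * a) * LinearMap.trace ℂ W T * LinearMap.trace ℂ W T =
        (2 * (r : ℂ) - (n : ℂ)) ^ 2 := by
      rcases lam_pm lam hsq (s a * a) with h | h
      · rw [h, one_smul] at hTT
        obtain ⟨r, hr, htr⟩ := trace_of_sq_eq_one T hTT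
        refine ⟨r, by rw [hn]; exact hr, ?_⟩
        rw [h, htr, ← hn]
        ring
      · rw [h, neg_one_smul] at hTT
        obtain ⟨r, hr, htr⟩ := trace_of_sq_eq_neg_one T hTT
        refine ⟨r, by rw [hn]; exact hr, ?_⟩
        rw [h, htr, ← hn]
        have hI : Complex.I * Complex.I = -1 := Complex.I_mul_I
        linear_combination (-(2 * (r : ℂ) - (n : ℂ)) ^ 2) * hI
    obtain ⟨r, hr, hf⟩ := hfin
    rw [hf, norm_pow]
    have hcast : (2 * (r : ℂ) - (n : ℂ)) = ((2 * (r : ℤ) - (n : ℤ) : ℤ) : ℂ) := by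
      push_cast; ring
    rw [hcast, Complex.norm_intCast]
    have habs : |((2 * (r : ℤ) - (n : ℤ) : ℤ) : ℝ)| ≤ (n : ℝ) := by
      rw [abs_le]
      have hr' : (r : ℝ) ≤ (n : ℝ) := by exact_mod_cast hr
      have hr0 : (0 : ℝ) ≤ (r : ℝ) := by positivity
      push_cast
      constructor <;> linarith
    have h0 : (0 : ℝ) ≤ |((2 * (r : ℤ) - (n : ℤ) : ℤ) : ℝ)| := abs_nonneg _
    exact pow_le_pow_left₀ h0 habs 2
  -- the radical
  obtain ⟨R, hR⟩ : ∃ R : Finset F, R = Finset.univ.filter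
    (fun a : F => ∀ a', lam (s a * a' + s a' * a) = 1) := ⟨_, rfl⟩
  have hRcard : R.card ≤ 2 := by
    by_cases hex : ∃ a ∈ R, a ≠ 0
    · obtain ⟨a₁, ha₁R, ha₁⟩ := hex
      have hsub : R ⊆ {0, a₁} := by
        intro a haR
        by_cases ha : a = 0
        · rw [ha]; simp
        · rw [hR, Finset.mem_filter] at haR ha₁R
          have := rad_unique s hs lam hmul hsq hnt ha ha₁ haR.2 ha₁R.2
          rw [this]; simp
      exact (Finset.card_le_card hsub).trans Finset.card_le_two
    · push Not at hex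
      have hsub : R ⊆ {0} := by
        intro a haR
        rw [hex a haR]; simp
      exact (Finset.card_le_card hsub).trans (by simp)
  -- assemble
  have hq : (Nat.card F : ℝ) = 2 ^ (2 * m + 1) := by exact_mod_cast hk
  have hcardQ : (Nat.card (Qs s hs) : ℂ) = (Nat.card F : ℂ) ^ 2 := by
    rw [card_Qs s hs]; push_cast; ring
  have hnorm := congrArg (fun z : ℂ => ‖z‖) hsum
  simp only at hnorm
  have hle : ‖∑ a : F, ∑ b : F, σ.character (qT s hs a b)⁻¹ * σ.character (qT s hs a b)‖ ≤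
      2 * (Nat.card F : ℝ) * (n : ℝ) ^ 2 := by
    refine (norm_sum_le _ _).trans ?_
    have h1 : ∀ a : F, ‖∑ b : F, σ.character (qT s hs a b)⁻¹ * σ.character (qT s hs a b)‖ ≤
        if a ∈ R then (Nat.card F : ℝ) * (n : ℝ) ^ 2 else 0 := by
      intro a
      by_cases haR : a ∈ R
      · rw [if_pos haR]
        refine (norm_sum_le _ _).trans ?_
        refine (Finset.sum_le_sum (fun b _ => hbd a b)).trans ?_
        rw [Finset.sum_const, Finset.card_univ, nsmul_eq_mul, Nat.card_eq_fintype_card]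
      · rw [if_neg haR]
        rw [hR, Finset.mem_filter] at haR
        push Not at haR
        obtain ⟨a', ha'⟩ := haR (Finset.mem_univ _)
        have : ∀ b : F, σ.character (qT s hs a b)⁻¹ * σ.character (qT s hs a b) = 0 := by
          intro b
          rw [hvan a b ⟨a', ha'⟩, mul_zero]
        simp [this]
    refine (Finset.sum_le_sum (fun a _ => h1 a)).trans ?_
    rw [Finset.sum_ite_mem, Finset.univ_inter, Finset.sum_const, nsmul_eq_mul]
    have hRc : (R.card : ℝ) ≤ 2 := by exact_mod_cast hRcard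
    have hpos : (0 : ℝ) ≤ (Nat.card F : ℝ) * (n : ℝ) ^ 2 := by positivity
    nlinarith
  rw [hnorm, hcardQ, norm_mul, norm_pow, Complex.norm_natCast, Complex.norm_natCast] at hle
  have hN' : (1 : ℝ) ≤ (N : ℝ) := by exact_mod_cast hN1
  have hqpos : (0 : ℝ) < (Nat.card F : ℝ) := by
    have : 0 < Nat.card F := Nat.card_pos
    exact_mod_cast this
  have h5 : (Nat.card F : ℝ) ≤ 2 * (n : ℝ) ^ 2 := by
    have h6 : (Nat.card F : ℝ) ^ 2 ≤ 2 * (Nat.card F : ℝ) * (n : ℝ) ^ 2 := by
      have : (Nat.card F : ℝ) ^ 2 ≤ (N : ℝ) * (Nat.card F : ℝ) ^ 2 := by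
        have hsqpos : (0 : ℝ) ≤ (Nat.card F : ℝ) ^ 2 := by positivity
        nlinarith
      exact this.trans hle
    by_contra hcon
    push Not at hcon
    nlinarith
  rw [hq] at h5
  have h7 : 2 ^ (2 * m + 1) ≤ 2 * n ^ 2 := by exact_mod_cast h5
  have h8 : (2 ^ m) ^ 2 ≤ n ^ 2 := by
    have e : 2 ^ (2 * m + 1) = 2 * (2 ^ m) ^ 2 := by
      rw [pow_succ, pow_mul, mul_comm]
      congr 1
      rw [← pow_mul, ← pow_mul, mul_comm]
    rw [e] at h7
    omega
  exact (Nat.pow_le_pow_iff_left (by norm_num)).1 h8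

end Qmod

end Cfsg.Agent.Lib.Helper6.SzLS
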