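import Cfsg.Agent.Lib.Helper6.SzLS2

set_option autoImplicit false

/-! # The Landazuri–Seitz bound for the Suzuki groups -/

namespace Cfsg.Agent.Lib.Helper6.SzLS

open Cfsg.Agent.Lib.Helper6.Sz Module

section main
variable {F : Type*} [Field F] [CharP F 2] [Fintype F] (s : F →+* F)
  (hs : ∀ x, s (s x) = x ^ 2)

include hs in
/-- a representation of the Suzuki group which is nontrivial on a central involution of the
Sylow `2`-subgroup has dimension at least `2 ^ m * (q - 1)`. -/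
theorem ls_bound {m : ℕ} (hk : Nat.card F = 2 ^ (2 * m + 1))
    {V : Type*} [AddCommGroup V] [Module ℂ V] [FiniteDimensional ℂ V]
    (ρ : Representation ℂ (G s) V) {c₀ : F} (hc₀ : ρ (Tg s hs 0 c₀) ≠ 1) :
    2 ^ m * (2 ^ (2 * m + 1) - 1) ≤ finrank ℂ V := by
  classical
  -- the commuting family
  obtain ⟨f, hf⟩ : ∃ f : F → End ℂ V, f = fun c => ρ (Tg s hs 0 c) := ⟨_, rfl⟩
  have hfc : ∀ c, f c = ρ (Tg s hs 0 c) := fun c => by rw [hf]
  have hfadd : ∀ c c', f (c + c') = f c * f c' := by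
    intro c c'
    rw [hfc, hfc, hfc, ← map_mul, Tg_mul]
    congr 2 <;> simp
  have hf0 : f 0 = 1 := by rw [hfc, Tg_zero, map_one]
  have hfsq : ∀ c, f c * f c = 1 := by
    intro c; rw [← hfadd, CharTwo.add_self_eq_zero, hf0]
  have hcomm : ∀ c c', f c * f c' = f c' * f c := by
    intro c c'; rw [← hfadd, ← hfadd, add_comm]
  -- S1: the (-1)-eigenspace of f c₀
  obtain ⟨W₀, hW₀⟩ : ∃ W₀ : Submodule ℂ V, W₀ = LinearMap.ker (f c₀ + 1) := ⟨_, rfl⟩
  have hW₀mem : ∀ w, w ∈ W₀ ↔ f c₀ w + w = 0 := by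
    intro w
    rw [hW₀, LinearMap.mem_ker, LinearMap.add_apply, Module.End.one_apply]
  have hW₀ne : W₀ ≠ ⊥ := by
    intro h
    apply hc₀
    rw [← hfc]
    ext v
    have h1 : f c₀ v - v ∈ W₀ := by
      rw [hW₀mem, map_sub, ← Module.End.mul_apply, hfsq, Module.End.one_apply]
      abel
    rw [h, Submodule.mem_bot, sub_eq_zero] at h1
    rw [h1, Module.End.one_apply]
  have hW₀inv : ∀ c, ∀ w ∈ W₀, f c w ∈ W₀ := by
    intro c w hw
    rw [hW₀mem] at hw ⊢
    rw [← Module.End.mul_apply, hcomm, Module.End.mul_apply, ← map_add, hw, map_zero]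
  -- S2: a common eigenvector
  obtain ⟨v, hvW₀, hv0, hev⟩ := exists_common_eigenvector f hcomm Finset.univ W₀ hW₀ne hW₀inv
  choose lam hlam using fun c => hev c (Finset.mem_univ c)
  have hsmul_inj : ∀ {x y : ℂ}, x • v = y • v → x = y := by
    intro x y hxy
    exact smul_left_injective ℂ hv0 hxy
  have hmul : ∀ c c', lam (c + c') = lam c * lam c' := by
    intro c c'
    apply hsmul_inj
    rw [← hlam, hfadd, Module.End.mul_apply, hlam, map_smul, hlam, smul_smul, mul_comm]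
  have hlam0 : lam 0 = 1 := by
    apply hsmul_inj
    rw [← hlam, hf0, Module.End.one_apply, one_smul]
  have hsq : ∀ c, lam c * lam c = 1 := by
    intro c
    rw [← hmul, CharTwo.add_self_eq_zero, hlam0]
  have hlamc₀ : lam c₀ = -1 := by
    apply hsmul_inj
    rw [← hlam, neg_one_smul]
    exact eq_neg_of_add_eq_zero_left ((hW₀mem v).1 hvW₀)
  have hnt : ∃ c, lam c ≠ 1 := ⟨c₀, by rw [hlamc₀]; norm_num⟩
  -- S3: the eigenspace for lam
  obtain ⟨W, hW⟩ : ∃ W : Submodule ℂ V, W = ⨅ c, LinearMap.ker (f c - lam c • 1) := ⟨_, rfl⟩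
  have hWmem : ∀ w, w ∈ W ↔ ∀ c, f c w = lam c • w := by
    intro w
    rw [hW, Submodule.mem_iInf]
    apply forall_congr'
    intro c
    rw [LinearMap.mem_ker, LinearMap.sub_apply, LinearMap.smul_apply, Module.End.one_apply,
      sub_eq_zero]
  have hvW : v ∈ W := (hWmem v).2 hlam
  have hWQ : ∀ (g : Qs s hs) ⦃w : V⦄, w ∈ W → ρ (g : G s) w ∈ W := by
    intro g w hw
    obtain ⟨a, b, rfl⟩ := qT_surj s hs g
    rw [hWmem] at hw ⊢
    intro c
    show f c (ρ (Tg s hs a b) w) = lam c • ρ (Tg s hs a b) w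
    rw [hfc, ← Module.End.mul_apply, ← map_mul, ← Tg_zero_mul_comm, map_mul,
      Module.End.mul_apply, ← hfc, hw c, map_smul]
  -- S4: the dimension of W
  have hWnt : Nontrivial W := ⟨⟨⟨v, hvW⟩, 0, fun h => hv0 (congrArg Subtype.val h)⟩⟩
  obtain ⟨ρQ, hρQ⟩ : ∃ ρQ : Representation ℂ (Qs s hs) V, ρQ = ρ.comp (Qs s hs).subtype :=
    ⟨_, rfl⟩
  have hρQa : ∀ (g : Qs s hs), ρQ g = ρ (g : G s) := fun g => by rw [hρQ]; rfl
  obtain ⟨σ, hσdef⟩ : ∃ σ : Representation ℂ (Qs s hs) W,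
      ∀ (g : Qs s hs) (w : W), ((σ g w : W) : V) = ρ (g : G s) (w : V) := by
    refine ⟨(⟨W, fun g w hw => by rw [hρQa]; exact hWQ g hw⟩ :
      Subrepresentation ρQ).toRepresentation, ?_⟩
    intro g w
    show ρQ g (w : V) = _
    rw [hρQa]
  have hσ : ∀ c, σ (qT s hs 0 c) = lam c • 1 := by
    intro c
    ext w
    rw [hσdef]
    show ρ (Tg s hs 0 c) (w : V) = _
    rw [← hfc, (hWmem w).1 w.2 c]
    simp
  have hdimW : 2 ^ m ≤ finrank ℂ W := Q_module_bound s hs lam hmul hsq hk hnt σ hσ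
  -- S5: the translates of W under the torus
  obtain ⟨κ, hκ⟩ : ∃ κ : Fˣ → F, κ = fun t : Fˣ => (t : F) ^ 2 * s (t : F) := ⟨_, rfl⟩
  have hκt : ∀ t, κ t = (t : F) ^ 2 * s t := fun t => by rw [hκ]
  have hκ0 : ∀ t, κ t ≠ 0 := by
    intro t
    rw [hκt]
    exact mul_ne_zero (pow_ne_zero 2 t.ne_zero) ((map_ne_zero s).2 t.ne_zero)
  have hκinj : Function.Injective κ := by
    intro t t' h
    rw [hκt, hκt] at h
    exact Units.ext (kappa_injective s hs h)
  obtain ⟨g, hg⟩ : ∃ g : Fˣ → End ℂ V, g = fun t => ρ (Dg s hs t) := ⟨_, rfl⟩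
  have hgt : ∀ t, g t = ρ (Dg s hs t) := fun t => by rw [hg]
  have hginj : ∀ t, Function.Injective (g t) := by
    intro t
    apply Function.LeftInverse.injective (g := ρ (Dg s hs t)⁻¹)
    intro x
    rw [hgt, ← Module.End.mul_apply, ← map_mul, inv_mul_cancel, map_one, Module.End.one_apply]
  have hq0 : (Fintype.card F : ℂ) ≠ 0 := by
    have : 0 < Fintype.card F := Fintype.card_pos
    exact_mod_cast this.ne'
  obtain ⟨e, he⟩ : ∃ e : Fˣ → End ℂ V,
      e = fun t => (Fintype.card F : ℂ)⁻¹ • ∑ c : F, lam (c / κ t) • f c := ⟨_, rfl⟩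
  have hfg : ∀ (c : F) (j : Fˣ) (w : V), w ∈ W → f c (g j w) = lam (c / κ j) • g j w := by
    intro c j w hw
    have h1 : Tg s hs 0 c * Dg s hs j = Dg s hs j * Tg s hs 0 (c / κ j) := by
      rw [Dg_mul_Tg, mul_zero, ← hκt, mul_div_cancel₀ _ (hκ0 j)]
    rw [hfc, hgt, ← Module.End.mul_apply, ← map_mul, h1, map_mul, Module.End.mul_apply, ← hfc,
      (hWmem w).1 hw, map_smul]
  have heg : ∀ i j, ∀ w ∈ W, e i (g j w) = if i = j then g j w else 0 := by
    intro i j w hw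
    rw [he]
    simp only [LinearMap.smul_apply, LinearMap.sum_apply]
    have h1 : ∀ c : F, lam (c / κ i) • f c (g j w) = lam (((κ i)⁻¹ + (κ j)⁻¹) * c) • g j w := by
      intro c
      rw [hfg c j w hw, smul_smul, ← hmul]
      congr 2
      field_simp
    rw [Finset.sum_congr rfl (fun c _ => h1 c), ← Finset.sum_smul, smul_smul]
    by_cases hij : i = j
    · rw [if_pos hij, hij, CharTwo.add_self_eq_zero]
      simp only [zero_mul, hlam0, Finset.sum_const, Finset.card_univ, nsmul_eq_mul, mul_one]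
      rw [inv_mul_cancel₀ hq0, one_smul]
    · rw [if_neg hij]
      have hu : (κ i)⁻¹ + (κ j)⁻¹ ≠ 0 := by
        intro h
        apply hij
        apply hκinj
        exact inv_injective (CharTwo.add_eq_zero.1 h)
      rw [sum_lam_mul lam hmul hnt hu, mul_zero, zero_smul]
  have hmain := card_mul_finrank_le W g hginj e heg
  rw [Fintype.card_units] at hmain
  have hq : Fintype.card F = 2 ^ (2 * m + 1) := by rw [← Nat.card_eq_fintype_card, hk]
  rw [hq] at hmain
  calc 2 ^ m * (2 ^ (2 * m + 1) - 1) ≤ finrank ℂ W * (2 ^ (2 * m + 1) - 1) :=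
        Nat.mul_le_mul_right _ hdimW
    _ = (2 ^ (2 * m + 1) - 1) * finrank ℂ W := mul_comm _ _
    _ ≤ finrank ℂ V := hmain

end main

end Cfsg.Agent.Lib.Helper6.SzLS
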