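import Mathlib

set_option autoImplicit false

/-! # The Suzuki–Tits ovoid: algebra and explicit matrices -/

namespace Cfsg.Agent.Lib.Helper6.Sz

open Matrix

section alg
variable {F : Type*} [Field F]

/-- the ovoid function `f(x,y) = xy + σ(x)x² + σ(y)`. -/
def ff (s : F →+* F) (x y : F) : F := x * y + s x * x ^ 2 + s y

theorem det4 (A : Matrix (Fin 4) (Fin 4) F) :
    A.det = A 0 0 * (A 1 1 * A 2 2 * A 3 3 - A 1 1 * A 2 3 * A 3 2 - A 1 2 * A 2 1 * A 3 3
        + A 1 2 * A 2 3 * A 3 1 + A 1 3 * A 2 1 * A 3 2 - A 1 3 * A 2 2 * A 3 1)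
      - A 0 1 * (A 1 0 * A 2 2 * A 3 3 - A 1 0 * A 2 3 * A 3 2 - A 1 2 * A 2 0 * A 3 3
        + A 1 2 * A 2 3 * A 3 0 + A 1 3 * A 2 0 * A 3 2 - A 1 3 * A 2 2 * A 3 0)
      + A 0 2 * (A 1 0 * A 2 1 * A 3 3 - A 1 0 * A 2 3 * A 3 1 - A 1 1 * A 2 0 * A 3 3
        + A 1 1 * A 2 3 * A 3 0 + A 1 3 * A 2 0 * A 3 1 - A 1 3 * A 2 1 * A 3 0)
      - A 0 3 * (A 1 0 * A 2 1 * A 3 2 - A 1 0 * A 2 2 * A 3 1 - A 1 1 * A 2 0 * A 3 2
        + A 1 1 * A 2 2 * A 3 0 + A 1 2 * A 2 0 * A 3 1 - A 1 2 * A 2 1 * A 3 0) := by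
  rw [Matrix.det_succ_row_zero]
  simp only [Fin.sum_univ_four, Matrix.det_fin_three, Matrix.submatrix_apply]
  simp [Fin.succAbove, Fin.ext_iff]
  ring

variable [CharP F 2] (s : F →+* F) (hs : ∀ x, s (s x) = x ^ 2)

lemma two_eq_zero : (2 : F) = 0 := CharTwo.two_eq_zero

@[simp] lemma ff_zero : ff s 0 0 = 0 := by simp [ff]

include hs in
lemma tangent {x y : F} (h : ff s x y = 0) : x = 0 ∧ y = 0 := by
  have h2 : (2 : F) = 0 := CharTwo.two_eq_zero
  by_cases hx : x = 0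
  · subst hx
    simp [ff] at h
    exact ⟨rfl, h⟩
  · exfalso
    have hsx : s x ≠ 0 := by simpa using hx
    set t := y / (s x * x) with ht
    have hy : y = t * (s x * x) := by rw [ht, div_mul_cancel₀ _ (mul_ne_zero hsx hx)]
    have e1 : ff s x y = s x * x ^ 2 * (t + 1 + s t) := by
      rw [ff, hy, map_mul, map_mul, hs]; ring
    rw [e1] at h
    have h3 : t + 1 + s t = 0 := by
      rcases mul_eq_zero.1 h with h | h
      · exfalso; exact (mul_ne_zero hsx (pow_ne_zero 2 hx)) h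
      · exact h
    have h4 : s t + 1 + t ^ 2 = 0 := by
      have := congrArg s h3
      simpa [map_add, hs] using this
    have h5 : t * (t + 1) = 0 := by linear_combination h3 + h4 - (s t + 1) * h2
    rcases mul_eq_zero.1 h5 with h6 | h6
    · rw [h6] at h3; simp at h3
    · have h7 : t = 1 := by linear_combination h6 - h2
      rw [h7, map_one] at h3
      have : (1 : F) = 0 := by linear_combination h3 - h2
      exact one_ne_zero this

include hs in
lemma ff_eq_zero_iff {x y : F} : ff s x y = 0 ↔ x = 0 ∧ y = 0 :=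
  ⟨tangent s hs, fun h => by rw [h.1, h.2, ff_zero]⟩

include hs in
lemma inv_identity (x y : F) :
    x * y * s (ff s x y) + s y * y ^ 2 + s x * (ff s x y) ^ 2 = ff s x y * s (ff s x y) := by
  have h2 : (2 : F) = 0 := CharTwo.two_eq_zero
  have e : s (ff s x y) = s x * s y + x ^ 2 * (s x) ^ 2 + y ^ 2 := by
    simp only [ff, map_add, map_mul, map_pow, hs]
  rw [e]
  simp only [ff]
  linear_combination (x ^ 3 * y * (s x) ^ 2 + x * y * s x * s y) * h2

include hs in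
lemma ff_inv {x y : F} (hz : ff s x y ≠ 0) :
    ff s (y / ff s x y) (x / ff s x y) = (ff s x y)⁻¹ := by
  have h := inv_identity s hs x y
  set z := ff s x y with hzdef
  have hsz : s z ≠ 0 := by simpa using hz
  have e : ff s (y / z) (x / z) = (y / z) * (x / z) + s (y / z) * (y / z) ^ 2 + s (x / z) := rfl
  rw [e, map_div₀, map_div₀]
  field_simp
  linear_combination h

include hs in
lemma ff_translate (a b x y : F) :
    ff s (x + a) (y + b + s a * x) = ff s x y + a * y + (b + a * s a) * x + ff s a b := by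
  have h2 : (2 : F) = 0 := CharTwo.two_eq_zero
  simp only [ff, map_add, map_mul, hs]
  linear_combination (s a * x ^ 2 + s x * a ^ 2 + s a * a * x + s x * a * x) * h2

include hs in
lemma ff_scale (t x y : F) :
    ff s (s t * x) (t ^ 2 * s t * y) = t ^ 2 * (s t) ^ 2 * ff s x y := by
  simp only [ff, map_mul, map_pow, hs]
  ring

end alg

section mat
variable {F : Type*} [Field F] (s : F →+* F)

/-- the translation matrices (the Sylow 2-subgroup fixing `∞`). -/
def Tm (a b : F) : Matrix (Fin 4) (Fin 4) F :=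
  !![1, a, b + a * s a, ff s a b; 0, 1, s a, b; 0, 0, 1, a; 0, 0, 0, 1]

/-- the diagonal matrices. -/
def Dm (t : F) : Matrix (Fin 4) (Fin 4) F :=
  !![t * s t, 0, 0, 0; 0, t, 0, 0; 0, 0, t⁻¹, 0; 0, 0, 0, (t * s t)⁻¹]

/-- the inversion. -/
def Wm : Matrix (Fin 4) (Fin 4) F := !![0, 0, 0, 1; 0, 0, 1, 0; 0, 1, 0, 0; 1, 0, 0, 0]

lemma det_Tm (a b : F) : (Tm s a b).det = 1 := by
  rw [det4]; simp [Tm]

lemma det_Dm {t : F} (ht : t ≠ 0) : (Dm s t).det = 1 := by
  have hst : s t ≠ 0 := by simpa using ht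
  rw [det4]; simp [Dm]
  field_simp

lemma det_Wm : (Wm : Matrix (Fin 4) (Fin 4) F).det = 1 := by
  rw [det4]; simp [Wm]

lemma Tm_mulVec (a b : F) (v : Fin 4 → F) :
    Tm s a b *ᵥ v = ![v 0 + a * v 1 + (b + a * s a) * v 2 + ff s a b * v 3,
      v 1 + s a * v 2 + b * v 3, v 2 + a * v 3, v 3] := by
  ext i
  fin_cases i <;> simp [Tm, Matrix.mulVec, dotProduct, Fin.sum_univ_four]

lemma Dm_mulVec (t : F) (v : Fin 4 → F) :
    Dm s t *ᵥ v = ![t * s t * v 0, t * v 1, t⁻¹ * v 2, (t * s t)⁻¹ * v 3] := by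
  ext i
  fin_cases i <;> simp [Dm, Matrix.mulVec, dotProduct, Fin.sum_univ_four]

lemma Wm_mulVec (v : Fin 4 → F) :
    (Wm : Matrix (Fin 4) (Fin 4) F) *ᵥ v = ![v 3, v 2, v 1, v 0] := by
  ext i
  fin_cases i <;> simp [Wm, Matrix.mulVec, dotProduct, Fin.sum_univ_four]

lemma Wm_mul_Wm : (Wm : Matrix (Fin 4) (Fin 4) F) * Wm = 1 := by
  ext i j
  fin_cases i <;> fin_cases j <;> simp [Wm, Matrix.mul_apply, Fin.sum_univ_four]

lemma Dm_mul {t t' : F} : Dm s t * Dm s t' = Dm s (t * t') := by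
  ext i j
  fin_cases i <;> fin_cases j <;> simp [Dm, Matrix.mul_apply, Fin.sum_univ_four] <;> ring

lemma Dm_one : Dm s 1 = 1 := by
  ext i j
  fin_cases i <;> fin_cases j <;> simp [Dm]

/-- the point at infinity -/
def e0 : Fin 4 → F := ![1, 0, 0, 0]

/-- the affine points of the ovoid -/
def Pv (x y : F) : Fin 4 → F := ![ff s x y, y, x, 1]

@[simp] lemma e0_apply_zero : (e0 : Fin 4 → F) 0 = 1 := rfl
@[simp] lemma e0_apply_one : (e0 : Fin 4 → F) 1 = 0 := rfl
@[simp] lemma e0_apply_two : (e0 : Fin 4 → F) 2 = 0 := rfl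
@[simp] lemma e0_apply_three : (e0 : Fin 4 → F) 3 = 0 := rfl
@[simp] lemma Pv_apply_zero (x y : F) : Pv s x y 0 = ff s x y := rfl
@[simp] lemma Pv_apply_one (x y : F) : Pv s x y 1 = y := rfl
@[simp] lemma Pv_apply_two (x y : F) : Pv s x y 2 = x := rfl
@[simp] lemma Pv_apply_three (x y : F) : Pv s x y 3 = 1 := rfl

lemma e0_ne_zero : (e0 : Fin 4 → F) ≠ 0 := fun h => by
  have := congr_fun h 0
  simp at this

lemma Pv_ne_zero (x y : F) : Pv s x y ≠ 0 := fun h => by
  have := congr_fun h 3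
  simp at this

lemma vec4_ext {v w : Fin 4 → F} (h0 : v 0 = w 0) (h1 : v 1 = w 1) (h2 : v 2 = w 2)
    (h3 : v 3 = w 3) : v = w := by
  ext i
  fin_cases i
  · exact h0
  · exact h1
  · exact h2
  · exact h3

lemma Tm_e0 (a b : F) : Tm s a b *ᵥ e0 = e0 := by
  rw [Tm_mulVec]
  apply vec4_ext <;> simp

lemma Dm_e0 (t : F) : Dm s t *ᵥ e0 = (t * s t) • (e0 : Fin 4 → F) := by
  rw [Dm_mulVec]
  apply vec4_ext <;> simp

lemma Wm_e0 : (Wm : Matrix (Fin 4) (Fin 4) F) *ᵥ e0 = Pv s 0 0 := by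
  rw [Wm_mulVec]
  apply vec4_ext <;> simp [ff]

lemma Wm_Pv00 : (Wm : Matrix (Fin 4) (Fin 4) F) *ᵥ Pv s 0 0 = e0 := by
  rw [Wm_mulVec]
  apply vec4_ext <;> simp [ff]

variable [CharP F 2] (hs : ∀ x, s (s x) = x ^ 2)

include hs in
lemma Tm_Pv (a b x y : F) : Tm s a b *ᵥ Pv s x y = Pv s (x + a) (y + b + s a * x) := by
  rw [Tm_mulVec]
  apply vec4_ext
  · simp only [Pv_apply_zero, Pv_apply_one, Pv_apply_two, Pv_apply_three]
    rw [ff_translate s hs]
    simp
  · simp; ring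
  · simp
  · simp

include hs in
lemma Dm_Pv {t : F} (ht : t ≠ 0) (x y : F) :
    Dm s t *ᵥ Pv s x y = (t * s t)⁻¹ • Pv s (s t * x) (t ^ 2 * s t * y) := by
  have hst : s t ≠ 0 := by simpa using ht
  rw [Dm_mulVec]
  apply vec4_ext
  · simp only [Pi.smul_apply, Pv_apply_zero, smul_eq_mul]
    rw [ff_scale s hs]
    simp
    field_simp
  · simp
    field_simp
  · simp
    field_simp
  · simp

include hs in
lemma Wm_Pv {x y : F} (hz : ff s x y ≠ 0) :
    (Wm : Matrix (Fin 4) (Fin 4) F) *ᵥ Pv s x y =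
      ff s x y • Pv s (y / ff s x y) (x / ff s x y) := by
  rw [Wm_mulVec]
  apply vec4_ext
  · simp only [Pi.smul_apply, Pv_apply_zero, smul_eq_mul]
    rw [ff_inv s hs hz]
    simp [hz]
  · simp
    field_simp
  · simp
    field_simp
  · simp

include hs in
lemma Tm_mul (a b a' b' : F) : Tm s a b * Tm s a' b' = Tm s (a + a') (b + b' + s a * a') := by
  have h2 : (2 : F) = 0 := CharTwo.two_eq_zero
  have h := ff_translate s hs a b a' b'
  ext i j
  fin_cases i <;> fin_cases j <;>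
    simp [Tm, Matrix.mul_apply, Fin.sum_univ_four] <;> try ring_nf
  · linear_combination (-(a' * s a)) * h2
  · rw [add_comm a a', h]; ring

lemma Tm_zero : Tm s 0 0 = 1 := by
  ext i j
  fin_cases i <;> fin_cases j <;> simp [Tm, ff]

end mat

end Cfsg.Agent.Lib.Helper6.Sz
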