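import Cfsg.Agent.Lib.Helper6.SzSylow

set_option autoImplicit false

/-! # Overgroups of a Sylow 2-subgroup of a Suzuki group; reality of 2-elements -/

namespace Cfsg.Agent.Lib.Helper6.Sz

open Matrix
open scoped Pointwise commutatorElement

section general

lemma sylow_transfer {G : Type*} [Group G] {p : ℕ} [Fact p.Prime] [Finite (Sylow p G)]
    (Pr : Subgroup G → Prop)
    (hconj : ∀ (H : Subgroup G) (x : G), Pr H → Pr (H.map (MulAut.conj x).toMonoidHom))
    (Q P : Sylow p G) (hQ : Pr Q) : Pr P := by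
  obtain ⟨x, hx⟩ := MulAction.exists_smul_eq G Q P
  have : (P : Subgroup G) = (Q : Subgroup G).map (MulAut.conj x).toMonoidHom := by
    rw [← hx]; rfl
  rw [this]; exact hconj _ x hQ

lemma isCoatom_map_equiv {G : Type*} [Group G] (e : G ≃* G) (K : Subgroup G) :
    IsCoatom (K.map e.toMonoidHom) ↔ IsCoatom K :=
  (OrderIso.isCoatom_iff (MulEquiv.mapSubgroup e) K)

lemma coatom_prop_conj {G : Type*} [Group G] (H : Subgroup G) (e : G ≃* G)
    (h : IsCoatom (Subgroup.normalizer (H : Set G)) ∧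
      ∀ M : Subgroup G, IsCoatom M → H ≤ M → M = Subgroup.normalizer (H : Set G)) :
    IsCoatom (Subgroup.normalizer ((H.map e.toMonoidHom : Subgroup G) : Set G)) ∧
      ∀ M : Subgroup G, IsCoatom M →
      H.map e.toMonoidHom ≤ M → M = Subgroup.normalizer ((H.map e.toMonoidHom : Subgroup G) : Set G) := by
  rw [← Subgroup.map_equiv_normalizer_eq]
  refine ⟨(isCoatom_map_equiv e _).2 h.1, ?_⟩
  intro M hM hle
  have hM' : IsCoatom (M.map e.symm.toMonoidHom) := (isCoatom_map_equiv e.symm M).2 hM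
  have hle' : H ≤ M.map e.symm.toMonoidHom := by
    intro x hx
    exact ⟨e x, hle ⟨x, hx, rfl⟩, by simp⟩
  have := h.2 _ hM' hle'
  rw [← this, Subgroup.map_map]
  ext y
  simp

end general

section max
variable {F : Type*} [Field F] [CharP F 2] [Finite F] (s : F →+* F)
  (hs : ∀ x, s (s x) = x ^ 2)

include hs in
omit [Finite F] in
lemma key_identity {c : F} (hc : c ≠ 0) :
    Wm * Tm s 0 c * Wm = Tm s (c / s c) 0 * Wm * Tm s (s c / c) c * Dm s (c ^ 2 / s c) := by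
  have h2 : (2 : F) = 0 := CharTwo.two_eq_zero
  have hsc : s c ≠ 0 := by simpa using hc
  have h11 : (1 : F) + 1 = 0 := by linear_combination h2
  ext i j
  fin_cases i <;> fin_cases j <;>
    simp [Tm, Dm, Wm, ff, Matrix.mul_apply, Fin.sum_univ_four, hs, map_div₀] <;> field_simp <;>
    simp [h11]

lemma key_identity_g {c : F} (hc : c ≠ 0) (u : Fˣ) (hu : (u : F) = c ^ 2 / s c) :
    Wg s hs * Tg s hs 0 c * Wg s hs =
      Tg s hs (c / s c) 0 * Wg s hs * Tg s hs (s c / c) c * Dg s hs u := by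
  apply Subtype.ext; apply Subtype.ext
  show Wm * Tm s 0 c * Wm = Tm s (c / s c) 0 * Wm * Tm s (s c / c) c * Dm s (u : F)
  rw [hu]
  exact key_identity s hs hc

include hs in
lemma exists_sq_div_s_eq {t : F} (ht : t ≠ 0) : ∃ c : F, c ≠ 0 ∧ c ^ 2 / s c = t := by
  have h2 : (2 : F) = 0 := CharTwo.two_eq_zero
  let κ : Fˣ →* Fˣ :=
    { toFun := fun c => c ^ 2 * (Units.map (s : F →* F) c)⁻¹
      map_one' := by simp
      map_mul' := by intro a b; simp [mul_pow, mul_mul_mul_comm, mul_comm] }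
  have hinj : Function.Injective κ := by
    rw [injective_iff_map_eq_one]
    intro c hc
    have h1 : (c : F) ^ 2 = s c := by
      have := congrArg Units.val hc
      simp [κ] at this
      have hsc : s (c : F) ≠ 0 := by simp
      field_simp at this
      exact this
    have h3 : s (c : F) ^ 2 = (c : F) ^ 2 := by
      have := congrArg s h1
      rw [map_pow, hs] at this
      exact this
    have h4 : s (c : F) = c := by
      have : (s (c : F) - c) ^ 2 = 0 := by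
        linear_combination h3 + ((c : F) ^ 2 - s (c : F) * c) * h2
      exact sub_eq_zero.1 (pow_eq_zero_iff (two_ne_zero) |>.1 this)
    rw [h4] at h1
    apply Units.ext
    have h5 : (c : F) * ((c : F) - 1) = 0 := by linear_combination h1
    rcases mul_eq_zero.1 h5 with h6 | h6
    · exact absurd h6 c.ne_zero
    · simpa using sub_eq_zero.1 h6
  obtain ⟨c, hc⟩ := (Finite.injective_iff_surjective.1 hinj) (Units.mk0 t ht)
  refine ⟨c, c.ne_zero, ?_⟩
  have := congrArg Units.val hc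
  simpa [κ, div_eq_mul_inv] using this

lemma Tg_fix_only {a b : F} (hab : ¬(a = 0 ∧ b = 0)) {p : Ov s} (hp : Tg s hs a b • p = p) :
    p = oinf s := by
  rcases Ov_cases s p with h | ⟨x, y, h⟩
  · exact h
  · exfalso
    rw [h, Tg_smul_opt] at hp
    obtain ⟨h1, h2'⟩ := opt_inj s hp
    have ha : a = 0 := by linear_combination h1
    apply hab
    refine ⟨ha, ?_⟩
    rw [ha, map_zero, zero_mul, add_zero] at h2'
    linear_combination h2'

include hs in
lemma exists_mem_smul_pair (K : Subgroup (G s)) (hT : ∀ a b, Tg s hs a b ∈ K)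
    (hW : ∃ k ∈ K, k • oinf s ≠ oinf s) {p p' : Ov s} (h : p ≠ p') :
    ∃ k ∈ K, k • oinf s = p ∧ k • opt s 0 0 = p' := by
  have h2 : (2 : F) = 0 := CharTwo.two_eq_zero
  obtain ⟨k0, hk0, hk0'⟩ := hW
  obtain ⟨x0, y0, hxy0⟩ : ∃ x y, k0 • oinf s = opt s x y := by
    rcases Ov_cases s (k0 • oinf s) with h | h
    · exact absurd h hk0'
    · exact h
  obtain ⟨k1, hk1, hk1'⟩ : ∃ k ∈ K, k • oinf s = p := by
    rcases Ov_cases s p with h | ⟨a, b, h⟩
    · exact ⟨1, K.one_mem, by rw [one_smul, h]⟩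
    · refine ⟨Tg s hs (a + x0) (b + y0 + s (a + x0) * x0) * k0, K.mul_mem (hT _ _) hk0, ?_⟩
      rw [mul_smul, hxy0, Tg_smul_opt, h]
      congr 1
      · linear_combination x0 * h2
      · linear_combination (y0 + s (a + x0) * x0) * h2
  have hne : k1⁻¹ • p' ≠ oinf s := by
    intro h'
    apply h
    rw [← hk1', ← h', smul_inv_smul]
  rcases Ov_cases s (k1⁻¹ • p') with h' | ⟨a, b, h'⟩
  · exact absurd h' hne
  · refine ⟨k1 * Tg s hs a b, K.mul_mem hk1 (hT a b), ?_, ?_⟩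
    · rw [mul_smul, Tg_smul_oinf, hk1']
    · rw [mul_smul, Tg_smul_opt00, ← h', smul_inv_smul]

include hs in
/-- a subgroup containing the unipotent group and an element moving `∞` is everything. -/
theorem eq_top_of_Tg_mem (hnt : ∃ y : F, s y ≠ y ^ 2) (K : Subgroup (G s))
    (hT : ∀ a b, Tg s hs a b ∈ K) (hW : ∃ k ∈ K, k • oinf s ≠ oinf s) : K = ⊤ := by
  apply eq_top_of_mem s hs hnt K hT ?_ hW
  obtain ⟨w', hw'K, hw1, hw2⟩ := exists_mem_smul_pair s hs K hT hW (p := opt s 0 0)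
    (p' := oinf s) (opt_ne_oinf s 0 0)
  have f1 : ((Wg s hs)⁻¹ * w') • oinf s = oinf s := by
    rw [mul_smul, hw1, inv_smul_eq_iff, Wg_smul_oinf]
  have f2 : ((Wg s hs)⁻¹ * w') • opt s 0 0 = opt s 0 0 := by
    rw [mul_smul, hw2, inv_smul_eq_iff, Wg_smul_opt00]
  obtain ⟨t0, ht0⟩ := eq_Dg_of_fix s hs hnt f1 f2
  have hw' : w' = Wg s hs * Dg s hs t0 := by rw [← ht0]; group
  have hWg : Wg s hs = w' * Dg s hs t0⁻¹ := by
    rw [hw', mul_assoc, ← Dg_mul, mul_inv_cancel, Dg_one, mul_one]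
  intro t
  have htt : ((t0 * t : Fˣ) : F) ≠ 0 := (t0 * t).ne_zero
  obtain ⟨c2, hc2, hc2t⟩ := exists_sq_div_s_eq s hs htt
  have hst0 : s (t0 : F) ≠ 0 := by simp
  set c := c2 / ((t0 : F) ^ 2 * s t0) with hc
  have hmem : w' * Tg s hs 0 c * w'⁻¹ ∈ K :=
    K.mul_mem (K.mul_mem hw'K (hT 0 c)) (K.inv_mem hw'K)
  have e1 : w' * Tg s hs 0 c * w'⁻¹ = Wg s hs * Tg s hs 0 c2 * Wg s hs := by
    have e2 : Dg s hs t0 * Tg s hs 0 c = Tg s hs 0 c2 * Dg s hs t0 := by
      rw [Dg_mul_Tg]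
      congr 2
      · simp
      · rw [hc]; field_simp
    rw [hw', _root_.mul_inv_rev, Wg_inv, mul_assoc (Wg s hs), e2]
    group
  rw [e1, key_identity_g s hs hc2 (t0 * t) hc2t.symm, hWg] at hmem
  have e3 : Dg s hs t0⁻¹ * Tg s hs (s c2 / c2) c2 =
      Tg s hs (s ((t0⁻¹ : Fˣ) : F) * (s c2 / c2))
        (((t0⁻¹ : Fˣ) : F) ^ 2 * s ((t0⁻¹ : Fˣ) : F) * c2) * Dg s hs t0⁻¹ := Dg_mul_Tg s hs _ _ _
  set X := Tg s hs (c2 / s c2) 0 * w' * Tg s hs (s ((t0⁻¹ : Fˣ) : F) * (s c2 / c2))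
        (((t0⁻¹ : Fˣ) : F) ^ 2 * s ((t0⁻¹ : Fˣ) : F) * c2) with hX
  have hXK : X ∈ K := K.mul_mem (K.mul_mem (hT _ _) hw'K) (hT _ _)
  have e4 : Tg s hs (c2 / s c2) 0 * (w' * Dg s hs t0⁻¹) * Tg s hs (s c2 / c2) c2 *
      Dg s hs (t0 * t) = X * Dg s hs t := by
    rw [hX]
    calc Tg s hs (c2 / s c2) 0 * (w' * Dg s hs t0⁻¹) * Tg s hs (s c2 / c2) c2 *
          Dg s hs (t0 * t)
        = Tg s hs (c2 / s c2) 0 * w' * (Dg s hs t0⁻¹ * Tg s hs (s c2 / c2) c2) *
          Dg s hs (t0 * t) := by group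
      _ = Tg s hs (c2 / s c2) 0 * w' * Tg s hs (s ((t0⁻¹ : Fˣ) : F) * (s c2 / c2))
          (((t0⁻¹ : Fˣ) : F) ^ 2 * s ((t0⁻¹ : Fˣ) : F) * c2) *
          (Dg s hs t0⁻¹ * Dg s hs (t0 * t)) := by rw [e3]; group
      _ = _ := by rw [← Dg_mul, inv_mul_cancel_left]
  rw [e4] at hmem
  have : Dg s hs t = X⁻¹ * (X * Dg s hs t) := by group
  rw [this]
  exact K.mul_mem (K.inv_mem hXK) hmem

lemma Qs_le_iff (K : Subgroup (G s)) : Qs s hs ≤ K ↔ ∀ a b, Tg s hs a b ∈ K := by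
  constructor
  · intro h a b
    exact h ⟨a, b, rfl⟩
  · rintro h _ ⟨a, b, rfl⟩
    exact h a b

lemma conj_mem_Qs (hnt : ∃ y : F, s y ≠ y ^ 2) {k : G s} (hk : k ∈ Bs s) {h : G s}
    (hh : h ∈ Qs s hs) : k * h * k⁻¹ ∈ Qs s hs := by
  obtain ⟨a', b', t, hkk⟩ := exists_Tg_Dg s hs hnt ⟨k, hk⟩
  have hkk' : k = Tg s hs a' b' * Dg s hs t := hkk
  obtain ⟨a, b, rfl⟩ := hh
  have e : k * Tg s hs a b * k⁻¹ = Tg s hs a' b' *
      Tg s hs (s t * a) ((t : F) ^ 2 * s t * b) * (Tg s hs a' b')⁻¹ := by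
    rw [hkk', _root_.mul_inv_rev, mul_assoc (Tg s hs a' b'), Dg_mul_Tg]
    group
  rw [e]
  exact (Qs s hs).mul_mem ((Qs s hs).mul_mem ⟨_, _, rfl⟩ ⟨_, _, rfl⟩)
    ((Qs s hs).inv_mem ⟨_, _, rfl⟩)

include hs in
theorem normalizer_Qs (hnt : ∃ y : F, s y ≠ y ^ 2) :
    Subgroup.normalizer ((Qs s hs : Subgroup (G s)) : Set (G s)) = Bs s := by
  ext k
  rw [Subgroup.mem_normalizer_iff]
  constructor
  · intro h
    have h1 : k * Tg s hs 0 1 * k⁻¹ ∈ Qs s hs := (h _).1 ⟨0, 1, rfl⟩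
    obtain ⟨a, b, hab⟩ := h1
    have h2 : (k * Tg s hs 0 1 * k⁻¹) • oinf s = oinf s := by
      rw [hab, Tg_smul_oinf]
    have h3 : Tg s hs 0 1 • (k⁻¹ • oinf s) = k⁻¹ • oinf s := by
      rw [mul_smul, mul_smul] at h2
      exact eq_inv_smul_iff.2 h2
    have h4 := Tg_fix_only s hs (a := 0) (b := 1) (by simp) h3
    rw [MulAction.mem_stabilizer_iff]
    rw [inv_smul_eq_iff] at h4
    exact h4.symm
  · intro hk h
    constructor
    · exact conj_mem_Qs s hs hnt hk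
    · intro hh
      have := conj_mem_Qs s hs hnt ((Bs s).inv_mem hk) hh
      have e : k⁻¹ * (k * h * k⁻¹) * k⁻¹⁻¹ = h := by group
      rw [e] at this
      exact this

include hs in
theorem coatom_Qs (hnt : ∃ y : F, s y ≠ y ^ 2) :
    IsCoatom (Subgroup.normalizer ((Qs s hs : Subgroup (G s)) : Set (G s))) ∧
      ∀ M : Subgroup (G s), IsCoatom M → Qs s hs ≤ M →
        M = Subgroup.normalizer ((Qs s hs : Subgroup (G s)) : Set (G s)) := by
  rw [normalizer_Qs s hs hnt]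
  have hprim : MulAction.IsPreprimitive (G s) (Ov s) :=
    MulAction.isPreprimitive_of_is_two_pretransitive (is_two_trans s hs)
  have hnt' : Nontrivial (Ov s) := ⟨⟨oinf s, opt s 0 0, (opt_ne_oinf s 0 0).symm⟩⟩
  have hco : IsCoatom (Bs s) :=
    MulAction.IsPreprimitive.isCoatom_stabilizer_of_isPreprimitive (G s) (oinf s)
  refine ⟨hco, ?_⟩
  intro M hM hle
  by_cases hMB : M ≤ Bs s
  · by_contra hne
    have hlt : M < Bs s := lt_of_le_of_ne hMB hne
    exact hco.1 (hM.2 _ hlt)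
  · exfalso
    obtain ⟨m, hm, hmB⟩ := SetLike.not_le_iff_exists.1 hMB
    apply hM.1
    apply eq_top_of_Tg_mem s hs hnt M ((Qs_le_iff s hs M).1 hle)
    refine ⟨m, hm, ?_⟩
    intro h
    exact hmB (MulAction.mem_stabilizer_iff.2 h)

include hs in
theorem sylow_normalizer_coatom (hnt : ∃ y : F, s y ≠ y ^ 2) {k : ℕ}
    (hk : Nat.card F = 2 ^ k) (P : Sylow 2 (G s)) :
    IsCoatom (Subgroup.normalizer ((P : Subgroup (G s)) : Set (G s))) ∧
      ∀ M : Subgroup (G s), IsCoatom M → (P : Subgroup (G s)) ≤ M →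
        M = Subgroup.normalizer ((P : Subgroup (G s)) : Set (G s)) := by
  have : Fact (Nat.Prime 2) := ⟨Nat.prime_two⟩
  exact sylow_transfer (fun H : Subgroup (G s) =>
      IsCoatom (Subgroup.normalizer (H : Set (G s))) ∧
      ∀ M : Subgroup (G s), IsCoatom M → H ≤ M → M = Subgroup.normalizer (H : Set (G s)))
    (fun H x h => coatom_prop_conj H (MulAut.conj x) h) (Q0 s hs hnt hk) P
    (coatom_Qs s hs hnt)

end max

end Cfsg.Agent.Lib.Helper6.Sz
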