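import Mathlib

set_option autoImplicit false

/-! # Generic lemmas on central extensions, for Schur multiplier computations -/

namespace Cfsg.Agent.Lib.Helper6.SzMult

open scoped commutatorElement

section transfer
variable {Γ : Type*} [Group Γ]

/-- transfer of a central element of the commutator subgroup: its `index`-th power lies in the
commutator subgroup of the subgroup. -/
lemma pow_index_mem_commutator (P : Subgroup Γ) [P.FiniteIndex] {z : Γ}
    (hzc : z ∈ Subgroup.center Γ) (hz : z ∈ commutator Γ) :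
    ∃ w : P, w ∈ commutator P ∧ (w : Γ) = z ^ P.index := by
  have key : ∀ (k : ℕ) (g₀ : Γ), g₀⁻¹ * z ^ k * g₀ ∈ P → g₀⁻¹ * z ^ k * g₀ = z ^ k := by
    intro k g₀ _
    have h1 : z ^ k ∈ Subgroup.center Γ := Subgroup.pow_mem _ hzc k
    rw [Subgroup.mem_center_iff] at h1
    rw [mul_assoc, ← h1 g₀, ← mul_assoc, inv_mul_cancel, one_mul]
  have h1 := MonoidHom.transfer_eq_pow (Abelianization.of : P →* Abelianization P) z key
  have h2 : MonoidHom.transfer (Abelianization.of : P →* Abelianization P) z = 1 := by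
    have := Abelianization.commutator_subset_ker
      (MonoidHom.transfer (Abelianization.of : P →* Abelianization P)) hz
    exact this
  rw [h2] at h1
  refine ⟨⟨z ^ P.index, MonoidHom.transfer_eq_pow_aux z key⟩, ?_, rfl⟩
  rw [← Abelianization.ker_of, MonoidHom.mem_ker, ← h1]

end transfer

section central
variable {Γ G : Type*} [Group Γ] [Group G] (σ : Γ →* G) (hZ : σ.ker ≤ Subgroup.center Γ)

include hZ in
lemma comm_of_map_eq_one {x : Γ} (hx : σ x = 1) (g : Γ) : g * x = x * g := by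
  have h1 : x ∈ Subgroup.center Γ := hZ (MonoidHom.mem_ker.2 hx)
  exact (Subgroup.mem_center_iff.1 h1 g)

include hZ in
/-- commutators only depend on the images. -/
lemma comm_congr {a a' b b' : Γ} (ha : σ a = σ a') (hb : σ b = σ b') : ⁅a, b⁆ = ⁅a', b'⁆ := by
  obtain ⟨ζ, hζ⟩ : ∃ ζ, ζ = a⁻¹ * a' := ⟨_, rfl⟩
  obtain ⟨ξ, hξ⟩ : ∃ ξ, ξ = b⁻¹ * b' := ⟨_, rfl⟩
  have hζ1 : σ ζ = 1 := by rw [hζ, map_mul, map_inv, ha, inv_mul_cancel]
  have hξ1 : σ ξ = 1 := by rw [hξ, map_mul, map_inv, hb, inv_mul_cancel]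
  have hζc := comm_of_map_eq_one σ hZ hζ1
  have hξc := comm_of_map_eq_one σ hZ hξ1
  have ha' : a' = a * ζ := by rw [hζ, mul_inv_cancel_left]
  have hb' : b' = b * ξ := by rw [hξ, mul_inv_cancel_left]
  rw [ha', hb', commutatorElement_def, commutatorElement_def]
  have e1 : a * ζ * (b * ξ) * (a * ζ)⁻¹ * (b * ξ)⁻¹ =
      a * (ζ * (b * ξ) * ζ⁻¹) * a⁻¹ * (ξ⁻¹ * b⁻¹) := by group
  have e2 : ζ * (b * ξ) * ζ⁻¹ = b * ξ := by rw [← hζc, mul_inv_cancel_right]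
  have e3 : a * (b * ξ) * a⁻¹ * (ξ⁻¹ * b⁻¹) = a * b * (ξ * a⁻¹ * ξ⁻¹) * b⁻¹ := by group
  have e4 : ξ * a⁻¹ * ξ⁻¹ = a⁻¹ := by rw [← hξc, mul_inv_cancel_right]
  rw [e1, e2, e3, e4]

include hZ in
/-- a subgroup with cyclic image is commutative. -/
lemma comm_of_map_isCyclic (P : Subgroup Γ) (hc : IsCyclic (P.map σ)) {a b : Γ} (ha : a ∈ P)
    (hb : b ∈ P) : a * b = b * a := by
  obtain ⟨⟨g, hg⟩, hgen⟩ := hc.exists_generator
  obtain ⟨x, hxP, hxg⟩ := Subgroup.mem_map.1 hg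
  have key : ∀ y ∈ P, ∃ k : ℤ, σ y = σ (x ^ k) := by
    intro y hy
    have hy' : σ y ∈ P.map σ := Subgroup.mem_map_of_mem σ hy
    obtain ⟨k, hk⟩ := Subgroup.mem_zpowers_iff.1 (hgen ⟨σ y, hy'⟩)
    refine ⟨k, ?_⟩
    have := congrArg Subtype.val hk
    simp only [Subgroup.coe_zpow] at this
    rw [map_zpow, hxg, this]
  obtain ⟨k, hk⟩ := key a ha
  obtain ⟨l, hl⟩ := key b hb
  have h1 : ⁅a, b⁆ = ⁅x ^ k, x ^ l⁆ := comm_congr σ hZ hk hl
  have h2 : ⁅x ^ k, x ^ l⁆ = 1 := by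
    rw [commutatorElement_eq_one_iff_commute]
    exact (Commute.refl x).zpow_zpow k l
  rw [h2, commutatorElement_eq_one_iff_commute] at h1
  exact h1

end central

section commid
variable {Γ : Type*} [Group Γ]

lemma comm_mul_left_of_central {x y w : Γ} (hc : ∀ g : Γ, g * ⁅y, w⁆ = ⁅y, w⁆ * g) :
    ⁅x * y, w⁆ = ⁅x, w⁆ * ⁅y, w⁆ := by
  have e : ⁅x * y, w⁆ = x * ⁅y, w⁆ * x⁻¹ * ⁅x, w⁆ := by
    simp only [commutatorElement_def]; group
  rw [e, hc x, mul_inv_cancel_right, ← hc]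

lemma comm_mul_right_of_central {x y w : Γ} (hc : ∀ g : Γ, g * ⁅w, y⁆ = ⁅w, y⁆ * g) :
    ⁅w, x * y⁆ = ⁅w, x⁆ * ⁅w, y⁆ := by
  have e : ⁅w, x * y⁆ = ⁅w, x⁆ * (x * ⁅w, y⁆ * x⁻¹) := by
    simp only [commutatorElement_def]; group
  rw [e, hc x, mul_inv_cancel_right]

end commid

end Cfsg.Agent.Lib.Helper6.SzMult
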