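import Mathlib

set_option autoImplicit false

/-! # Invariant biadditive maps on a finite field of characteristic two -/

namespace Cfsg.Agent.Lib.Helper6.SzMult

open Polynomial

section poly
variable {F : Type*} [Field F] [Fintype F] [DecidableEq F]

/-- a nonzero polynomial of small degree has a non-root outside `{0, 1}`. -/
lemma exists_nonroot (P : F[X]) (hP : P ≠ 0) (hdeg : P.natDegree + 2 < Fintype.card F) :
    ∃ t : F, t ≠ 0 ∧ t ≠ 1 ∧ P.eval t ≠ 0 := by
  by_contra hcon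
  push Not at hcon
  have hsub : ((Finset.univ.erase (0 : F)).erase 1).val ⊆ P.roots := by
    intro t ht
    have ht' : t ∈ (Finset.univ.erase (0 : F)).erase 1 := ht
    rw [Finset.mem_erase, Finset.mem_erase] at ht'
    rw [Polynomial.mem_roots hP]
    exact hcon t ht'.2.1 ht'.1
  have h1 := Polynomial.card_le_degree_of_subset_roots hsub
  have h2 : ((Finset.univ.erase (0 : F)).erase 1).card = Fintype.card F - 2 := by
    rw [Finset.card_erase_of_mem, Finset.card_erase_of_mem (Finset.mem_univ _), Finset.card_univ]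
    · rfl
    · rw [Finset.mem_erase]
      exact ⟨one_ne_zero, Finset.mem_univ _⟩
  omega

end poly

section forms
variable {F : Type*} [Field F] [CharP F 2] {M : Type*} [CommGroup M]

/-- a biadditive map invariant under simultaneous scaling is trivial. -/
lemma biadd_invariant_trivial (c : F → F → M)
    (hl : ∀ x x' y, c (x + x') y = c x y * c x' y)
    (hr : ∀ x y y', c x (y + y') = c x y * c x y')
    (hinv : ∀ μ x y, μ ≠ 0 → c (μ * x) (μ * y) = c x y)
    (hρ : ∃ ρ : F, ρ ≠ 0 ∧ ρ ≠ 1 ∧ ρ ^ 2 + ρ + 1 ≠ 0) : ∀ x y, c x y = 1 := by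
  obtain ⟨ρ, hρ0, hρ1, hρ2⟩ := hρ
  have hc0 : ∀ y, c 0 y = 1 := by
    intro y
    have := hl 0 0 y
    rw [add_zero] at this
    exact (mul_eq_left.1 this.symm)
  obtain ⟨f, hf⟩ : ∃ f : F → M, f = fun y => c 1 y := ⟨_, rfl⟩
  have hfy : ∀ y, f y = c 1 y := fun y => by rw [hf]
  have hfadd : ∀ y y', f (y + y') = f y * f y' := by
    intro y y'; rw [hfy, hfy, hfy, hr]
  have hcx : ∀ x y, x ≠ 0 → c x y = f (y / x) := by
    intro x y hx
    rw [hfy, ← hinv x 1 (y / x) hx, mul_one, mul_div_cancel₀ _ hx]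
  have h1ρ : 1 + ρ ≠ 0 := by
    intro h
    apply hρ1
    have := CharTwo.add_eq_zero.1 h
    exact this.symm
  have key : ∀ y, f (y / (1 + ρ)) = f y * f (y / ρ) := by
    intro y
    rw [← hcx (1 + ρ) y h1ρ, hl, hcx ρ y hρ0, hfy y]
  have hall : ∀ w, f ((ρ ^ 2 + ρ + 1) * w) = 1 := by
    intro w
    have h := key ((1 + ρ) * ρ * w)
    have e1 : (1 + ρ) * ρ * w / (1 + ρ) = ρ * w := by field_simp
    have e2 : (1 + ρ) * ρ * w / ρ = w + ρ * w := by field_simp
    have e3 : (1 + ρ) * ρ * w = ρ * w + ρ ^ 2 * w := by ring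
    rw [e1, e2, e3, hfadd, hfadd] at h
    have e4 : (ρ ^ 2 + ρ + 1) * w = ρ ^ 2 * w + ρ * w + w := by ring
    rw [e4, hfadd, hfadd]
    have h' : f (ρ * w) * 1 = f (ρ * w) * (f (ρ ^ 2 * w) * (f w * f (ρ * w))) := by
      rw [mul_one]
      calc f (ρ * w) = f (ρ * w) * f (ρ ^ 2 * w) * (f w * f (ρ * w)) := h
        _ = _ := by rw [mul_assoc]
    have h'' := mul_left_cancel h'
    rw [h'']
    ac_rfl
  have hf1 : ∀ y, f y = 1 := by
    intro y
    have := hall (y / (ρ ^ 2 + ρ + 1))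
    rwa [mul_div_cancel₀ _ hρ2] at this
  intro x y
  by_cases hx : x = 0
  · rw [hx, hc0]
  · rw [hcx x y hx, hf1]

/-- a biadditive map invariant under the twisted scaling of the Suzuki torus is trivial. -/
lemma twisted_invariant_trivial (s : F →+* F) (hsurj : Function.Surjective s) (β : F → F → M)
    (hl : ∀ x x' b, β (x + x') b = β x b * β x' b)
    (hr : ∀ x b b', β x (b + b') = β x b * β x b')
    (hinv : ∀ t x b, t ≠ 0 → β (s t * x) (t ^ 2 * s t * b) = β x b)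
    (ht : ∃ t : F, t ≠ 0 ∧ t ≠ 1 ∧
      t ^ 2 * s t + (t + 1) ^ 2 * s (t + 1) + (t ^ 2 * s t) * ((t + 1) ^ 2 * s (t + 1)) ≠ 0) :
    ∀ x b, β x b = 1 := by
  obtain ⟨t, ht0, ht1, hE⟩ := ht
  have hβ0 : ∀ b, β 0 b = 1 := by
    intro b
    have := hl 0 0 b
    rw [add_zero] at this
    exact (mul_eq_left.1 this.symm)
  have hβ00 : ∀ x, β x 0 = 1 := by
    intro x
    have := hr x 0 0
    rw [add_zero] at this
    exact (mul_eq_left.1 this.symm)
  obtain ⟨g, hg⟩ : ∃ g : F → M, g = fun b => β 1 b := ⟨_, rfl⟩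
  have hgb : ∀ b, g b = β 1 b := fun b => by rw [hg]
  have hgadd : ∀ b b', g (b + b') = g b * g b' := by
    intro b b'; rw [hgb, hgb, hgb, hr]
  have hgsq : ∀ b, g b * g b = 1 := by
    intro b
    rw [← hgadd, CharTwo.add_self_eq_zero, hgb, hβ00]
  obtain ⟨κ, hκ⟩ : ∃ κ : F → F, κ = fun t => t ^ 2 * s t := ⟨_, rfl⟩
  have hκt : ∀ t, κ t = t ^ 2 * s t := fun t => by rw [hκ]
  have hκ0 : ∀ t, t ≠ 0 → κ t ≠ 0 := by
    intro t ht
    rw [hκt]
    exact mul_ne_zero (pow_ne_zero 2 ht) ((map_ne_zero s).2 ht)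
  have hβs : ∀ t b, t ≠ 0 → β (s t) b = g (b / κ t) := by
    intro t b ht
    rw [hgb, ← hinv t 1 (b / κ t) ht, mul_one, ← hκt, mul_div_cancel₀ _ (hκ0 t ht)]
  have ht1' : t + 1 ≠ 0 := by
    intro h
    exact ht1 (CharTwo.add_eq_zero.1 h)
  have key : ∀ b, g (b / κ (t + 1)) = g (b / κ t) * g b := by
    intro b
    rw [← hβs (t + 1) b ht1', map_add, map_one, hl, hβs t b ht0, hgb b]
  rw [← hκt, ← hκt] at hE
  have hall : ∀ b, g (b * (1 / κ (t + 1) + 1 / κ t + 1)) = 1 := by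
    intro b
    have e : b * (1 / κ (t + 1) + 1 / κ t + 1) = b / κ (t + 1) + b / κ t + b := by ring
    rw [e, hgadd, hgadd, key]
    calc g (b / κ t) * g b * g (b / κ t) * g b = (g (b / κ t) * g (b / κ t)) * (g b * g b) := by
          ac_rfl
      _ = 1 := by rw [hgsq, hgsq, mul_one]
  have hE' : 1 / κ (t + 1) + 1 / κ t + 1 ≠ 0 := by
    have h1 := hκ0 t ht0
    have h2 := hκ0 (t + 1) ht1'
    intro h
    apply hE
    field_simp at h
    linear_combination h
  have hg1 : ∀ b, g b = 1 := by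
    intro b
    have := hall (b / (1 / κ (t + 1) + 1 / κ t + 1))
    rwa [div_mul_cancel₀ _ hE'] at this
  intro x b
  by_cases hx : x = 0
  · rw [hx, hβ0]
  · obtain ⟨t', rfl⟩ := hsurj x
    have ht' : t' ≠ 0 := by
      intro h
      apply hx
      rw [h, map_zero]
    rw [hβs t' b ht', hg1]

end forms

section witnesses
variable {F : Type*} [Field F] [Fintype F]

lemma exists_rho (hcard : 4 < Fintype.card F) :
    ∃ ρ : F, ρ ≠ 0 ∧ ρ ≠ 1 ∧ ρ ^ 2 + ρ + 1 ≠ 0 := by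
  classical
  have hP : (X ^ 2 + X + 1 : F[X]) ≠ 0 := by
    intro h
    have := congrArg (Polynomial.eval 0) h
    simp at this
  have hdeg : (X ^ 2 + X + 1 : F[X]).natDegree ≤ 2 := by compute_degree
  obtain ⟨ρ, h0, h1, h2⟩ := exists_nonroot (X ^ 2 + X + 1 : F[X]) hP (by omega)
  refine ⟨ρ, h0, h1, ?_⟩
  simpa using h2

lemma exists_good_t (s : F →+* F) {r : ℕ} (hsr : ∀ x, s x = x ^ r)
    (hcard : 2 * r + 6 < Fintype.card F) :
    ∃ t : F, t ≠ 0 ∧ t ≠ 1 ∧
      t ^ 2 * s t + (t + 1) ^ 2 * s (t + 1) + (t ^ 2 * s t) * ((t + 1) ^ 2 * s (t + 1)) ≠ 0 := by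
  classical
  obtain ⟨P, hPdef⟩ : ∃ P : F[X], P = X ^ 2 * X ^ r + (X + 1) ^ 2 * (X + 1) ^ r +
      (X ^ 2 * X ^ r) * ((X + 1) ^ 2 * (X + 1) ^ r) := ⟨_, rfl⟩
  have hP : P ≠ 0 := by
    intro h
    have := congrArg (Polynomial.eval 0) h
    rw [hPdef] at this
    simp at this
  have hdeg : P.natDegree ≤ 2 * r + 4 := by
    rw [hPdef]
    compute_degree
    omega
  obtain ⟨t, h0, h1, h2⟩ := exists_nonroot P hP (by omega)
  refine ⟨t, h0, h1, ?_⟩
  rw [hPdef] at h2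
  simpa [hsr] using h2

end witnesses

end Cfsg.Agent.Lib.Helper6.SzMult
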