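import Cfsg.Agent.Lib.Helper6.SzSol5

set_option autoImplicit false

/-! # `p`-subgroups of Suzuki groups for odd `p` are cyclic -/

namespace Cfsg.Agent.Lib.Helper6.Sz

section oddp
variable {F : Type*} [Field F] [CharP F 2] [Finite F] (s : F →+* F)
  (hs : ∀ x, s (s x) = x ^ 2)

include hs in
/-- for odd `p`, every `p`-subgroup of a Suzuki group is cyclic. -/
theorem isCyclic_of_odd_pgroup (hnt : ∃ y : F, s y ≠ y ^ 2) {k : ℕ} (hk : Nat.card F = 2 ^ k)
    {p : ℕ} [hp : Fact p.Prime] (hp2 : p ≠ 2) (H : Subgroup (G s)) (hH : IsPGroup p H) :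
    IsCyclic H := by
  by_cases hne : Nontrivial H
  swap
  · rw [not_nontrivial_iff_subsingleton] at hne
    exact isCyclic_of_subsingleton
  have hpH : p ∣ Nat.card H := by
    obtain ⟨n, hn⟩ := IsPGroup.iff_card.1 hH
    have hn0 : n ≠ 0 := by
      rintro rfl
      rw [pow_zero] at hn
      have : 1 < Nat.card H := Finite.one_lt_card_iff_nontrivial.2 hne
      omega
    rw [hn]
    exact dvd_pow_self p hn0
  have hpG : p ∣ Nat.card (G s) := hpH.trans (Subgroup.card_subgroup_dvd_card H)
  rw [card_G s hs hnt] at hpG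
  rcases (Nat.Prime.dvd_mul hp.out).1 hpG with h | h
  · -- p ∣ q² + 1
    have hcen := IsPGroup.center_nontrivial hH
    obtain ⟨⟨x, hxc⟩, hx1⟩ := exists_ne (1 : Subgroup.center H)
    have hx1' : x ≠ 1 := fun h' => hx1 (Subtype.ext h')
    obtain ⟨j, hj⟩ := (IsPGroup.iff_orderOf.1 hH) x
    have hj0 : j ≠ 0 := by
      rintro rfl
      rw [pow_zero, orderOf_eq_one_iff] at hj
      exact hx1' hj
    have hpx : p ∣ orderOf x := by rw [hj]; exact dvd_pow_self p hj0
    have hn0 : orderOf x ≠ 0 := (orderOf_pos x).ne'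
    have hxo : orderOf (x ^ (orderOf x / p)) = p := orderOf_pow_orderOf_div hn0 hpx
    obtain ⟨y, hy⟩ : ∃ y : H, y = x ^ (orderOf x / p) := ⟨_, rfl⟩
    rw [← hy] at hxo
    have hyc : ∀ g : H, g * y = y * g := by
      intro g
      rw [hy]
      have := Subgroup.pow_mem _ hxc (orderOf x / p)
      exact (Subgroup.mem_center_iff.1 this g)
    have hyp : (y : G s) ^ p = 1 := by
      have := pow_orderOf_eq_one y
      rw [hxo] at this
      exact_mod_cast congrArg Subtype.val this
    have hy1 : (y : G s) ≠ 1 := by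
      intro h'
      have : y = 1 := Subtype.ext h'
      rw [this, orderOf_one] at hxo
      exact hp.out.one_lt.ne hxo
    apply isCyclic_of_centralizes s hp2 h hyp hy1 H
    intro g hg
    exact congrArg Subtype.val (hyc ⟨g, hg⟩)
  · rcases (Nat.Prime.dvd_mul hp.out).1 h with h | h
    · exfalso
      rw [hk, ← pow_mul] at h
      exact hp2 ((Nat.prime_dvd_prime_iff_eq hp.out Nat.prime_two).1 (hp.out.dvd_of_dvd_pow h))
    · obtain ⟨a, b, hab, hset⟩ := two_fixed_of_pgroup s hs hnt hp2 h H hH hne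
      have ha : a ∈ MulAction.fixedPoints H (Ov s) := by rw [hset]; simp
      have hb : b ∈ MulAction.fixedPoints H (Ov s) := by rw [hset]; simp
      apply isCyclic_of_fix_two s hs hnt hab H
      · intro g hg
        exact ha ⟨g, hg⟩
      · intro g hg
        exact hb ⟨g, hg⟩

end oddp

end Cfsg.Agent.Lib.Helper6.Sz
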