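import Cfsg.Agent.Lib.Helper6.SzMult1
import Cfsg.Agent.Lib.Helper6.SzMult2
import Cfsg.Agent.Lib.Helper6.SzMult3

set_option autoImplicit false

/-! # Central extensions of the Sylow `2`-subgroup of a Suzuki group -/

namespace Cfsg.Agent.Lib.Helper6.Sz

open scoped commutatorElement IsMulCommutative
open Cfsg.Agent.Lib.Helper6.SzMult

section grp
variable {Γ : Type*} [Group Γ]

lemma conj_bracket (v x y : Γ) : v * ⁅x, y⁆ * v⁻¹ = ⁅v * x * v⁻¹, v * y * v⁻¹⁆ := by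
  simp only [commutatorElement_def]; group

lemma comm_mul_comm_left {x w y : Γ} (h : w * y = y * w) : ⁅x * w, y⁆ = ⁅x, y⁆ := by
  have e : ⁅x * w, y⁆ = x * (w * y * w⁻¹) * x⁻¹ * y⁻¹ := by
    simp only [commutatorElement_def]; group
  rw [e, h, mul_inv_cancel_right, commutatorElement_def]

lemma comm_mul_comm_right {x w y : Γ} (h : w * x = x * w) : ⁅x, y * w⁆ = ⁅x, y⁆ := by
  have e : ⁅x, y * w⁆ = x * y * (w * x⁻¹ * w⁻¹) * y⁻¹ := by
    simp only [commutatorElement_def]; group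
  have h' : w * x⁻¹ * w⁻¹ = x⁻¹ := by
    have : w * x⁻¹ = x⁻¹ * w := by
      have h1 : x⁻¹ * (w * x) * x⁻¹ = x⁻¹ * (x * w) * x⁻¹ := by rw [h]
      rw [← mul_assoc, mul_assoc, mul_inv_cancel, mul_one, inv_mul_cancel_left] at h1
      exact h1.symm
    rw [this, mul_inv_cancel_right]
  rw [e, h', commutatorElement_def]

/-- `⁅x * y, w⁆` when `x` commutes with `⁅y, w⁆`. -/
lemma comm_mul_left_of_comm {x y w : Γ} (hc : x * ⁅y, w⁆ = ⁅y, w⁆ * x) :
    ⁅x * y, w⁆ = ⁅y, w⁆ * ⁅x, w⁆ := by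
  have e : ⁅x * y, w⁆ = x * ⁅y, w⁆ * x⁻¹ * ⁅x, w⁆ := by
    simp only [commutatorElement_def]; group
  rw [e, hc, mul_inv_cancel_right]

/-- `⁅w, x * y⁆` when `x` commutes with `⁅w, y⁆`. -/
lemma comm_mul_right_of_comm {x y w : Γ} (hc : x * ⁅w, y⁆ = ⁅w, y⁆ * x) :
    ⁅w, x * y⁆ = ⁅w, x⁆ * ⁅w, y⁆ := by
  have e : ⁅w, x * y⁆ = ⁅w, x⁆ * (x * ⁅w, y⁆ * x⁻¹) := by
    simp only [commutatorElement_def]; group
  rw [e, hc, mul_inv_cancel_right]

end grp

section two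
variable {F : Type*} [Field F] [CharP F 2] [Fintype F] (s : F →+* F)
  (hs : ∀ x, s (s x) = x ^ 2)
  {Γ : Type*} [Group Γ] (σ : Γ →* G s) (hσ : Function.Surjective σ)
  (hZ : σ.ker ≤ Subgroup.center Γ)

include hσ hZ in
/-- lifts of central elements of the Sylow subgroup commute. -/
lemma comm_lifts_A (hcard : 4 < Fintype.card F) {x y : Γ} {b b' : F}
    (hx : σ x = Tg s hs 0 b) (hy : σ y = Tg s hs 0 b') : x * y = y * x := by
  classical
  choose w hw using fun c : F => hσ (Tg s hs 0 c)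
  have hcen : ∀ b b', ⁅w b, w b'⁆ ∈ Subgroup.center Γ := by
    intro b b'
    apply hZ
    rw [MonoidHom.mem_ker, map_commutatorElement, hw, hw, commutatorElement_eq_one_iff_commute]
    exact (Tg_zero_mul_comm s hs 0 b b')
  obtain ⟨c, hc⟩ : ∃ c : F → F → Subgroup.center Γ, ∀ b b', (c b b' : Γ) = ⁅w b, w b'⁆ :=
    ⟨fun b b' => ⟨_, hcen b b'⟩, fun _ _ => rfl⟩
  have hcg : ∀ b b' (g : Γ), g * ⁅w b, w b'⁆ = ⁅w b, w b'⁆ * g :=
    fun b b' g => Subgroup.mem_center_iff.1 (hcen b b') g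
  have hww : ∀ b b', σ (w b * w b') = σ (w (b + b')) := by
    intro b b'
    rw [map_mul, hw, hw, hw, Tg_mul_Tg_zero]
  have h1 := biadd_invariant_trivial c ?_ ?_ ?_ (exists_rho hcard)
  · have h2 := h1 b b'
    have h3 : ⁅w b, w b'⁆ = 1 := by rw [← hc, h2, Subgroup.coe_one]
    have h4 : ⁅x, y⁆ = ⁅w b, w b'⁆ := comm_congr σ hZ (by rw [hx, hw]) (by rw [hy, hw])
    rw [h3, commutatorElement_eq_one_iff_commute] at h4
    exact h4
  · intro b₁ b₂ b'
    apply Subtype.ext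
    rw [Subgroup.coe_mul, hc, hc, hc, ← comm_congr σ hZ (hww b₁ b₂) rfl,
      comm_mul_left_of_central (hcg b₂ b')]
  · intro b b₁ b₂
    apply Subtype.ext
    rw [Subgroup.coe_mul, hc, hc, hc, ← comm_congr σ hZ rfl (hww b₁ b₂),
      comm_mul_right_of_central (hcg b b₂)]
  · intro μ b b' hμ
    obtain ⟨t, ht⟩ := exists_sq_mul_s_eq s hs hμ
    obtain ⟨v, hv⟩ := hσ (Dg s hs t)
    apply Subtype.ext
    rw [hc, hc]
    have e : ∀ b, σ (v * w b * v⁻¹) = σ (w (μ * b)) := by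
      intro b
      rw [map_mul, map_mul, map_inv, hv, hw, hw, Dg_conj_Tg, mul_zero, ht]
    rw [← comm_congr σ hZ (e b) (e b'), ← conj_bracket, hcg b b' v, mul_inv_cancel_right]

include hσ hZ in
/-- lifts of central elements of the Sylow subgroup commute with lifts of the Sylow subgroup. -/
lemma comm_lift_Q_A (hcard : 4 < Fintype.card F)
    (hgood : ∃ t : F, t ≠ 0 ∧ t ≠ 1 ∧
      t ^ 2 * s t + (t + 1) ^ 2 * s (t + 1) + (t ^ 2 * s t) * ((t + 1) ^ 2 * s (t + 1)) ≠ 0)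
    {x y : Γ} {a b c : F}
    (hx : σ x = Tg s hs a b) (hy : σ y = Tg s hs 0 c) : x * y = y * x := by
  classical
  have hsurj : Function.Surjective s := Finite.injective_iff_surjective.1 s.injective
  choose w hw using fun c : F => hσ (Tg s hs 0 c)
  choose u hu using fun a : F => hσ (Tg s hs a 0)
  have hwc : ∀ c c', w c * w c' = w c' * w c := fun c c' =>
    comm_lifts_A s hs σ hσ hZ hcard (hw c) (hw c')
  have hcen : ∀ a c, ⁅u a, w c⁆ ∈ Subgroup.center Γ := by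
    intro a c
    apply hZ
    rw [MonoidHom.mem_ker, map_commutatorElement, hu, hw, commutatorElement_eq_one_iff_commute]
    exact (Tg_zero_mul_comm s hs a 0 c)
  obtain ⟨β, hβ⟩ : ∃ β : F → F → Subgroup.center Γ, ∀ a c, (β a c : Γ) = ⁅u a, w c⁆ :=
    ⟨fun a c => ⟨_, hcen a c⟩, fun _ _ => rfl⟩
  have hcg : ∀ a c (g : Γ), g * ⁅u a, w c⁆ = ⁅u a, w c⁆ * g :=
    fun a c g => Subgroup.mem_center_iff.1 (hcen a c) g
  have hww : ∀ c c', σ (w c * w c') = σ (w (c + c')) := by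
    intro c c'
    rw [map_mul, hw, hw, hw, Tg_mul_Tg_zero]
  have huu : ∀ a a', σ (u a * u a' * w (s a * a')) = σ (u (a + a')) := by
    intro a a'
    rw [map_mul, map_mul, hu, hu, hu, hw, Tg_mul, Tg_mul_Tg_zero]
    congr 1
    rw [add_zero, zero_add, CharTwo.add_self_eq_zero]
  have h1 := twisted_invariant_trivial s hsurj β ?_ ?_ ?_ hgood
  · have h2 := h1 a c
    have h3 : ⁅u a, w c⁆ = 1 := by rw [← hβ, h2, Subgroup.coe_one]
    have hxe : σ x = σ (u a * w b) := by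
      rw [hx, map_mul, hu, hw, Tg_mul_Tg_zero, zero_add]
    have h4 : ⁅x, y⁆ = ⁅u a * w b, w c⁆ := comm_congr σ hZ hxe (by rw [hy, hw])
    rw [comm_mul_comm_left (hwc b c), h3, commutatorElement_eq_one_iff_commute] at h4
    exact h4
  · intro a₁ a₂ c
    apply Subtype.ext
    rw [Subgroup.coe_mul, hβ, hβ, hβ, ← comm_congr σ hZ (huu a₁ a₂) rfl,
      comm_mul_comm_left (hwc _ c), comm_mul_left_of_central (hcg a₂ c)]
  · intro a c₁ c₂
    apply Subtype.ext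
    rw [Subgroup.coe_mul, hβ, hβ, hβ, ← comm_congr σ hZ rfl (hww c₁ c₂),
      comm_mul_right_of_central (hcg a c₂)]
  · intro t a c ht
    obtain ⟨v, hv⟩ := hσ (Dg s hs (Units.mk0 t ht))
    apply Subtype.ext
    rw [hβ, hβ]
    have e1 : σ (v * u a * v⁻¹) = σ (u (s t * a)) := by
      rw [map_mul, map_mul, map_inv, hv, hu, hu, Dg_conj_Tg, mul_zero]
      rfl
    have e2 : σ (v * w c * v⁻¹) = σ (w (t ^ 2 * s t * c)) := by
      rw [map_mul, map_mul, map_inv, hv, hw, hw, Dg_conj_Tg, mul_zero]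
      rfl
    rw [← comm_congr σ hZ e1 e2, ← conj_bracket, hcg a c v, mul_inv_cancel_right]

/-- the commutator of two elements of the Sylow subgroup. -/
lemma comm_Tg (a b a' b' : F) :
    ⁅Tg s hs a b, Tg s hs a' b'⁆ = Tg s hs 0 (s a * a' + a * s a') := by
  have := congrArg Subtype.val (comm_qT s hs a b a' b')
  exact this

include hσ hZ in
/-- the `2`-part of the kernel of a stem extension: central commutator elements are killed by the
index of the Sylow `2`-subgroup. -/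
theorem pow_index_eq_one [Finite Γ] (hcard : 4 < Fintype.card F)
    (hgood : ∃ t : F, t ≠ 0 ∧ t ≠ 1 ∧
      t ^ 2 * s t + (t + 1) ^ 2 * s (t + 1) + (t ^ 2 * s t) * ((t + 1) ^ 2 * s (t + 1)) ≠ 0)
    {z : Γ} (hz : z ∈ σ.ker) (hzc : z ∈ commutator Γ) : z ^ (Qs s hs).index = 1 := by
  classical
  have hsurj : Function.Surjective s := Finite.injective_iff_surjective.1 s.injective
  choose w hw using fun c : F => hσ (Tg s hs 0 c)
  choose u hu using fun a : F => hσ (Tg s hs a 0)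
  have hA : ∀ {x y : Γ} {b b' : F}, σ x = Tg s hs 0 b → σ y = Tg s hs 0 b' → x * y = y * x :=
    fun hx hy => comm_lifts_A s hs σ hσ hZ hcard hx hy
  have hQA : ∀ {x y : Γ} {a b c : F}, σ x = Tg s hs a b → σ y = Tg s hs 0 c → x * y = y * x :=
    fun hx hy => comm_lift_Q_A s hs σ hσ hZ hcard hgood hx hy
  have hww : ∀ c c', σ (w c * w c') = σ (w (c + c')) := by
    intro c c'
    rw [map_mul, hw, hw, hw, Tg_mul_Tg_zero]
  have huu : ∀ a a', σ (u a * u a' * w (s a * a')) = σ (u (a + a')) := by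
    intro a a'
    rw [map_mul, map_mul, hu, hu, hu, hw, Tg_mul, Tg_mul_Tg_zero]
    congr 1
    rw [add_zero, zero_add, CharTwo.add_self_eq_zero]
  -- a nontrivial torus element
  have hFu : Nontrivial Fˣ := by
    rw [← Fintype.one_lt_card_iff_nontrivial, Fintype.card_units]
    omega
  obtain ⟨t₀, ht₀⟩ := exists_ne (1 : Fˣ)
  obtain ⟨h, hh⟩ := hσ (Dg s hs t₀)
  obtain ⟨μ₀, hμ₀def⟩ : ∃ μ₀ : F, μ₀ = (t₀ : F) ^ 2 * s t₀ := ⟨_, rfl⟩
  have hμ₀ : μ₀ + 1 ≠ 0 := by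
    intro h0
    apply ht₀
    have h1 : μ₀ = 1 := CharTwo.add_eq_zero.1 h0
    rw [hμ₀def] at h1
    apply Units.ext
    apply kappa_injective s hs
    simp only [Units.val_one, one_pow, map_one, mul_one]
    exact h1
  obtain ⟨τ, hτ⟩ : ∃ τ : F → Γ, ∀ c, τ c = ⁅h, w c⁆ := ⟨_, fun _ => rfl⟩
  have hστ : ∀ c, σ (τ c) = Tg s hs 0 ((μ₀ + 1) * c) := by
    intro c
    rw [hτ, map_commutatorElement, hh, hw, comm_Dg_Tg, hμ₀def]
    congr 1
    · simp
    · simp; ring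
  have hτadd : ∀ c c', τ (c + c') = τ c * τ c' := by
    intro c c'
    rw [hτ, ← comm_congr σ hZ rfl (hww c c')]
    have e : ⁅h, w c * w c'⁆ = ⁅h, w c⁆ * (w c * ⁅h, w c'⁆ * (w c)⁻¹) := by
      simp only [commutatorElement_def]; group
    rw [e, ← hτ, ← hτ, hA (hw c) (hστ c'), mul_inv_cancel_right]
  have hτ0 : τ 0 = 1 := by
    have := hτadd 0 0
    rw [add_zero] at this
    exact (mul_eq_left.1 this.symm)
  have hτsq : ∀ c, τ c * τ c = 1 := by
    intro c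
    rw [← hτadd, CharTwo.add_self_eq_zero, hτ0]
  have hτconj : ∀ (t : Fˣ) (v : Γ), σ v = Dg s hs t → ∀ c,
      v * τ c * v⁻¹ = τ ((t : F) ^ 2 * s t * c) := by
    intro t v hv c
    rw [hτ, hτ, conj_bracket]
    apply comm_congr σ hZ
    · rw [map_mul, map_mul, map_inv, hv, hh, ← Dg_mul, mul_comm t t₀, Dg_mul,
        mul_inv_cancel_right]
    · rw [map_mul, map_mul, map_inv, hv, hw, hw, Dg_conj_Tg, mul_zero]
  -- the commutators of lifts
  obtain ⟨ω, hω⟩ : ∃ ω : F → F → F, ∀ a a', ω a a' = (s a * a' + a * s a') / (μ₀ + 1) :=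
    ⟨_, fun _ _ => rfl⟩
  have hσC : ∀ a a', σ ⁅u a, u a'⁆ = Tg s hs 0 (s a * a' + a * s a') := by
    intro a a'
    rw [map_commutatorElement, hu, hu, comm_Tg]
  have hεcen : ∀ a a', ⁅u a, u a'⁆ * (τ (ω a a'))⁻¹ ∈ Subgroup.center Γ := by
    intro a a'
    apply hZ
    rw [MonoidHom.mem_ker, map_mul, map_inv, hσC, hστ, hω, mul_div_cancel₀ _ hμ₀,
      mul_inv_cancel]
  obtain ⟨ε, hε⟩ : ∃ ε : F → F → Subgroup.center Γ,
      ∀ a a', (ε a a' : Γ) = ⁅u a, u a'⁆ * (τ (ω a a'))⁻¹ :=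
    ⟨fun a a' => ⟨_, hεcen a a'⟩, fun _ _ => rfl⟩
  have hεg : ∀ a a' (g : Γ), g * (ε a a' : Γ) = (ε a a' : Γ) * g :=
    fun a a' g => Subgroup.mem_center_iff.1 (ε a a').2 g
  have hC : ∀ a a', ⁅u a, u a'⁆ = (ε a a' : Γ) * τ (ω a a') := by
    intro a a'
    rw [hε, inv_mul_cancel_right]
  have hωl : ∀ a₁ a₂ a', ω (a₁ + a₂) a' = ω a₁ a' + ω a₂ a' := by
    intro a₁ a₂ a'
    rw [hω, hω, hω, map_add]
    field_simp
    ring
  have hωr : ∀ a a₁ a₂, ω a (a₁ + a₂) = ω a a₁ + ω a a₂ := by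
    intro a a₁ a₂
    rw [hω, hω, hω, map_add]
    field_simp
    ring
  have hε1 := biadd_invariant_trivial ε ?_ ?_ ?_ (exists_rho hcard)
  rotate_left
  · intro a₁ a₂ a'
    apply Subtype.ext
    rw [Subgroup.coe_mul]
    apply mul_right_cancel (b := τ (ω (a₁ + a₂) a'))
    rw [← hC, ← comm_congr σ hZ (huu a₁ a₂) rfl,
      comm_mul_comm_left (hQA (hu a') (hw _)).symm,
      comm_mul_left_of_comm (hQA (hu a₁) (hσC a₂ a')), hC, hC, hωl, add_comm, hτadd]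
    calc (ε a₂ a' : Γ) * τ (ω a₂ a') * ((ε a₁ a' : Γ) * τ (ω a₁ a'))
        = (ε a₂ a' : Γ) * (τ (ω a₂ a') * (ε a₁ a' : Γ)) * τ (ω a₁ a') := by group
      _ = (ε a₂ a' : Γ) * ((ε a₁ a' : Γ) * τ (ω a₂ a')) * τ (ω a₁ a') := by rw [hεg]
      _ = ((ε a₂ a' : Γ) * (ε a₁ a' : Γ)) * (τ (ω a₂ a') * τ (ω a₁ a')) := by group
      _ = (ε a₁ a' : Γ) * (ε a₂ a' : Γ) * (τ (ω a₂ a') * τ (ω a₁ a')) := by rw [hεg]
  · intro a a₁ a₂
    apply Subtype.ext
    rw [Subgroup.coe_mul]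
    apply mul_right_cancel (b := τ (ω a (a₁ + a₂)))
    rw [← hC, ← comm_congr σ hZ rfl (huu a₁ a₂),
      comm_mul_comm_right (hQA (hu a) (hw _)).symm,
      comm_mul_right_of_comm (hQA (hu a₁) (hσC a a₂)), hC, hC, hωr, hτadd]
    calc (ε a a₁ : Γ) * τ (ω a a₁) * ((ε a a₂ : Γ) * τ (ω a a₂))
        = (ε a a₁ : Γ) * (τ (ω a a₁) * (ε a a₂ : Γ)) * τ (ω a a₂) := by group
      _ = (ε a a₁ : Γ) * ((ε a a₂ : Γ) * τ (ω a a₁)) * τ (ω a a₂) := by rw [hεg]
      _ = (ε a a₁ : Γ) * (ε a a₂ : Γ) * (τ (ω a a₁) * τ (ω a a₂)) := by group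
  · intro μ a a' hμ
    obtain ⟨t, rfl⟩ := hsurj μ
    have ht : t ≠ 0 := by
      intro h0
      apply hμ
      rw [h0, map_zero]
    obtain ⟨v, hv⟩ := hσ (Dg s hs (Units.mk0 t ht))
    apply Subtype.ext
    have e1 : ∀ a, σ (v * u a * v⁻¹) = σ (u (s t * a)) := by
      intro a
      rw [map_mul, map_mul, map_inv, hv, hu, hu, Dg_conj_Tg, mul_zero]
      rfl
    have e2 : (Units.mk0 t ht : F) ^ 2 * s (Units.mk0 t ht : F) * ω a a' = ω (s t * a) (s t * a') := by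
      rw [hω, hω, Units.val_mk0, map_mul, map_mul, hs]
      field_simp
    have e3 : v * (ε a a' : Γ) * v⁻¹ = (ε a a' : Γ) := by
      rw [hεg a a' v, mul_inv_cancel_right]
    rw [← e3, hε, hε]
    have e4 : v * (⁅u a, u a'⁆ * (τ (ω a a'))⁻¹) * v⁻¹ =
        (v * ⁅u a, u a'⁆ * v⁻¹) * (v * τ (ω a a') * v⁻¹)⁻¹ := by group
    rw [e4, conj_bracket, comm_congr σ hZ (e1 a) (e1 a'), hτconj _ v hv, e2]
  -- all commutators of lifts of the Sylow subgroup are values of `τ`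
  have hall : ∀ {x y : Γ} {a b a' b' : F}, σ x = Tg s hs a b → σ y = Tg s hs a' b' →
      ⁅x, y⁆ = τ (ω a a') := by
    intro x y a b a' b' hx hy
    have hxe : σ x = σ (u a * w b) := by
      rw [hx, map_mul, hu, hw, Tg_mul_Tg_zero, zero_add]
    have hye : σ y = σ (u a' * w b') := by
      rw [hy, map_mul, hu, hw, Tg_mul_Tg_zero, zero_add]
    have hy' : σ (u a' * w b') = Tg s hs a' b' := by rw [← hye, hy]
    rw [comm_congr σ hZ hxe hye, comm_mul_comm_left (hQA hy' (hw b)).symm,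
      comm_mul_comm_right (hQA (hu a) (hw b')).symm, hC, hε1, Subgroup.coe_one, one_mul]
  -- the commutator subgroup of the preimage of the Sylow subgroup
  obtain ⟨Qt, hQt⟩ : ∃ Qt : Subgroup Γ, Qt = (Qs s hs).comap σ := ⟨_, rfl⟩
  have hQtmem : ∀ x : Γ, x ∈ Qt → ∃ a b, σ x = Tg s hs a b := by
    intro x hx
    rw [hQt, Subgroup.mem_comap] at hx
    exact hx
  have hcomm : ∀ g : Qt, g ∈ commutator Qt → ∃ c, (g : Γ) = τ c := by
    intro g hg
    rw [commutator_eq_closure] at hg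
    induction hg using Subgroup.closure_induction with
    | mem x hx =>
      obtain ⟨g₁, g₂, rfl⟩ := hx
      obtain ⟨a, b, hab⟩ := hQtmem g₁ g₁.2
      obtain ⟨a', b', hab'⟩ := hQtmem g₂ g₂.2
      exact ⟨ω a a', by rw [← hall hab hab']; rfl⟩
    | one => exact ⟨0, by rw [hτ0]; rfl⟩
    | mul x y _ _ hx hy =>
      obtain ⟨c, hc⟩ := hx
      obtain ⟨c', hc'⟩ := hy
      exact ⟨c + c', by rw [Subgroup.coe_mul, hc, hc', hτadd]⟩
    | inv x _ hx =>
      obtain ⟨c, hc⟩ := hx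
      refine ⟨c, ?_⟩
      rw [Subgroup.coe_inv, hc]
      exact inv_eq_of_mul_eq_one_left (hτsq c)
  have hfi : Qt.FiniteIndex := inferInstance
  obtain ⟨g, hg, hgz⟩ := pow_index_mem_commutator Qt (hZ hz) hzc
  obtain ⟨c, hc⟩ := hcomm g hg
  have hidx : Qt.index = (Qs s hs).index := by
    rw [hQt]
    exact Subgroup.index_comap_of_surjective _ hσ
  rw [← hidx, ← hgz, hc]
  have h1 : σ (τ c) = 1 := by
    rw [← hc, hgz, map_pow, MonoidHom.mem_ker.1 hz, one_pow]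
  rw [hστ, Tg_eq_one_iff] at h1
  have hc0 : c = 0 := by
    rcases mul_eq_zero.1 h1.2 with h' | h'
    · exact absurd h' hμ₀
    · exact h'
  rw [hc0, hτ0]

end two

end Cfsg.Agent.Lib.Helper6.Sz
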