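import Cfsg.Agent.Lib.Helper6.SzMult4

set_option autoImplicit false

/-! # Stem extensions of the Suzuki groups `Sz(q)`, `q ≥ 32`, are trivial -/

namespace Cfsg.Agent.Lib.Helper6.Sz

open scoped commutatorElement
open Cfsg.Agent.Lib.Helper6.SzMult

section stem
variable {F : Type*} [Field F] [CharP F 2] [Fintype F] (s : F →+* F)
  (hs : ∀ x, s (s x) = x ^ 2)
  {Γ : Type*} [Group Γ] [Finite Γ] (σ : Γ →* G s) (hσ : Function.Surjective σ)
  (hZ : σ.ker ≤ Subgroup.center Γ) (hC : σ.ker ≤ commutator Γ)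

include hs hσ hZ hC in
/-- every finite stem extension of `Sz(q)`, `q ≥ 32`, has trivial kernel. -/
theorem ker_eq_bot_of_stem (hnt : ∃ y : F, s y ≠ y ^ 2) {m : ℕ} (hm : 2 ≤ m)
    (hk : Nat.card F = 2 ^ (2 * m + 1)) (hsr : ∀ x, s x = x ^ 2 ^ (m + 1)) : σ.ker = ⊥ := by
  classical
  by_contra hne
  obtain ⟨⟨z₀, hz₀⟩, hz₀1⟩ := (Subgroup.ne_bot_iff_exists_ne_one).1 hne
  have hz₀1' : z₀ ≠ 1 := fun h => hz₀1 (Subtype.ext h)
  have hord : orderOf z₀ ≠ 1 := fun h => hz₀1' (orderOf_eq_one_iff.1 h)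
  obtain ⟨p, hp, hpd⟩ := Nat.exists_prime_and_dvd hord
  haveI : Fact p.Prime := ⟨hp⟩
  have hn0 : orderOf z₀ ≠ 0 := (orderOf_pos z₀).ne'
  obtain ⟨z, hzdef⟩ : ∃ z, z = z₀ ^ (orderOf z₀ / p) := ⟨_, rfl⟩
  have hzo : orderOf z = p := by rw [hzdef]; exact orderOf_pow_orderOf_div hn0 hpd
  have hz : z ∈ σ.ker := by rw [hzdef]; exact Subgroup.pow_mem _ hz₀ _
  have hz1 : z ≠ 1 := by
    intro h
    rw [h, orderOf_one] at hzo
    exact hp.one_lt.ne hzo
  have hcardF : Fintype.card F = 2 ^ (2 * m + 1) := by rw [← Nat.card_eq_fintype_card, hk]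
  have hpow : 2 ^ (m + 1) * 2 ^ m = 2 ^ (2 * m + 1) := by rw [← pow_add]; congr 1; omega
  have h8 : 8 ≤ 2 ^ (m + 1) := by
    calc 8 = 2 ^ 3 := by norm_num
      _ ≤ 2 ^ (m + 1) := Nat.pow_le_pow_right (by norm_num) (by omega)
  have h4 : 4 ≤ 2 ^ m := by
    calc 4 = 2 ^ 2 := by norm_num
      _ ≤ 2 ^ m := Nat.pow_le_pow_right (by norm_num) hm
  by_cases hp2 : p = 2
  · -- the prime 2
    have hcard : 4 < Fintype.card F := by rw [hcardF, ← hpow]; nlinarith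
    have hgood := exists_good_t s hsr (by rw [hcardF, ← hpow]; nlinarith)
    have h1 := pow_index_eq_one s hs σ hσ hZ hcard hgood hz (hC hz)
    have h2 : orderOf z ∣ (Qs s hs).index := orderOf_dvd_of_pow_eq_one h1
    rw [hzo, hp2] at h2
    exact not_two_dvd_index_Qs s hs hnt hk h2
  · -- odd primes
    have hpz : IsPGroup p (Subgroup.zpowers z) :=
      IsPGroup.of_card (n := 1) (by rw [Nat.card_zpowers, hzo, pow_one])
    obtain ⟨P, hP⟩ := hpz.exists_le_sylow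
    have hzP : z ∈ (P : Subgroup Γ) := hP (Subgroup.mem_zpowers z)
    have hcyc : IsCyclic ((P : Subgroup Γ).map σ) :=
      isCyclic_of_odd_pgroup s hs hnt hk hp2 _ (P.isPGroup'.map σ)
    have hcomm : ∀ a ∈ (P : Subgroup Γ), ∀ b ∈ (P : Subgroup Γ), a * b = b * a :=
      fun a ha b hb => comm_of_map_isCyclic σ hZ _ hcyc ha hb
    have hbot : commutator (P : Subgroup Γ) = ⊥ := by
      rw [commutator_eq_closure, Subgroup.closure_eq_bot_iff]
      rintro _ ⟨g₁, g₂, rfl⟩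
      rw [Set.mem_singleton_iff, commutatorElement_eq_one_iff_commute]
      exact Subtype.ext (hcomm g₁ g₁.2 g₂ g₂.2)
    obtain ⟨g, hg, hgz⟩ := pow_index_mem_commutator (P : Subgroup Γ) (hZ hz) (hC hz)
    rw [hbot, Subgroup.mem_bot] at hg
    rw [hg, Subgroup.coe_one] at hgz
    have h2 : orderOf z ∣ (P : Subgroup Γ).index := orderOf_dvd_of_pow_eq_one hgz.symm
    rw [hzo] at h2
    exact P.not_dvd_index h2

end stem

end Cfsg.Agent.Lib.Helper6.Sz
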