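import Cfsg.Agent.Lib.Helper6.SzRigid
import Cfsg.Prelude.Def_KGroupFacts

set_option autoImplicit false

/-! # The outer automorphism group of a Suzuki group -/

namespace Cfsg.Agent.Lib.Helper6.Sz

open Matrix
open scoped Pointwise

section outcongr

lemma card_out_congr {A B : Type*} [Group A] [Group B] (e : A ≃* B) :
    Nat.card (Cfsg.Out A) = Nat.card (Cfsg.Out B) := by
  have h : (Cfsg.Inn A).map ((MulAut.congr e : MulAut A ≃* MulAut B) : MulAut A →* MulAut B) =
      Cfsg.Inn B := by
    ext β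
    constructor
    · rintro ⟨_, ⟨a, rfl⟩, rfl⟩
      refine ⟨e a, ?_⟩
      ext b
      simp [MulAut.congr, MulAut.conj_apply]
    · rintro ⟨b, rfl⟩
      refine ⟨MulAut.conj (e.symm b), ⟨_, rfl⟩, ?_⟩
      ext x
      simp [MulAut.congr, MulAut.conj_apply]
  exact Nat.card_congr
    (QuotientGroup.congr (Cfsg.Inn A) (Cfsg.Inn B) (MulAut.congr e) h).toEquiv

end outcongr

section ringaut

lemma card_ringHom_self {F : Type*} [Field F] [Finite F] [CharP F 2] {k : ℕ}
    (hk : Nat.card F = 2 ^ k) : Nat.card (F →+* F) = k := by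
  have : Fact (Nat.Prime 2) := ⟨Nat.prime_two⟩
  let _ : Algebra (ZMod 2) F := ZMod.algebra F 2
  have h1 : Module.finrank (ZMod 2) F = k := by
    have := FiniteField.pow_finrank_eq_natCard 2 F
    rw [hk] at this
    exact Nat.pow_right_injective (le_refl 2) this
  have h2 : Nat.card (F →ₐ[ZMod 2] F) = Module.finrank (ZMod 2) F :=
    FiniteField.natCard_algHom_of_finrank_dvd (dvd_refl _)
  let eqv : (F →+* F) ≃ (F →ₐ[ZMod 2] F) :=
    { toFun := fun ι => { ι with
        commutes' := fun r => by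
          have := Subsingleton.elim (ι.comp (algebraMap (ZMod 2) F)) (algebraMap (ZMod 2) F)
          exact DFunLike.congr_fun this r }
      invFun := fun f => f.toRingHom
      left_inv := fun ι => by ext x; rfl
      right_inv := fun f => by ext x; rfl }
  rw [Nat.card_congr eqv, h2, h1]

end ringaut

section out
variable {F : Type*} [Field F] [CharP F 2] [Finite F] (s : F →+* F)
  (hs : ∀ x, s (s x) = x ^ 2) (hnt : ∃ y : F, s y ≠ y ^ 2)
  (hc : ∀ (ι : F →+* F) (x : F), s (ι x) = ι (s x))

/-- the field automorphisms of the Suzuki group -/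
noncomputable def PhiAut (ι : F →+* F) : MulAut (G s) :=
  MulEquiv.ofBijective (Phi s s ι (hc ι) hs hs hnt)
    ⟨Phi_injective s s ι (hc ι) hs hs hnt,
      Finite.injective_iff_surjective.1 (Phi_injective s s ι (hc ι) hs hs hnt)⟩

lemma PhiAut_apply (ι : F →+* F) (g : G s) :
    PhiAut s hs hnt hc ι g = Phi s s ι (hc ι) hs hs hnt g := rfl

include hs hnt hc in
theorem card_out {k : ℕ} (hk : Nat.card F = 2 ^ k) : Nat.card (Cfsg.Out (G s)) = k := by
  let f : (F →+* F) → Cfsg.Out (G s) := fun ι => QuotientGroup.mk (PhiAut s hs hnt hc ι)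
  have hinj : Function.Injective f := by
    intro φ₁ φ₂ h
    have h' : (PhiAut s hs hnt hc φ₁)⁻¹ * PhiAut s hs hnt hc φ₂ ∈ Cfsg.Inn (G s) :=
      QuotientGroup.eq.1 h
    obtain ⟨y, hy⟩ := h'
    have hrel : ∀ g, PhiAut s hs hnt hc φ₁ (y * g * y⁻¹) = PhiAut s hs hnt hc φ₂ g := by
      intro g
      have := DFunLike.congr_fun hy g
      rw [MulAut.conj_apply, MulAut.mul_apply] at this
      rw [this, MulAut.apply_inv_self]
    set z := PhiAut s hs hnt hc φ₁ y with hz
    have hrel' : ∀ g, z * Phi s s φ₁ (hc φ₁) hs hs hnt g * z⁻¹ = Phi s s φ₂ (hc φ₂) hs hs hnt g := by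
      intro g
      have := hrel g
      rw [map_mul, map_mul, map_inv] at this
      exact this
    have hzinf : z • oinf s = oinf s := by
      have := hrel' (Tg s hs 0 1)
      rw [Phi_Tg, Phi_Tg] at this
      apply fix_of_conj_Tg s hs _ this
      rw [map_one]
      rintro ⟨-, h⟩
      exact one_ne_zero h
    obtain ⟨y₀, hy0, hy1⟩ := exists_ne_zero_one s hnt
    have hz0 : z • opt s 0 0 = opt s 0 0 := by
      have h1 := hrel' (Dg s hs (Units.mk0 y₀ hy0))
      rw [Phi_Dg, Phi_Dg] at h1
      set u₂ := Units.map (φ₂ : F →* F) (Units.mk0 y₀ hy0) with hu₂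
      have hu₂1 : u₂ ≠ 1 := by
        intro h
        have h' := congrArg Units.val h
        rw [hu₂, Units.coe_map, Units.val_mk0, Units.val_one] at h'
        have h'' : φ₂ y₀ = 1 := h'
        exact hy1 (φ₂.injective (by rw [h'', map_one]))
      have h2 : Dg s hs u₂ • (z • opt s 0 0) = z • opt s 0 0 := by
        rw [← h1, mul_smul, mul_smul, inv_smul_smul, Dg_smul_opt00]
      rcases Ov_cases s (z • opt s 0 0) with h | ⟨x, y', h⟩
      · exfalso
        rw [← hzinf] at h
        exact opt_ne_oinf s 0 0 (MulAction.injective z h)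
      · rw [h] at h2 ⊢
        by_contra hne
        have hxy : ¬(x = 0 ∧ y' = 0) := by
          rintro ⟨rfl, rfl⟩
          exact hne rfl
        exact hu₂1 (Dg_fix_third s hs hxy h2)
    obtain ⟨t₀, ht₀⟩ := eq_Dg_of_fix s hs hnt hzinf hz0
    have hunits : ∀ t : Fˣ, φ₁ t = φ₂ t := by
      intro t
      have h1 := hrel' (Dg s hs t)
      rw [Phi_Dg, Phi_Dg, ht₀, Dg_inv, ← Dg_mul, ← Dg_mul, mul_comm t₀, mul_assoc,
        mul_inv_cancel, mul_one] at h1
      have h2 := congrArg Units.val (Dg_injective s hs h1)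
      rw [Units.coe_map, Units.coe_map] at h2
      exact h2
    ext x
    by_cases hx : x = 0
    · rw [hx, map_zero, map_zero]
    · exact hunits (Units.mk0 x hx)
  have hsurj : Function.Surjective f := by
    intro q
    obtain ⟨α, rfl⟩ := QuotientGroup.mk_surjective q
    obtain ⟨y, ι', hy⟩ := rigid s s hs hs hnt hnt hc hk hk α.toMonoidHom α.injective
    refine ⟨ι', ?_⟩
    apply QuotientGroup.eq.2
    refine ⟨(PhiAut s hs hnt hc ι').symm y, ?_⟩
    ext g
    rw [MulAut.conj_apply, MulAut.mul_apply]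
    have h1 : α g = y * PhiAut s hs hnt hc ι' g * y⁻¹ := hy g
    rw [h1, MulAut.inv_apply, map_mul, map_mul, map_inv, MulEquiv.symm_apply_apply]
  rw [← Nat.card_congr (Equiv.ofBijective f ⟨hinj, hsurj⟩), card_ringHom_self hk]

end out

end Cfsg.Agent.Lib.Helper6.Sz
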