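import Cfsg.Agent.Lib.Helper6.SzSol3

set_option autoImplicit false

/-! # Solubilizers in Suzuki groups: counting -/

namespace Cfsg.Agent.Lib.Helper6.Sz

open scoped Pointwise
open Cfsg.Agent.Lib.Helper6.TI Cfsg.Agent.Lib.Helper6.SzArith

open Classical in
/-- counting by fibres with two possible fibre sizes. -/
lemma ncard_fiber_two {α β : Type*} [Finite α] [Finite β] (A : Set α) (f : α → β) (B : Set β)
    (hAB : ∀ a ∈ A, f a ∈ B) (P : β → Prop) (c₁ c₂ : ℕ)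
    (h : ∀ b ∈ B, {a | a ∈ A ∧ f a = b}.ncard = if P b then c₁ else c₂) :
    A.ncard = c₁ * {b | b ∈ B ∧ P b}.ncard + c₂ * {b | b ∈ B ∧ ¬ P b}.ncard := by
  classical
  have := Fintype.ofFinite α
  have := Fintype.ofFinite β
  rw [Set.ncard_eq_toFinset_card' A, Set.ncard_eq_toFinset_card' {b | b ∈ B ∧ P b},
    Set.ncard_eq_toFinset_card' {b | b ∈ B ∧ ¬ P b}]
  rw [Finset.card_eq_sum_card_fiberwise (f := f) (t := B.toFinset) 
    (fun a ha => Set.mem_toFinset.2 (hAB a (Set.mem_toFinset.1 ha)))]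
  have h2 : ∀ b ∈ B.toFinset, (A.toFinset.filter (fun a => f a = b)).card =
      if P b then c₁ else c₂ := by
    intro b hb
    rw [← h b (Set.mem_toFinset.1 hb), Set.ncard_eq_toFinset_card']
    congr 1
    ext a'; simp
  rw [Finset.sum_congr rfl h2, Finset.sum_ite, Finset.sum_const, Finset.sum_const, smul_eq_mul,
    smul_eq_mul, mul_comm c₁, mul_comm c₂]
  congr 2
  · congr 1; ext b; simp
  · congr 1; ext b; simp

/-- counting by fibres of constant size. -/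
lemma ncard_fiber_const {α β : Type*} [Finite α] [Finite β] (A : Set α) (f : α → β) (B : Set β)
    (hAB : ∀ a ∈ A, f a ∈ B) (c : ℕ)
    (h : ∀ b ∈ B, {a | a ∈ A ∧ f a = b}.ncard = c) :
    A.ncard = c * B.ncard := by
  have := ncard_fiber_two A f B hAB (fun _ => True) c c (by simpa using h)
  simpa using this

section sol4
variable {F : Type*} [Field F] [CharP F 2] [Finite F] (s : F →+* F)
  (hs : ∀ x, s (s x) = x ^ 2)

/-- the product of `t` with its conjugate by `y`. -/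
def delta (c₀ : F) (y : G s) : G s := Tg s hs 0 c₀ * (y * Tg s hs 0 c₀ * y⁻¹)

open Classical in
include hs in
/-- the solubilizer inside a fibre of `delta`. -/
theorem fiber_ncard (hnt : ∃ y : F, s y ≠ y ^ 2) {m : ℕ} (hm : 1 ≤ m)
    (hk : Nat.card F = 2 ^ (2 * m + 1)) {c₀ : F} (hc₀ : c₀ ≠ 0) {a b : F}
    (hab : ¬(a = 0 ∧ b = 0))
    (hx : Tg s hs a b = Tg s hs 0 c₀ ∨ Tg s hs a b * Tg s hs a b = Tg s hs 0 c₀)
    {y₀ : G s} (hy₀ : y₀ • oinf s ≠ oinf s) {U : Subgroup (G s)} (hU : IsTorus s m U)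
    (hdU : delta s hs c₀ y₀ ∈ U) :
    {y : G s | y • oinf s ≠ oinf s ∧ delta s hs c₀ y = delta s hs c₀ y₀ ∧
      SolP s m (Tg s hs a b) y}.ncard =
      if Tg s hs a b ∈ Subgroup.normalizer (U : Set (G s)) then Nat.card (SU s hs U) else 0 := by
  obtain ⟨hd1, hdinf, hconj, U', hU', hdU', htN', u, huN', hu⟩ :=
    delta_data s hs hnt hm hk hc₀ hy₀
  have hUU : U' = U := (partition s hs hnt hm hk _ hd1).unique ⟨Or.inr hU', hdU'⟩ ⟨Or.inr hU, hdU⟩
  subst hUU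
  have huinf : u • oinf s ≠ oinf s := by
    intro h
    apply hy₀
    have h1 : (y₀ * Tg s hs 0 c₀ * y₀⁻¹) • oinf s = oinf s := by
      rw [← hu, mul_smul, mul_smul, inv_smul_eq_iff.2 h.symm, Tg_smul_oinf, h]
    have h2 : Tg s hs 0 c₀ • (y₀⁻¹ • oinf s) = y₀⁻¹ • oinf s := by
      have := congrArg (fun q => y₀⁻¹ • q) h1
      simp only [mul_smul, inv_smul_smul] at this
      exact this
    have h3 := Tg_fix_only s hs (a := 0) (b := c₀) (by rintro ⟨-, h⟩; exact hc₀ h) h2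
    rw [inv_smul_eq_iff] at h3
    exact h3.symm
  by_cases hxN : Tg s hs a b ∈ Subgroup.normalizer (U' : Set (G s))
  · rw [if_pos hxN]
    have hset : {y : G s | y • oinf s ≠ oinf s ∧ delta s hs c₀ y = delta s hs c₀ y₀ ∧
        SolP s m (Tg s hs a b) y} = (fun z => u * z) '' (SU s hs U' : Set (G s)) := by
      ext y
      constructor
      · rintro ⟨hy, hδ, hsol⟩
        have hδ' : y * Tg s hs 0 c₀ * y⁻¹ = u * Tg s hs 0 c₀ * u⁻¹ := by
          rw [hu]; exact mul_left_cancel hδ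
        have hdy : Tg s hs 0 c₀ * (y * Tg s hs 0 c₀ * y⁻¹) =
            Tg s hs 0 c₀ * (y₀ * Tg s hs 0 c₀ * y₀⁻¹) := hδ
        have hyN := ((solP_iff_of_moves s hs hnt hm hk hab hx hy hU
          (by rw [hdy]; exact hdU) (by rw [hdy]; exact hd1)).1 hsol).2
        obtain ⟨z, hzQ, hzN, hyz⟩ := (fiber_iff s hs hnt hc₀ _ huN' y).1 ⟨hyN, hδ'⟩
        exact ⟨z, ⟨hzQ, hzN⟩, hyz.symm⟩
      · rintro ⟨z, ⟨hzQ, hzN⟩, rfl⟩
        have h1 := (fiber_iff s hs hnt hc₀ _ huN' (u * z)).2 ⟨z, hzQ, hzN, rfl⟩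
        have hy : (u * z) • oinf s ≠ oinf s := by
          obtain ⟨a', b', rfl⟩ := hzQ
          rw [mul_smul, Tg_smul_oinf]
          exact huinf
        have hdy : Tg s hs 0 c₀ * ((u * z) * Tg s hs 0 c₀ * (u * z)⁻¹) =
            Tg s hs 0 c₀ * (y₀ * Tg s hs 0 c₀ * y₀⁻¹) := by
          rw [h1.2, hu]
        refine ⟨hy, hdy, ?_⟩
        exact (solP_iff_of_moves s hs hnt hm hk hab hx hy hU
          (by rw [hdy]; exact hdU) (by rw [hdy]; exact hd1)).2 ⟨hxN, h1.1⟩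
    rw [hset, Set.ncard_image_of_injective _ (mul_right_injective u)]
    exact (Nat.card_coe_set_eq _).symm
  · rw [if_neg hxN]
    have hset : {y : G s | y • oinf s ≠ oinf s ∧ delta s hs c₀ y = delta s hs c₀ y₀ ∧
        SolP s m (Tg s hs a b) y} = ∅ := by
      apply Set.eq_empty_of_forall_notMem
      rintro y ⟨hy, hδ, hsol⟩
      have hdy : Tg s hs 0 c₀ * (y * Tg s hs 0 c₀ * y⁻¹) =
          Tg s hs 0 c₀ * (y₀ * Tg s hs 0 c₀ * y₀⁻¹) := hδ
      exact hxN ((solP_iff_of_moves s hs hnt hm hk hab hx hy hU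
        (by rw [hdy]; exact hdU) (by rw [hdy]; exact hd1)).1 hsol).1
    rw [hset, Set.ncard_empty]

open Classical in
include hs in
/-- fibres for the involution `t`. -/
theorem fiber_ncard_t (hnt : ∃ y : F, s y ≠ y ^ 2) {m : ℕ} (hm : 1 ≤ m)
    (hk : Nat.card F = 2 ^ (2 * m + 1)) {c₀ : F} (hc₀ : c₀ ≠ 0)
    {y₀ : G s} (hy₀ : y₀ • oinf s ≠ oinf s) :
    {y : G s | y • oinf s ≠ oinf s ∧ delta s hs c₀ y = delta s hs c₀ y₀ ∧
      SolP s m (Tg s hs 0 c₀) y}.ncard =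
      if (∃ p : Ov s, delta s hs c₀ y₀ • p = p) then 2 else 4 := by
  obtain ⟨hd1, hdinf, hconj, U, hU, hdU, htN, u, huN, hu⟩ :=
    delta_data s hs hnt hm hk hc₀ hy₀
  have hab : ¬((0 : F) = 0 ∧ c₀ = 0) := by rintro ⟨-, h⟩; exact hc₀ h
  rw [fiber_ncard s hs hnt hm hk hc₀ hab (Or.inl rfl) hy₀ hU hdU, if_pos htN]
  by_cases hfix : ∃ p : Ov s, delta s hs c₀ y₀ • p = p
  · rw [if_pos hfix]
    obtain ⟨p, hp⟩ := hfix
    exact (SU_split s hs hnt hm hk hU hdU hd1 hp hc₀ htN).1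
  · rw [if_neg hfix]
    push Not at hfix
    exact card_SU_nonsplit s hs hnt hm hk hU hdU hfix hc₀ htN

open Classical in
include hs in
/-- fibres for the elements of order four with square `t`, summed. -/
theorem fiber_ncard_sum (hnt : ∃ y : F, s y ≠ y ^ 2) {m : ℕ} (hm : 1 ≤ m)
    (hk : Nat.card F = 2 ^ (2 * m + 1)) {a₀ : F} (ha₀ : a₀ ≠ 0)
    {y₀ : G s} (hy₀ : y₀ • oinf s ≠ oinf s) :
    {by' : F × G s | by'.2 • oinf s ≠ oinf s ∧
      delta s hs (s a₀ * a₀) by'.2 = delta s hs (s a₀ * a₀) y₀ ∧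
      SolP s m (Tg s hs a₀ by'.1) by'.2}.ncard =
      if (∃ p : Ov s, delta s hs (s a₀ * a₀) y₀ • p = p) then 0 else 8 := by
  have hc₀ : s a₀ * a₀ ≠ 0 := mul_ne_zero ((map_ne_zero s).2 ha₀) ha₀
  obtain ⟨c₀, hc₀'⟩ : ∃ c₀, c₀ = s a₀ * a₀ := ⟨_, rfl⟩
  rw [← hc₀'] at hc₀ ⊢
  obtain ⟨hd1, hdinf, hconj, U, hU, hdU, htN, u, huN, hu⟩ :=
    delta_data s hs hnt hm hk hc₀ hy₀
  have habt : ¬((0 : F) = 0 ∧ c₀ = 0) := by rintro ⟨-, h⟩; exact hc₀ h
  have habx : ∀ b : F, ¬(a₀ = 0 ∧ b = 0) := fun b h => ha₀ h.1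
  have hxx : ∀ b : F, Tg s hs a₀ b = Tg s hs 0 c₀ ∨
      Tg s hs a₀ b * Tg s hs a₀ b = Tg s hs 0 c₀ := by
    intro b
    right
    rw [Tg_mul_self, hc₀']
  -- the criterion in the fibre
  have hcrit : ∀ (b : F) (y : G s), y • oinf s ≠ oinf s →
      delta s hs c₀ y = delta s hs c₀ y₀ →
      (SolP s m (Tg s hs a₀ b) y ↔ Tg s hs a₀ b ∈ SU s hs U ∧ SolP s m (Tg s hs 0 c₀) y) := by
    intro b y hy hδ
    have hdy : Tg s hs 0 c₀ * (y * Tg s hs 0 c₀ * y⁻¹) =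
        Tg s hs 0 c₀ * (y₀ * Tg s hs 0 c₀ * y₀⁻¹) := hδ
    have hdU' : Tg s hs 0 c₀ * (y * Tg s hs 0 c₀ * y⁻¹) ∈ U := by rw [hdy]; exact hdU
    have hd1' : Tg s hs 0 c₀ * (y * Tg s hs 0 c₀ * y⁻¹) ≠ 1 := by rw [hdy]; exact hd1
    rw [solP_iff_of_moves s hs hnt hm hk (habx b) (hxx b) hy hU hdU' hd1',
      solP_iff_of_moves s hs hnt hm hk habt (Or.inl rfl) hy hU hdU' hd1']
    constructor
    · rintro ⟨h1, h2⟩
      exact ⟨⟨⟨a₀, b, rfl⟩, h1⟩, htN, h2⟩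
    · rintro ⟨h1, -, h2⟩
      exact ⟨h1.2, h2⟩
  by_cases hfix : ∃ p : Ov s, delta s hs c₀ y₀ • p = p
  · rw [if_pos hfix]
    obtain ⟨p, hp⟩ := hfix
    have hSU := (SU_split s hs hnt hm hk hU hdU hd1 hp hc₀ htN).2
    have hset : {by' : F × G s | by'.2 • oinf s ≠ oinf s ∧
        delta s hs c₀ by'.2 = delta s hs c₀ y₀ ∧ SolP s m (Tg s hs a₀ by'.1) by'.2} = ∅ := by
      apply Set.eq_empty_of_forall_notMem
      rintro ⟨b, y⟩ ⟨hy, hδ, hsol⟩
      have h1 := ((hcrit b y hy hδ).1 hsol).1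
      rcases (hSU _).1 h1 with h | h
      · exact ha₀ ((Tg_eq_one_iff s hs).1 h).1
      · exact ha₀ (Tg_inj s hs h).1
    rw [hset, Set.ncard_empty]
  · rw [if_neg hfix]
    have hfix' := hfix
    push Not at hfix
    obtain ⟨f, hff, hSU⟩ := SU_nonsplit s hs hnt hm hk hU hdU hfix hc₀ htN
    have hfS : f ∈ SU s hs U := (hSU f).2 (Or.inr (Or.inr (Or.inl rfl)))
    obtain ⟨⟨a₁, b₁, rfl⟩, hfN⟩ := hfS
    have ha₁ : a₁ = a₀ := by
      rw [Tg_mul_self, hc₀'] at hff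
      exact mu_injective s hs (Tg_inj s hs hff).2
    subst ha₁
    have hb₁₂ : b₁ ≠ b₁ + a₁ * s a₁ := by
      intro h
      have : a₁ * s a₁ = 0 := by
        have e : a₁ * s a₁ = (b₁ + a₁ * s a₁) - b₁ := by ring
        rw [e, ← h, sub_self]
      rw [mul_comm] at this
      exact hc₀ (hc₀'.trans this)
    have hmemb : ∀ b : F, Tg s hs a₁ b ∈ SU s hs U ↔ b = b₁ ∨ b = b₁ + a₁ * s a₁ := by
      intro b
      rw [hSU, Tg_inv]
      constructor
      · rintro (h | h | h | h)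
        · exact absurd ((Tg_eq_one_iff s hs).1 h).1 ha₀
        · exact absurd (Tg_inj s hs h).1 ha₀
        · exact Or.inl (Tg_inj s hs h).2
        · exact Or.inr (Tg_inj s hs h).2
      · rintro (rfl | rfl)
        · exact Or.inr (Or.inr (Or.inl rfl))
        · exact Or.inr (Or.inr (Or.inr rfl))
    have hset : {by' : F × G s | by'.2 • oinf s ≠ oinf s ∧
        delta s hs c₀ by'.2 = delta s hs c₀ y₀ ∧ SolP s m (Tg s hs a₁ by'.1) by'.2} =
        ({b₁, b₁ + a₁ * s a₁} : Set F) ×ˢ {y : G s | y • oinf s ≠ oinf s ∧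
          delta s hs c₀ y = delta s hs c₀ y₀ ∧ SolP s m (Tg s hs 0 c₀) y} := by
      ext ⟨b, y⟩
      simp only [Set.mem_ofPred_eq, Set.mem_prod, Set.mem_insert_iff, Set.mem_singleton_iff]
      constructor
      · rintro ⟨hy, hδ, hsol⟩
        have h1 := (hcrit b y hy hδ).1 hsol
        exact ⟨(hmemb b).1 h1.1, hy, hδ, h1.2⟩
      · rintro ⟨hb, hy, hδ, hsol⟩
        exact ⟨hy, hδ, (hcrit b y hy hδ).2 ⟨(hmemb b).2 hb, hsol⟩⟩
    rw [hset, Set.ncard_prod, Set.ncard_pair hb₁₂, fiber_ncard_t s hs hnt hm hk hc₀ hy₀,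
      if_neg hfix']

/-- the set of products `t * t'` over the conjugates `t'` of `t` not fixing `∞`. -/
def calD (c₀ : F) : Set (G s) := delta s hs c₀ '' {y : G s | y • oinf s ≠ oinf s}

include hs in
lemma ncard_moves (hnt : ∃ y : F, s y ≠ y ^ 2) :
    {y : G s | y • oinf s ≠ oinf s}.ncard =
      Nat.card F ^ 2 * (Nat.card F ^ 2 * (Nat.card F - 1)) := by
  have h1 : {y : G s | y • oinf s ≠ oinf s} = ((Bs s : Subgroup (G s)) : Set (G s))ᶜ := by
    ext y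
    rfl
  rw [h1, Set.ncard_compl, ← Nat.card_coe_set_eq]
  have h2 : Nat.card ((Bs s : Subgroup (G s)) : Set (G s)) =
      Nat.card F ^ 2 * (Nat.card F - 1) := card_stab s hs hnt (oinf s)
  rw [h2, card_G s hs hnt]
  generalize Nat.card F ^ 2 * (Nat.card F - 1) = B
  rw [add_mul, one_mul, Nat.add_sub_cancel]

include hs in
lemma ncard_moves_fiber (hnt : ∃ y : F, s y ≠ y ^ 2) {c₀ : F} (hc₀ : c₀ ≠ 0) {y₀ : G s}
    (hy₀ : y₀ • oinf s ≠ oinf s) :
    {y : G s | y • oinf s ≠ oinf s ∧ delta s hs c₀ y = delta s hs c₀ y₀}.ncard =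
      Nat.card F ^ 2 := by
  have hset : {y : G s | y • oinf s ≠ oinf s ∧ delta s hs c₀ y = delta s hs c₀ y₀} =
      (fun z => y₀ * z) '' ((Qs s hs : Subgroup (G s)) : Set (G s)) := by
    ext y
    constructor
    · rintro ⟨-, hδ⟩
      have hδ' : y * Tg s hs 0 c₀ * y⁻¹ = y₀ * Tg s hs 0 c₀ * y₀⁻¹ := mul_left_cancel hδ
      obtain ⟨z, hzQ, -, hyz⟩ := (fiber_iff s hs hnt hc₀ ⊤ (Subgroup.mem_top y₀) y).1
        ⟨Subgroup.mem_top y, hδ'⟩
      exact ⟨z, hzQ, hyz.symm⟩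
    · rintro ⟨z, hzQ, rfl⟩
      have h1 := (fiber_iff s hs hnt hc₀ ⊤ (Subgroup.mem_top y₀) (y₀ * z)).2
        ⟨z, hzQ, Subgroup.mem_top z, rfl⟩
      refine ⟨?_, ?_⟩
      · obtain ⟨a', b', rfl⟩ := hzQ
        rw [mul_smul, Tg_smul_oinf]
        exact hy₀
      · show Tg s hs 0 c₀ * ((y₀ * z) * Tg s hs 0 c₀ * (y₀ * z)⁻¹) =
          Tg s hs 0 c₀ * (y₀ * Tg s hs 0 c₀ * y₀⁻¹)
        rw [h1.2]
  rw [hset, Set.ncard_image_of_injective _ (mul_right_injective y₀), ← Nat.card_coe_set_eq]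
  exact card_Qs s hs

include hs in
lemma mem_calD_of_fix_pair (hnt : ∃ y : F, s y ≠ y ^ 2) {m : ℕ} (hm : 1 ≤ m)
    (hk : Nat.card F = 2 ^ (2 * m + 1)) {c₀ : F} (hc₀ : c₀ ≠ 0) {p : Ov s} (hp : p ≠ oinf s)
    {d : G s} (hd1 : d ≠ 1) (hdp : d • p = p)
    (hdtp : d • (Tg s hs 0 c₀ • p) = Tg s hs 0 c₀ • p) : d ∈ calD s hs c₀ := by
  obtain ⟨t, ht⟩ : ∃ t, t = Tg s hs 0 c₀ := ⟨_, rfl⟩
  have htt : t * t = 1 := by rw [ht]; exact Tg_zero_sq s hs c₀
  have htinv : t⁻¹ = t := inv_eq_of_mul_eq_one_left htt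
  have htinf : t • oinf s = oinf s := by rw [ht]; exact Tg_smul_oinf s hs 0 c₀
  have hfix : ∀ p : Ov s, t • p = p → p = oinf s := by
    intro p hp
    rw [ht] at hp
    exact Tg_fix_only s hs (a := 0) (b := c₀) (by rintro ⟨-, h⟩; exact hc₀ h) hp
  have htp : t • p ≠ p := fun h => hp (hfix p h)
  have htpinf : t • p ≠ oinf s := by
    intro h
    apply hp
    have := congrArg (fun q => t⁻¹ • q) h
    simp only [inv_smul_smul] at this
    rw [this, htinv, htinf]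
  have http : t • (t • p) = p := by rw [← mul_smul, htt, one_smul]
  rw [← ht] at hdtp
  obtain ⟨A, hA⟩ : ∃ A : Subgroup (G s), A = MulAction.stabilizer (G s) p ⊓
      MulAction.stabilizer (G s) (t • p) := ⟨_, rfl⟩
  have hAcyc : IsCyclic A := by
    apply isCyclic_of_fix_two s hs hnt (Ne.symm htp) A
    · intro g hg
      rw [hA] at hg
      exact hg.1
    · intro g hg
      rw [hA] at hg
      exact hg.2
  have hAcard : Nat.card A = 2 ^ (2 * m + 1) - 1 := by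
    rw [hA, card_stab_two s hs hnt (Ne.symm htp), hk]
  have hAt : IsTorus s m A := ⟨hAcyc, by rw [hAcard]; simp [torusOrders]⟩
  have hdA : d ∈ A := by rw [hA]; exact ⟨hdp, hdtp⟩
  have hconjA : t * d * t⁻¹ ∈ A := by
    rw [hA]
    constructor
    · show (t * d * t⁻¹) • p = p
      rw [htinv, mul_smul, mul_smul, hdtp, http]
    · show (t * d * t⁻¹) • (t • p) = t • p
      rw [htinv, mul_smul, mul_smul, http, hdp]
  have htN : t ∈ Subgroup.normalizer (A : Set (G s)) :=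
    mem_normalizer_of_conj_mem s hs hnt hm hk (Or.inr hAt) hdA hd1 hconjA
  have hinv : t * d * t⁻¹ = d⁻¹ := by
    rw [ht] at htN ⊢
    exact inverts_torus s hs hnt hm hAt hc₀ htN hdA
  have ht'sq : (t * d) * (t * d) = 1 := by
    calc (t * d) * (t * d) = (t * d * t⁻¹) * d := by rw [htinv]; group
      _ = 1 := by rw [hinv]; group
  have ht'1 : t * d ≠ 1 := by
    intro h
    have : d = t := by rw [← htinv]; exact eq_inv_of_mul_eq_one_right h
    rw [this] at hdp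
    exact htp hdp
  obtain ⟨x, c', hx⟩ := exists_conj_Tg_zero s hs hnt hk (e := t * d) (by rw [sq]; exact ht'sq)
  have hc' : c' ≠ 0 := by
    rintro rfl
    apply ht'1
    rw [hx, Tg_zero]; group
  obtain ⟨v, hv⟩ := exists_sq_mul_s_eq s hs (c := c' / c₀) (div_ne_zero hc' hc₀)
  have hDg : Dg s hs v * Tg s hs 0 c₀ * (Dg s hs v)⁻¹ = Tg s hs 0 c' := by
    rw [Dg_conj_Tg, mul_zero, hv, div_mul_cancel₀ _ hc₀]
  refine ⟨x * Dg s hs v, ?_, ?_⟩
  · show (x * Dg s hs v) • oinf s ≠ oinf s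
    intro h
    rw [mul_smul, Dg_smul_oinf] at h
    have h1 : (t * d) • oinf s = oinf s := by
      rw [hx, mul_smul, mul_smul, inv_smul_eq_iff.2 h.symm, Tg_smul_oinf, h]
    have h2 : d • oinf s = oinf s := by
      rw [mul_smul] at h1
      have := congrArg (fun q => t⁻¹ • q) h1
      simp only [inv_smul_smul] at this
      rw [this, htinv, htinf]
    exact hd1 (three_point s hs hnt d (oinf s) p (t • p) hp.symm (Ne.symm htp)
      (Ne.symm htpinf) h2 hdp hdtp)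
  · show Tg s hs 0 c₀ * ((x * Dg s hs v) * Tg s hs 0 c₀ * (x * Dg s hs v)⁻¹) = d
    have e : x * Dg s hs v * Tg s hs 0 c₀ * (x * Dg s hs v)⁻¹ =
        x * (Dg s hs v * Tg s hs 0 c₀ * (Dg s hs v)⁻¹) * x⁻¹ := by group
    rw [e, hDg, ← hx, ← ht, ← mul_assoc, htt, one_mul]

end sol4

end Cfsg.Agent.Lib.Helper6.Sz
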