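import Cfsg.Agent.Lib.Helper6.SzSol4

set_option autoImplicit false

/-! # Solubilizers in Suzuki groups: global counts -/

namespace Cfsg.Agent.Lib.Helper6.Sz

open scoped Pointwise
open Cfsg.Agent.Lib.Helper6.TI Cfsg.Agent.Lib.Helper6.SzArith

section sol5
variable {F : Type*} [Field F] [CharP F 2] [Finite F] (s : F →+* F)
  (hs : ∀ x, s (s x) = x ^ 2)

/-- pairs of a point `p ≠ ∞` and a nonidentity element fixing `p` and `t p`. -/
def PiSet (c₀ : F) : Set (Ov s × G s) :=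
  {pd | pd.1 ≠ oinf s ∧ pd.2 ≠ 1 ∧ pd.2 • pd.1 = pd.1 ∧
    pd.2 • (Tg s hs 0 c₀ • pd.1) = Tg s hs 0 c₀ • pd.1}

omit [CharP F 2] in
lemma ncard_ne_oinf : {p : Ov s | p ≠ oinf s}.ncard = Nat.card F ^ 2 := by
  have h1 : {p : Ov s | p ≠ oinf s} = ({oinf s} : Set (Ov s))ᶜ := by
    ext p
    rfl
  rw [h1, Set.ncard_compl, Set.ncard_singleton, Nat.card_coe_set_eq, ncard_Ov,
    Nat.add_sub_cancel]

include hs in
lemma ncard_PiSet_left (hnt : ∃ y : F, s y ≠ y ^ 2) {c₀ : F} (hc₀ : c₀ ≠ 0) :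
    (PiSet s hs c₀).ncard = (Nat.card F - 1 - 1) * Nat.card F ^ 2 := by
  rw [← ncard_ne_oinf s]
  apply ncard_fiber_const (PiSet s hs c₀) Prod.fst {p : Ov s | p ≠ oinf s}
  · rintro ⟨p, d⟩ h
    exact h.1
  · intro p hp
    have hp' : p ≠ oinf s := hp
    have htp : Tg s hs 0 c₀ • p ≠ p := fun h =>
      hp' (Tg_fix_only s hs (a := 0) (b := c₀) (by rintro ⟨-, h⟩; exact hc₀ h) h)
    have hset : {a | a ∈ PiSet s hs c₀ ∧ a.1 = p} = (fun d => (p, d)) ''
        (((MulAction.stabilizer (G s) p ⊓ MulAction.stabilizer (G s) (Tg s hs 0 c₀ • p) :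
          Subgroup (G s)) : Set (G s)) \ {1}) := by
      ext ⟨p', d⟩
      constructor
      · rintro ⟨⟨-, hd1, h1, h2⟩, hpp⟩
        have hpp' : p' = p := hpp
        subst hpp'
        exact ⟨d, ⟨⟨h1, h2⟩, hd1⟩, rfl⟩
      · rintro ⟨d', ⟨⟨h1, h2⟩, hd1⟩, heq⟩
        have e1 : p = p' := congrArg Prod.fst heq
        have e2 : d' = d := congrArg Prod.snd heq
        subst e1; subst e2
        exact ⟨⟨hp', hd1, h1, h2⟩, rfl⟩
    rw [hset, Set.ncard_image_of_injective _ (fun d d' h => congrArg Prod.snd h),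
      Set.ncard_sdiff_singleton_of_mem (Subgroup.one_mem _), ← Nat.card_coe_set_eq]
    congr 1
    exact card_stab_two s hs hnt (Ne.symm htp)

open Classical in
include hs in
lemma ncard_PiSet_right (hnt : ∃ y : F, s y ≠ y ^ 2) {m : ℕ} (hm : 1 ≤ m)
    (hk : Nat.card F = 2 ^ (2 * m + 1)) {c₀ : F} (hc₀ : c₀ ≠ 0) :
    (PiSet s hs c₀).ncard =
      2 * {d | d ∈ calD s hs c₀ ∧ ∃ p : Ov s, d • p = p}.ncard := by
  have key := ncard_fiber_two (PiSet s hs c₀) Prod.snd (calD s hs c₀) ?_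
    (fun d => ∃ p : Ov s, d • p = p) 2 0 ?_
  · rw [key, zero_mul, add_zero]
  · rintro ⟨p, d⟩ ⟨hp, hd1, h1, h2⟩
    exact mem_calD_of_fix_pair s hs hnt hm hk hc₀ hp hd1 h1 h2
  · rintro d ⟨y₀, hy₀, rfl⟩
    have hy₀' : y₀ • oinf s ≠ oinf s := hy₀
    obtain ⟨hd1, hdinf, hconj, -⟩ := delta_data s hs hnt hm hk hc₀ hy₀'
    obtain ⟨t, ht⟩ : ∃ t, t = Tg s hs 0 c₀ := ⟨_, rfl⟩
    obtain ⟨d, hd⟩ : ∃ d, d = delta s hs c₀ y₀ := ⟨_, rfl⟩
    have hd' : d = Tg s hs 0 c₀ * (y₀ * Tg s hs 0 c₀ * y₀⁻¹) := hd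
    rw [← hd'] at hd1 hdinf
    rw [← hd', ← ht] at hconj
    rw [← hd]
    have htt : t * t = 1 := by rw [ht]; exact Tg_zero_sq s hs c₀
    have htinv : t⁻¹ = t := inv_eq_of_mul_eq_one_left htt
    have htinf : t • oinf s = oinf s := by rw [ht]; exact Tg_smul_oinf s hs 0 c₀
    have hfix : ∀ p : Ov s, t • p = p → p = oinf s := by
      intro p hp
      rw [ht] at hp
      exact Tg_fix_only s hs (a := 0) (b := c₀) (by rintro ⟨-, h⟩; exact hc₀ h) hp
    by_cases hfixd : ∃ p : Ov s, d • p = p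
    · rw [if_pos hfixd]
      obtain ⟨p₀, hp₀⟩ := hfixd
      have hp₀inf : p₀ ≠ oinf s := by
        rintro rfl
        exact hdinf hp₀
      have htp₀ : t • p₀ ≠ p₀ := fun h => hp₀inf (hfix p₀ h)
      have htp₀inf : t • p₀ ≠ oinf s := by
        intro h
        apply hp₀inf
        have := congrArg (fun q => t⁻¹ • q) h
        simp only [inv_smul_smul] at this
        rw [this, htinv, htinf]
      have http₀ : t • (t • p₀) = p₀ := by rw [← mul_smul, htt, one_smul]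
      have hdtp₀ : d • (t • p₀) = t • p₀ := by
        have e : d⁻¹ • (t • p₀) = t • p₀ := by
          rw [← hconj, htinv, mul_smul, mul_smul, http₀, hp₀]
        rw [inv_smul_eq_iff] at e
        exact e.symm
      have hset : {a | a ∈ PiSet s hs c₀ ∧ a.2 = d} = {(p₀, d), (t • p₀, d)} := by
        ext ⟨p', d'⟩
        constructor
        · rintro ⟨⟨hp', hd'1, h1, h2⟩, hdd⟩
          have hdd' : d' = d := hdd
          subst hdd'
          by_contra hne
          simp only [Set.mem_insert_iff, Set.mem_singleton_iff, Prod.mk.injEq, and_true,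
            not_or] at hne
          exact hd1 (three_point s hs hnt d' p₀ (t • p₀) p' (Ne.symm htp₀) (Ne.symm hne.2)
            (Ne.symm hne.1) hp₀ hdtp₀ h1)
        · rintro (h | h)
          · have e1 : p' = p₀ := congrArg Prod.fst h
            have e2 : d' = d := congrArg Prod.snd h
            subst e1; subst e2
            refine ⟨⟨hp₀inf, hd1, hp₀, ?_⟩, rfl⟩
            rw [← ht]; exact hdtp₀
          · have e1 : p' = t • p₀ := congrArg Prod.fst h
            have e2 : d' = d := congrArg Prod.snd h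
            subst e1; subst e2
            refine ⟨⟨htp₀inf, hd1, hdtp₀, ?_⟩, rfl⟩
            rw [← ht, http₀]; exact hp₀
      rw [hset, Set.ncard_pair]
      intro h
      exact htp₀ (congrArg Prod.fst h).symm
    · rw [if_neg hfixd]
      have hset : {a | a ∈ PiSet s hs c₀ ∧ a.2 = d} = ∅ := by
        apply Set.eq_empty_of_forall_notMem
        rintro ⟨p', d'⟩ ⟨⟨hp', hd'1, h1, h2⟩, hdd⟩
        have hdd' : d' = d := hdd
        subst hdd'
        exact hfixd ⟨p', h1⟩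
      rw [hset, Set.ncard_empty]

include hs in
/-- every element is of the form `s u + u` or `s u + u + 1`. -/
lemma exists_psi (γ : F) : ∃ u : F, γ = s u + u ∨ γ = s u + u + 1 := by
  let ψ : F →+ F := s.toAddMonoidHom + AddMonoidHom.id F
  have hψ : ∀ u, ψ u = s u + u := fun u => rfl
  have hker : ∀ u, ψ u = 0 → u = 0 ∨ u = 1 := by
    intro u hu
    rw [hψ] at hu
    have h1 : s u = u := by
      have := CharTwo.add_eq_zero.1 hu
      exact this
    have h2 : u ^ 2 = u := by rw [← hs u, h1, h1]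
    have h3 : u * (u - 1) = 0 := by rw [mul_sub, mul_one, ← sq, h2, sub_self]
    rcases mul_eq_zero.1 h3 with h | h
    · exact Or.inl h
    · exact Or.inr (sub_eq_zero.1 h)
  have hkerset : (ψ.ker : Set F) = {0, 1} := by
    ext u
    constructor
    · intro hu
      exact hker u hu
    · rintro (rfl | rfl)
      · exact ψ.ker.zero_mem
      · show ψ 1 = 0
        rw [hψ, map_one]
        exact CharTwo.add_self_eq_zero 1
  have hkercard : Nat.card ψ.ker = 2 := by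
    have h1 : Nat.card ψ.ker = ((ψ.ker : Set F)).ncard := Nat.card_coe_set_eq _
    rw [h1, hkerset, Set.ncard_pair zero_ne_one]
  have hidx : ψ.range.index = 2 := by
    rw [AddSubgroup.index_range, hkercard]
  have h1 : (1 : F) ∉ ψ.range := by
    rintro ⟨u, hu⟩
    rw [hψ] at hu
    have h2 : s (s u + u) = 1 := by rw [hu, map_one]
    rw [map_add, hs] at h2
    have h3 : u ^ 2 + u = 0 := by
      have e : u ^ 2 + u = (u ^ 2 + s u) + (s u + u) - (s u + s u) := by ring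
      rw [e, h2, hu, CharTwo.add_self_eq_zero, CharTwo.add_self_eq_zero, sub_zero]
    have h4 : u * (u + 1) = 0 := by rw [mul_add, mul_one, ← sq, h3]
    rcases mul_eq_zero.1 h4 with h | h
    · rw [h, map_zero, add_zero] at hu
      exact zero_ne_one hu
    · have hu1 : u = 1 := CharTwo.add_eq_zero.1 h
      rw [hu1, map_one, CharTwo.add_self_eq_zero] at hu
      exact zero_ne_one hu
  by_cases hγ : γ ∈ ψ.range
  · obtain ⟨u, hu⟩ := hγ
    exact ⟨u, Or.inl hu.symm⟩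
  · have h2 : γ + 1 ∈ ψ.range := by
      rw [AddSubgroup.add_mem_iff_of_index_two hidx]
      exact ⟨fun h => absurd h hγ, fun h => absurd h h1⟩
    obtain ⟨u, hu⟩ := h2
    refine ⟨u, Or.inr ?_⟩
    rw [← hψ, hu, add_assoc, CharTwo.add_self_eq_zero, add_zero]

include hs in
/-- conjugation inside the Sylow subgroup. -/
lemma Tg_conj_Tg (c e a b : F) :
    Tg s hs c e * Tg s hs a b * (Tg s hs c e)⁻¹ = Tg s hs a (b + s c * a + s a * c) := by
  rw [mul_inv_eq_iff_eq_mul, Tg_mul, Tg_mul]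
  congr 1
  · ring
  · have h2 : s a * c + s a * c = 0 := CharTwo.add_self_eq_zero _
    have e' : e + b + s c * a = b + s c * a + s a * c + e + s a * c - (s a * c + s a * c) := by
      ring
    rw [e', h2, sub_zero]

lemma solP_inv {m : ℕ} (x y : G s) : SolP s m x⁻¹ y ↔ SolP s m x y := by
  unfold SolP
  constructor
  · rintro (⟨p, hx, hy⟩ | ⟨U, hU, hx, hy⟩)
    · exact Or.inl ⟨p, by rw [inv_smul_eq_iff] at hx; exact hx.symm, hy⟩
    · exact Or.inr ⟨U, hU, (Subgroup.inv_mem_iff _).1 hx, hy⟩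
  · rintro (⟨p, hx, hy⟩ | ⟨U, hU, hx, hy⟩)
    · exact Or.inl ⟨p, by rw [inv_smul_eq_iff]; exact hx.symm, hy⟩
    · exact Or.inr ⟨U, hU, (Subgroup.inv_mem_iff _).2 hx, hy⟩

lemma card_sol_inv {m : ℕ} (x : G s) :
    Nat.card {y : G s // SolP s m x⁻¹ y} = Nat.card {y : G s // SolP s m x y} :=
  Nat.card_congr (Equiv.subtypeEquivRight (fun y => solP_inv s x y))

include hs in
/-- the solubilizer size is constant on the elements of order four with a given square. -/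
lemma card_sol_Tg_const {m : ℕ} {a₀ : F} (ha₀ : a₀ ≠ 0) (b b₀ : F) :
    Nat.card {y : G s // SolP s m (Tg s hs a₀ b) y} =
      Nat.card {y : G s // SolP s m (Tg s hs a₀ b₀) y} := by
  have hc₀ : s a₀ * a₀ ≠ 0 := mul_ne_zero ((map_ne_zero s).2 ha₀) ha₀
  obtain ⟨u, hu⟩ := exists_psi s hs ((b + b₀) / (s a₀ * a₀))
  have hconj : ∀ β : F, Tg s hs (a₀ * u) 0 * Tg s hs a₀ β * (Tg s hs (a₀ * u) 0)⁻¹ =
      Tg s hs a₀ (β + s a₀ * a₀ * (s u + u)) := by
    intro β
    rw [Tg_conj_Tg, map_mul]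
    congr 1
    ring
  have hbb : b = b₀ + (b + b₀) := by
    rw [add_comm b b₀, ← add_assoc, CharTwo.add_self_eq_zero, zero_add]
  rcases hu with hu | hu
  · have e : s a₀ * a₀ * (s u + u) = b + b₀ := by
      rw [← hu, mul_div_cancel₀ _ hc₀]
    have : Tg s hs a₀ b = Tg s hs (a₀ * u) 0 * Tg s hs a₀ b₀ * (Tg s hs (a₀ * u) 0)⁻¹ := by
      rw [hconj, e, ← hbb]
    rw [this, card_sol_conj s hs]
  · have e : s a₀ * a₀ * (s u + u) + s a₀ * a₀ = b + b₀ := by
      have : s a₀ * a₀ * (s u + u) + s a₀ * a₀ = s a₀ * a₀ * (s u + u + 1) := by ring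
      rw [this, ← hu, mul_div_cancel₀ _ hc₀]
    have : Tg s hs a₀ b = Tg s hs (a₀ * u) 0 * (Tg s hs a₀ b₀)⁻¹ * (Tg s hs (a₀ * u) 0)⁻¹ := by
      rw [Tg_inv, hconj]
      congr 1
      rw [mul_comm a₀ (s a₀), add_assoc, add_comm (s a₀ * a₀), e, ← hbb]
    rw [this, card_sol_conj s hs, card_sol_inv s]

include hs in
/-- the solubilizer of an element of the standard Sylow subgroup contains the Borel subgroup. -/
lemma card_sol_Tg (hnt : ∃ y : F, s y ≠ y ^ 2) {m : ℕ} (a b : F) :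
    Nat.card {y : G s // SolP s m (Tg s hs a b) y} =
      Nat.card F ^ 2 * (Nat.card F - 1) +
        {y : G s | y • oinf s ≠ oinf s ∧ SolP s m (Tg s hs a b) y}.ncard := by
  have h1 : Nat.card {y : G s // SolP s m (Tg s hs a b) y} =
      {y : G s | SolP s m (Tg s hs a b) y}.ncard := Nat.card_coe_set_eq _
  have hset : {y : G s | SolP s m (Tg s hs a b) y} =
      ((Bs s : Subgroup (G s)) : Set (G s)) ∪
        {y : G s | y • oinf s ≠ oinf s ∧ SolP s m (Tg s hs a b) y} := by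
    ext y
    constructor
    · intro hy
      by_cases h : y • oinf s = oinf s
      · exact Or.inl h
      · exact Or.inr ⟨h, hy⟩
    · rintro (h | h)
      · exact Or.inl ⟨oinf s, Tg_smul_oinf s hs a b, h⟩
      · exact h.2
  have hdisj : Disjoint (((Bs s : Subgroup (G s)) : Set (G s)))
      {y : G s | y • oinf s ≠ oinf s ∧ SolP s m (Tg s hs a b) y} := by
    rw [Set.disjoint_left]
    rintro y h1 ⟨h2, -⟩
    exact h2 h1
  rw [h1, hset, Set.ncard_union_eq hdisj (Set.toFinite _) (Set.toFinite _),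
    ← Nat.card_coe_set_eq]
  congr 1
  exact card_stab s hs hnt (oinf s)

include hs in
/-- the counts of the two kinds of products. -/
lemma ncard_calD (hnt : ∃ y : F, s y ≠ y ^ 2) {m : ℕ} (hm : 1 ≤ m)
    (hk : Nat.card F = 2 ^ (2 * m + 1)) {c₀ : F} (hc₀ : c₀ ≠ 0) :
    2 * {d | d ∈ calD s hs c₀ ∧ ∃ p : Ov s, d • p = p}.ncard =
      (2 ^ (2 * m + 1) - 1 - 1) * (2 ^ (2 * m + 1)) ^ 2 ∧
    {d | d ∈ calD s hs c₀ ∧ ∃ p : Ov s, d • p = p}.ncard +
      {d | d ∈ calD s hs c₀ ∧ ¬ ∃ p : Ov s, d • p = p}.ncard =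
      (2 ^ (2 * m + 1)) ^ 2 * (2 ^ (2 * m + 1) - 1) := by
  constructor
  · rw [← ncard_PiSet_right s hs hnt hm hk hc₀, ncard_PiSet_left s hs hnt hc₀, hk]
  · have key := ncard_fiber_two {y : G s | y • oinf s ≠ oinf s} (delta s hs c₀) (calD s hs c₀)
      (fun y hy => ⟨y, hy, rfl⟩) (fun d => ∃ p : Ov s, d • p = p)
      (Nat.card F ^ 2) (Nat.card F ^ 2) ?_
    · rw [ncard_moves s hs hnt, ← mul_add] at key
      have hpos : 0 < Nat.card F ^ 2 := by
        have : 0 < Nat.card F := Nat.card_pos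
        positivity
      have := Nat.eq_of_mul_eq_mul_left hpos key
      rw [← this, hk]
    · rintro d ⟨y₀, hy₀, rfl⟩
      have h1 := ncard_moves_fiber s hs hnt hc₀ hy₀
      rw [ite_self]
      rw [← h1]
      rfl

include hs in
/-- the solubilizer of an involution. -/
theorem card_sol_invol (hnt : ∃ y : F, s y ≠ y ^ 2) {m : ℕ} (hm : 1 ≤ m)
    (hk : Nat.card F = 2 ^ (2 * m + 1)) {c₀ : F} (hc₀ : c₀ ≠ 0) :
    Nat.card {y : G s // SolP s m (Tg s hs 0 c₀) y} =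
      (2 ^ (2 * m + 1)) ^ 2 * (4 * 2 ^ (2 * m + 1) - 3) := by
  obtain ⟨h1, h2⟩ := ncard_calD s hs hnt hm hk hc₀
  have key := ncard_fiber_two {y : G s | y • oinf s ≠ oinf s ∧ SolP s m (Tg s hs 0 c₀) y}
    (delta s hs c₀) (calD s hs c₀)
    (fun y hy => ⟨y, hy.1, rfl⟩) (fun d => ∃ p : Ov s, d • p = p) 2 4 ?_
  · rw [card_sol_Tg s hs hnt, key, hk]
    have hq8 : 8 ≤ 2 ^ (2 * m + 1) := by
      calc 8 = 2 ^ 3 := by norm_num
        _ ≤ 2 ^ (2 * m + 1) := Nat.pow_le_pow_right (by norm_num) (by omega)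
    generalize {d | d ∈ calD s hs c₀ ∧ ∃ p : Ov s, d • p = p}.ncard = ns at *
    generalize {d | d ∈ calD s hs c₀ ∧ ¬ ∃ p : Ov s, d • p = p}.ncard = nn at *
    obtain ⟨Q, hQ⟩ : ∃ Q, 2 ^ (2 * m + 1) = Q + 2 := ⟨2 ^ (2 * m + 1) - 2, by omega⟩
    rw [hQ] at h1 h2 ⊢
    have e1 : Q + 2 - 1 - 1 = Q := by omega
    have e2 : Q + 2 - 1 = Q + 1 := by omega
    have e3 : 4 * (Q + 2) - 3 = 4 * Q + 5 := by omega
    rw [e1] at h1
    rw [e2] at h2 ⊢
    rw [e3]
    nlinarith [h1, h2]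
  · rintro d ⟨y₀, hy₀, rfl⟩
    have h3 := fiber_ncard_t s hs hnt hm hk hc₀ hy₀
    rw [← h3]
    congr 1
    ext y
    constructor
    · rintro ⟨⟨h4, h5⟩, h6⟩
      exact ⟨h4, h6, h5⟩
    · rintro ⟨h4, h6, h5⟩
      exact ⟨⟨h4, h5⟩, h6⟩

include hs in
/-- the solubilizer of an element of order four. -/
theorem card_sol_order_four (hnt : ∃ y : F, s y ≠ y ^ 2) {m : ℕ} (hm : 1 ≤ m)
    (hk : Nat.card F = 2 ^ (2 * m + 1)) {a₀ : F} (ha₀ : a₀ ≠ 0) (b₀ : F) :
    Nat.card {y : G s // SolP s m (Tg s hs a₀ b₀) y} =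
      (2 ^ (2 * m + 1)) ^ 2 * (2 ^ (2 * m + 1) + 3) := by
  have hc₀ : s a₀ * a₀ ≠ 0 := mul_ne_zero ((map_ne_zero s).2 ha₀) ha₀
  obtain ⟨h1, h2⟩ := ncard_calD s hs hnt hm hk hc₀
  obtain ⟨w, hw⟩ : ∃ w, w = {y : G s | y • oinf s ≠ oinf s ∧
    SolP s m (Tg s hs a₀ b₀) y}.ncard := ⟨_, rfl⟩
  have hwconst : ∀ b : F, {y : G s | y • oinf s ≠ oinf s ∧
      SolP s m (Tg s hs a₀ b) y}.ncard = w := by
    intro b
    have e1 := card_sol_Tg s hs hnt (m := m) a₀ b
    have e2 := card_sol_Tg s hs hnt (m := m) a₀ b₀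
    rw [card_sol_Tg_const s hs ha₀ b b₀, e2] at e1
    rw [hw]
    exact (Nat.add_left_cancel e1).symm
  have keyR := ncard_fiber_const {by' : F × G s | by'.2 • oinf s ≠ oinf s ∧
      SolP s m (Tg s hs a₀ by'.1) by'.2} Prod.fst Set.univ (fun _ _ => Set.mem_univ _) w ?_
  · have keyD := ncard_fiber_two {by' : F × G s | by'.2 • oinf s ≠ oinf s ∧
        SolP s m (Tg s hs a₀ by'.1) by'.2} (fun by' => delta s hs (s a₀ * a₀) by'.2)
        (calD s hs (s a₀ * a₀)) (fun y hy => ⟨y.2, hy.1, rfl⟩)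
        (fun d => ∃ p : Ov s, d • p = p) 0 8 ?_
    · rw [keyD, Set.ncard_univ, hk, zero_mul, zero_add] at keyR
      rw [card_sol_Tg s hs hnt, ← hw, hk]
      have hq8 : 8 ≤ 2 ^ (2 * m + 1) := by
        calc 8 = 2 ^ 3 := by norm_num
          _ ≤ 2 ^ (2 * m + 1) := Nat.pow_le_pow_right (by norm_num) (by omega)
      generalize {d | d ∈ calD s hs (s a₀ * a₀) ∧ ∃ p : Ov s, d • p = p}.ncard = ns at *
      generalize {d | d ∈ calD s hs (s a₀ * a₀) ∧ ¬ ∃ p : Ov s, d • p = p}.ncard = nn at *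
      obtain ⟨Q, hQ⟩ : ∃ Q, 2 ^ (2 * m + 1) = Q + 2 := ⟨2 ^ (2 * m + 1) - 2, by omega⟩
      rw [hQ] at h1 h2 keyR ⊢
      have e1 : Q + 2 - 1 - 1 = Q := by omega
      have e2 : Q + 2 - 1 = Q + 1 := by omega
      rw [e1] at h1
      rw [e2] at h2 ⊢
      -- 2 * nn = (Q+2)^3, w * (Q+2) = 8 * nn
      have h3 : 2 * nn = (Q + 2) ^ 2 * (Q + 2) := by nlinarith [h1, h2]
      have h4 : w * (Q + 2) = 4 * (Q + 2) ^ 2 * (Q + 2) := by nlinarith [h3, keyR]
      have h5 : w = 4 * (Q + 2) ^ 2 := Nat.eq_of_mul_eq_mul_right (by omega) h4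
      rw [h5]
      ring
    · rintro d ⟨y₀, hy₀, rfl⟩
      have h3 := fiber_ncard_sum s hs hnt hm hk ha₀ hy₀
      rw [← h3]
      congr 1
      ext y
      constructor
      · rintro ⟨⟨h4, h5⟩, h6⟩
        exact ⟨h4, h6, h5⟩
      · rintro ⟨h4, h6, h5⟩
        exact ⟨⟨h4, h5⟩, h6⟩
  · intro b _
    rw [← hwconst b]
    have hset : {a | a ∈ {by' : F × G s | by'.2 • oinf s ≠ oinf s ∧
        SolP s m (Tg s hs a₀ by'.1) by'.2} ∧ a.1 = b} = (fun y => (b, y)) ''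
        {y : G s | y • oinf s ≠ oinf s ∧ SolP s m (Tg s hs a₀ b) y} := by
      ext ⟨b', y⟩
      constructor
      · rintro ⟨⟨h4, h5⟩, h6⟩
        have h6' : b' = b := h6
        subst h6'
        exact ⟨y, ⟨h4, h5⟩, rfl⟩
      · rintro ⟨y', ⟨h4, h5⟩, heq⟩
        have e1 : b = b' := congrArg Prod.fst heq
        have e2 : y' = y := congrArg Prod.snd heq
        subst e1; subst e2
        exact ⟨⟨h4, h5⟩, rfl⟩
    rw [hset, Set.ncard_image_of_injective _ (fun y y' h => congrArg Prod.snd h)]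

end sol5

end Cfsg.Agent.Lib.Helper6.Sz
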