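import Cfsg.Agent.Lib.Helper6.SzGroup

set_option autoImplicit false

/-! # The two-point stabilizer in the group of the Suzuki–Tits ovoid -/

namespace Cfsg.Agent.Lib.Helper6.Sz

open Matrix
open scoped Pointwise

section alg2
variable {F : Type*} [Field F] [CharP F 2] (s : F →+* F) (hs : ∀ x, s (s x) = x ^ 2)

lemma poly_trick (hnt : ∃ y : F, s y ≠ y ^ 2) {A1 A2 A3 : F}
    (h : ∀ y, A1 * y ^ 2 + A2 * (s y * y ^ 2) + A3 * s y = 0) : A1 = 0 ∧ A2 = 0 ∧ A3 = 0 := by
  have h2 : (2 : F) = 0 := CharTwo.two_eq_zero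
  obtain ⟨y0, hy0⟩ := hnt
  have hA2 : A2 = 0 := by
    have e1 := h (y0 + 1)
    have e2 := h y0
    have e3 := h 1
    simp only [map_add, map_one] at e1 e3
    have : A2 * (s y0 + y0 ^ 2) = 0 := by
      linear_combination e1 - e2 - e3 - (A1 * y0 + A2 * s y0 * y0 + A2 * y0) * h2
    rcases mul_eq_zero.1 this with h' | h'
    · exact h'
    · exfalso; apply hy0
      linear_combination h' - y0 ^ 2 * h2
  subst hA2
  have e3 := h 1
  simp only [map_one] at e3
  have e2 := h y0
  have h13 : A3 = -A1 := by linear_combination e3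
  subst h13
  have : A1 * (y0 ^ 2 - s y0) = 0 := by linear_combination e2
  rcases mul_eq_zero.1 this with h' | h'
  · subst h'; simp
  · exfalso; apply hy0
    linear_combination -h'

include hs in
lemma scale_rigid (hnt : ∃ y : F, s y ≠ y ^ 2) {a b c e κ : F} (hκ : κ ≠ 0)
    (h : ∀ x y, ff s (c * y + e * x) (a * y + b * x) = κ * ff s x y) :
    c = 0 ∧ b = 0 ∧ a = e * s e ∧ κ = e ^ 2 * s e := by
  have h2 : (2 : F) = 0 := CharTwo.two_eq_zero
  have h1 : ∀ y, (c * a) * y ^ 2 + (s c * c ^ 2) * (s y * y ^ 2) + (s a + κ) * s y = 0 := by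
    intro y
    have := h 0 y
    simp only [ff, mul_zero, add_zero, map_mul, map_zero, zero_mul, zero_add, ne_eq,
      OfNat.ofNat_ne_zero, not_false_eq_true, zero_pow] at this
    linear_combination this + (κ * s y) * h2
  obtain ⟨p1, p2, p3⟩ := poly_trick s hnt h1
  have hc : c = 0 := by
    rcases mul_eq_zero.1 p2 with h' | h'
    · simpa using h'
    · exact pow_eq_zero_iff (two_ne_zero) |>.1 h'
  subst hc
  have hκa : κ = s a := by linear_combination p3 - s a * h2
  have h1' : ∀ x, (e * b) * x ^ 2 + (s e * e ^ 2 + κ) * (s x * x ^ 2) + (s b) * s x = 0 := by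
    intro x
    have := h x 0
    simp only [ff, mul_zero, add_zero, map_mul, map_zero, zero_mul, zero_add] at this
    linear_combination this + (κ * (s x * x ^ 2)) * h2
  obtain ⟨q1, q2, q3⟩ := poly_trick s hnt h1'
  have hb : b = 0 := by simpa using q3
  subst hb
  have hκe : κ = s e * e ^ 2 := by linear_combination q2 - (s e * e ^ 2) * h2
  have he : e ≠ 0 := by
    intro he
    apply hκ
    rw [hκe, he]; simp
  have hea : e * a = κ := by
    have := h 1 1
    simp only [ff, mul_zero, add_zero, map_mul, map_one, zero_mul, zero_add, mul_one,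
      one_pow] at this
    rw [← hκa] at this
    linear_combination this + hκe
  refine ⟨rfl, rfl, ?_, by rw [hκe]; ring⟩
  have : e * (a - e * s e) = 0 := by linear_combination hea + hκe
  rcases mul_eq_zero.1 this with h' | h'
  · exact absurd h' he
  · exact sub_eq_zero.1 h'

lemma eq_one_of_pow_four {x : F} (h : x ^ 4 = 1) : x = 1 := by
  have h2 : (2 : F) = 0 := CharTwo.two_eq_zero
  have : (x - 1) ^ 4 = 0 := by
    linear_combination h + (-2 * x ^ 3 + 3 * x ^ 2 - 2 * x + 1) * h2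
  have := pow_eq_zero_iff (n := 4) (by norm_num) |>.1 this
  exact sub_eq_zero.1 this

end alg2

section mulVec
variable {F : Type*} [Field F]

lemma mulVec_apply4 (A : Matrix (Fin 4) (Fin 4) F) (v : Fin 4 → F) (i : Fin 4) :
    (A *ᵥ v) i = A i 0 * v 0 + A i 1 * v 1 + A i 2 * v 2 + A i 3 * v 3 := by
  simp [Matrix.mulVec, dotProduct, Fin.sum_univ_four]

end mulVec

section stab2
variable {F : Type*} [Field F] [CharP F 2] [Finite F] (s : F →+* F)
  (hs : ∀ x, s (s x) = x ^ 2)

include hs in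
/-- an element of the group fixing `∞` preserves the tangent plane `v₃ = 0` at `∞`. -/
lemma last_zero_of_fix_e0 {g : Matrix.SpecialLinearGroup (Fin 4) F} (hg : g ∈ G s) {α : F}
    (h0 : g.1 *ᵥ e0 = α • e0) {v : Fin 4 → F} (hv : v 3 = 0) : (g.1 *ᵥ v) 3 = 0 := by
  by_contra hc
  have hα : α ≠ 0 := by
    intro h
    have := ((mem_G_iff s g).1 hg e0 onO_e0).ne_zero
    rw [h0, h, zero_smul] at this
    exact this rfl
  have hginv : g⁻¹ ∈ G s := (G s).inv_mem hg
  set c := (g.1 *ᵥ v) 3 with hcdef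
  set w := c⁻¹ • (g.1 *ᵥ v) with hw
  have hw3 : w 3 = 1 := by
    rw [hw, Pi.smul_apply, smul_eq_mul, ← hcdef, inv_mul_cancel₀ hc]
  have hP : Pv s (w 2) (w 1) = w + (ff s (w 2) (w 1) - w 0) • e0 := by
    apply vec4_ext <;> simp [hw3]
  have hu : OnO s ((g⁻¹).1 *ᵥ Pv s (w 2) (w 1)) := (mem_G_iff s _).1 hginv _ (onO_Pv _ _)
  have hinv_e0 : (g⁻¹).1 *ᵥ e0 = α⁻¹ • e0 := by
    have := inv_mulVec_mulVec g e0
    rw [h0, Matrix.mulVec_smul] at this
    calc (g⁻¹).1 *ᵥ e0 = α⁻¹ • (α • ((g⁻¹).1 *ᵥ e0)) := by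
          rw [smul_smul, inv_mul_cancel₀ hα, one_smul]
      _ = α⁻¹ • e0 := by rw [this]
  have hu_eq : (g⁻¹).1 *ᵥ Pv s (w 2) (w 1) =
      c⁻¹ • v + ((ff s (w 2) (w 1) - w 0) * α⁻¹) • e0 := by
    rw [hP, Matrix.mulVec_add, Matrix.mulVec_smul, hw, Matrix.mulVec_smul, inv_mulVec_mulVec,
      hinv_e0, smul_smul]
  have hu3 : ((g⁻¹).1 *ᵥ Pv s (w 2) (w 1)) 3 = 0 := by
    rw [hu_eq]; simp [hv]
  obtain ⟨c', _, hc'e⟩ := hu.of_last_zero hu3
  have hfin : Pv s (w 2) (w 1) = (c' * α) • e0 := by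
    have := mulVec_inv_mulVec g (Pv s (w 2) (w 1))
    rw [hc'e, Matrix.mulVec_smul, h0, smul_smul] at this
    exact this.symm
  have h3 := congr_fun hfin 3
  simp at h3

include hs in
/-- an element of the group fixing `P(0,0)` preserves the tangent plane `v₀ = 0` there. -/
lemma first_zero_of_fix_e3 {g : Matrix.SpecialLinearGroup (Fin 4) F} (hg : g ∈ G s) {δ : F}
    (h3 : g.1 *ᵥ Pv s 0 0 = δ • Pv s 0 0) {v : Fin 4 → F} (hv : v 0 = 0) :
    (g.1 *ᵥ v) 0 = 0 := by
  have hW := W_mem s hs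
  have hg'mem : W * g * W ∈ G s := (G s).mul_mem ((G s).mul_mem hW hg) hW
  have hcoe : (W * g * W : Matrix.SpecialLinearGroup (Fin 4) F).1 = Wm * g.1 * Wm := rfl
  have h0' : (W * g * W : Matrix.SpecialLinearGroup (Fin 4) F).1 *ᵥ e0 = δ • e0 := by
    rw [hcoe, ← Matrix.mulVec_mulVec, ← Matrix.mulVec_mulVec, Wm_e0 s, h3, Matrix.mulVec_smul,
      Wm_Pv00]
  have hv' : ((Wm : Matrix (Fin 4) (Fin 4) F) *ᵥ v) 3 = 0 := by
    rw [Wm_mulVec]; simpa using hv
  have := last_zero_of_fix_e0 s hs hg'mem h0' hv'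
  have e : (W * g * W : Matrix.SpecialLinearGroup (Fin 4) F).1 *ᵥ (Wm *ᵥ v) =
      Wm *ᵥ (g.1 *ᵥ v) := by
    rw [hcoe, Matrix.mulVec_mulVec, Matrix.mul_assoc, Wm_mul_Wm, Matrix.mul_one,
      Matrix.mulVec_mulVec]
  rw [e, Wm_mulVec] at this
  simpa using this

include hs in
/-- the stabilizer of `∞` and `P(0,0)` in the group of the ovoid consists of the `D t`. -/
theorem two_point_stab (hnt : ∃ y : F, s y ≠ y ^ 2)
    {g : Matrix.SpecialLinearGroup (Fin 4) F} (hg : g ∈ G s) {α δ : F}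
    (h0 : g.1 *ᵥ e0 = α • e0) (h3 : g.1 *ᵥ Pv s 0 0 = δ • Pv s 0 0) :
    ∃ t : Fˣ, g = D s t := by
  have h2 : (2 : F) = 0 := CharTwo.two_eq_zero
  have hgO := (mem_G_iff s g).1 hg
  -- column 0
  have c00 : g.1 0 0 = α := by
    have := congr_fun h0 0; rw [mulVec_apply4] at this; simpa using this
  have c10 : g.1 1 0 = 0 := by
    have := congr_fun h0 1; rw [mulVec_apply4] at this; simpa using this
  have c20 : g.1 2 0 = 0 := by
    have := congr_fun h0 2; rw [mulVec_apply4] at this; simpa using this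
  have c30 : g.1 3 0 = 0 := by
    have := congr_fun h0 3; rw [mulVec_apply4] at this; simpa using this
  -- column 3
  have c03 : g.1 0 3 = 0 := by
    have := congr_fun h3 0; rw [mulVec_apply4] at this; simpa using this
  have c13 : g.1 1 3 = 0 := by
    have := congr_fun h3 1; rw [mulVec_apply4] at this; simpa using this
  have c23 : g.1 2 3 = 0 := by
    have := congr_fun h3 2; rw [mulVec_apply4] at this; simpa using this
  have c33 : g.1 3 3 = δ := by
    have := congr_fun h3 3; rw [mulVec_apply4] at this; simpa using this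
  -- rows 3 and 0
  have c31 : g.1 3 1 = 0 := by
    have := last_zero_of_fix_e0 s hs hg h0 (v := ![0, 1, 0, 0]) (by simp)
    rw [mulVec_apply4] at this; simpa using this
  have c32 : g.1 3 2 = 0 := by
    have := last_zero_of_fix_e0 s hs hg h0 (v := ![0, 0, 1, 0]) (by simp)
    rw [mulVec_apply4] at this; simpa using this
  have c01 : g.1 0 1 = 0 := by
    have := first_zero_of_fix_e3 s hs hg h3 (v := ![0, 1, 0, 0]) (by simp)
    rw [mulVec_apply4] at this; simpa using this
  have c02 : g.1 0 2 = 0 := by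
    have := first_zero_of_fix_e3 s hs hg h3 (v := ![0, 0, 1, 0]) (by simp)
    rw [mulVec_apply4] at this; simpa using this
  have hα : α ≠ 0 := by
    intro h
    have := (hgO e0 onO_e0).ne_zero
    rw [h0, h, zero_smul] at this
    exact this rfl
  have hδ : δ ≠ 0 := by
    intro h
    have := (hgO _ (onO_Pv 0 0)).ne_zero
    rw [h3, h, zero_smul] at this
    exact this rfl
  -- the functional equation
  have hfe : ∀ x y : F, ff s (g.1 2 1 / δ * y + g.1 2 2 / δ * x)
      (g.1 1 1 / δ * y + g.1 1 2 / δ * x) = α / δ * ff s x y := by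
    intro x y
    have hO := hgO _ (onO_Pv (s := s) x y)
    have e3 : (g.1 *ᵥ Pv s x y) 3 = δ := by
      rw [mulVec_apply4]; simp [c30, c31, c32, c33]
    have e2 : (g.1 *ᵥ Pv s x y) 2 = g.1 2 1 * y + g.1 2 2 * x := by
      rw [mulVec_apply4]; simp [c20, c23]
    have e1 : (g.1 *ᵥ Pv s x y) 1 = g.1 1 1 * y + g.1 1 2 * x := by
      rw [mulVec_apply4]; simp [c10, c13]
    have e0' : (g.1 *ᵥ Pv s x y) 0 = α * ff s x y := by
      rw [mulVec_apply4]; simp [c00, c01, c02, c03]
    have hne : (g.1 *ᵥ Pv s x y) 3 ≠ 0 := by rw [e3]; exact hδ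
    have := congr_fun (hO.of_last_ne_zero hne) 0
    rw [e3, e2, e1, e0'] at this
    simp only [Pi.smul_apply, Pv_apply_zero, smul_eq_mul] at this
    have e4 : g.1 2 1 / δ * y + g.1 2 2 / δ * x = (g.1 2 1 * y + g.1 2 2 * x) / δ := by
      field_simp
    have e5 : g.1 1 1 / δ * y + g.1 1 2 / δ * x = (g.1 1 1 * y + g.1 1 2 * x) / δ := by
      field_simp
    rw [e4, e5]
    set Z := ff s ((g.1 2 1 * y + g.1 2 2 * x) / δ) ((g.1 1 1 * y + g.1 1 2 * x) / δ) with hZ
    field_simp
    linear_combination -this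
  obtain ⟨k1, k2, k3, k4⟩ := scale_rigid s hs hnt (div_ne_zero hα hδ) hfe
  have c21 : g.1 2 1 = 0 := by
    rcases div_eq_zero_iff.1 k1 with h | h
    · exact h
    · exact absurd h hδ
  have c12 : g.1 1 2 = 0 := by
    rcases div_eq_zero_iff.1 k2 with h | h
    · exact h
    · exact absurd h hδ
  -- choose t
  have hsurj : Function.Surjective s := Finite.injective_iff_surjective.1 s.injective
  obtain ⟨t0, ht0⟩ := hsurj (g.1 2 2 / δ)
  have ht0ne : t0 ≠ 0 := by
    intro h
    rw [h, map_zero] at ht0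
    rw [← ht0] at k4
    simp at k4
    rcases k4 with h | h
    · exact hα h
    · exact hδ h
  have hst0 : s t0 ≠ 0 := by simpa using ht0ne
  have c22 : g.1 2 2 = s t0 * δ := by
    rw [ht0]; field_simp
  have c11 : g.1 1 1 = s t0 * t0 ^ 2 * δ := by
    have : g.1 1 1 = (g.1 1 1 / δ) * δ := by field_simp
    rw [this, k3, ← ht0, hs]
  have cα : α = (s t0) ^ 2 * t0 ^ 2 * δ := by
    have : α = (α / δ) * δ := by field_simp
    rw [this, k4, ← ht0, hs]
  -- determinant
  have hdet := g.2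
  rw [det4] at hdet
  simp only [c00, c01, c02, c03, c10, c13, c20, c23, c30, c31, c32, c33, c21, c12, c22, c11,
    cα] at hdet
  have hpow : (t0 * s t0 * δ) ^ 4 = 1 := by linear_combination hdet
  have hδ' : t0 * s t0 * δ = 1 := eq_one_of_pow_four hpow
  have hδ'' : δ = (t0 * s t0)⁻¹ := by
    field_simp
    linear_combination hδ'
  refine ⟨Units.mk0 t0 ht0ne, ?_⟩
  apply Subtype.ext
  ext i j
  fin_cases i <;> fin_cases j <;>
    simp [D, Dm, c00, c01, c02, c03, c10, c13, c20, c23, c30, c31, c32, c33, c21, c12, c22, c11,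
      cα, hδ''] <;> field_simp

end stab2

end Cfsg.Agent.Lib.Helper6.Sz
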