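import Cfsg.Agent.Lib.Helper6.SzRigid
import Cfsg.Agent.Lib.Helper6.SzBridge

set_option autoImplicit false

/-! # Subfield subgroups of Suzuki groups: existence and conjugacy -/

namespace Cfsg.Agent.Lib.Helper6.Sz

open Matrix
open scoped Pointwise

section main
variable {K : Type*} {F : Type*} [Field K] [Field F] [CharP K 2] [CharP F 2] [Finite K] [Finite F]
  (sK : K →+* K) (sF : F →+* F)
  (hsK : ∀ x, sK (sK x) = x ^ 2) (hsF : ∀ x, sF (sF x) = x ^ 2)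
  (hntK : ∃ y : K, sK y ≠ y ^ 2) (hntF : ∃ y : F, sF y ≠ y ^ 2)

include hsK hsF hntK hntF in
theorem subfield_main (hc : ∀ (ι : K →+* F) (x : K), sF (ι x) = ι (sK x)) {kK kF : ℕ}
    (hkK : Nat.card K = 2 ^ kK) (hkF : Nat.card F = 2 ^ kF) (ι : K →+* F) :
    (∃ S : Subgroup (G sF), Nonempty (S ≃* G sK)) ∧
    ∀ S₁ S₂ : Subgroup (G sF), Nonempty (S₁ ≃* G sK) → Nonempty (S₂ ≃* G sK) →
      ∃ g : G sF, S₂ = S₁.map (MulAut.conj g).toMonoidHom := by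
  refine ⟨⟨(Phi sK sF ι (hc ι) hsK hsF hntK).range,
    ⟨(MonoidHom.ofInjective (Phi_injective sK sF ι (hc ι) hsK hsF hntK)).symm⟩⟩, ?_⟩
  rintro S₁ S₂ ⟨e₁⟩ ⟨e₂⟩
  have key : ∀ (S : Subgroup (G sF)) (e : S ≃* G sK), ∃ (y : G sF),
      ∀ x : G sF, x ∈ S ↔ ∃ h : G sK, x = y * Phi sK sF ι (hc ι) hsK hsF hntK h * y⁻¹ := by
    intro S e
    let j : G sK →* G sF := S.subtype.comp e.symm.toMonoidHom
    have hj : Function.Injective j := by
      intro a b hab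
      exact e.symm.injective (Subtype.ext hab)
    obtain ⟨y, ι', hy⟩ := rigid sK sF hsK hsF hntK hntF hc hkK hkF j hj
    refine ⟨y, fun x => ⟨fun hx => ?_, ?_⟩⟩
    · have h1 : j (e ⟨x, hx⟩) = x := by
        show ((e.symm (e ⟨x, hx⟩) : S) : G sF) = x
        rw [e.symm_apply_apply]
      have h2 : Phi sK sF ι' (hc ι') hsK hsF hntK (e ⟨x, hx⟩) ∈
          (Phi sK sF ι (hc ι) hsK hsF hntK).range := by
        rw [← Phi_range_eq sK sF hsK hsF hntK ι ι' (hc ι) (hc ι')]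
        exact ⟨_, rfl⟩
      obtain ⟨h, hh⟩ := h2
      exact ⟨h, by rw [hh, ← hy, h1]⟩
    · rintro ⟨h, rfl⟩
      have h2 : Phi sK sF ι (hc ι) hsK hsF hntK h ∈
          (Phi sK sF ι' (hc ι') hsK hsF hntK).range := by
        rw [Phi_range_eq sK sF hsK hsF hntK ι ι' (hc ι) (hc ι')]
        exact ⟨_, rfl⟩
      obtain ⟨h', hh'⟩ := h2
      rw [← hh', ← hy]
      exact (e.symm h').2
  obtain ⟨y₁, hy₁⟩ := key S₁ e₁
  obtain ⟨y₂, hy₂⟩ := key S₂ e₂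
  refine ⟨y₂ * y₁⁻¹, ?_⟩
  ext x
  rw [Subgroup.mem_map, hy₂]
  constructor
  · rintro ⟨h, rfl⟩
    refine ⟨y₁ * Phi sK sF ι (hc ι) hsK hsF hntK h * y₁⁻¹, (hy₁ _).2 ⟨h, rfl⟩, ?_⟩
    simp only [MulEquiv.coe_toMonoidHom, MulAut.conj_apply]
    group
  · rintro ⟨z, hz, rfl⟩
    obtain ⟨h, rfl⟩ := (hy₁ z).1 hz
    refine ⟨h, ?_⟩
    simp only [MulEquiv.coe_toMonoidHom, MulAut.conj_apply]
    group

end main

end Cfsg.Agent.Lib.Helper6.Sz
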