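import Cfsg.Agent.Lib.Helper6.SzFpf
import Cfsg.Prelude.Def_OddOrderLocal

set_option autoImplicit false

/-! # Suzuki groups: the centralizers of fixed-point-free elements ("tori") -/

namespace Cfsg.Agent.Lib.Helper6.Sz

open scoped Pointwise

section tori
variable {F : Type*} [Field F] [CharP F 2] [Finite F] (s : F →+* F)
  (hs : ∀ x, s (s x) = x ^ 2)

include hs in
lemma not_dvd_card_stab {p : ℕ} [hp : Fact p.Prime] (hp2 : p ≠ 2)
    (hdvd : p ∣ Nat.card F ^ 2 + 1) : ¬ p ∣ Nat.card F ^ 2 * (Nat.card F - 1) := by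
  obtain ⟨hq, hord⟩ := ord_four hp2 hdvd
  intro h
  rcases (Nat.Prime.dvd_mul hp.out).1 h with h | h
  · apply hq
    rw [ZMod.natCast_eq_zero_iff]
    exact hp.out.dvd_of_dvd_pow h
  · apply hord 1 (by norm_num) (by norm_num)
    have hq1 : 1 ≤ Nat.card F := Nat.card_pos
    have := (ZMod.natCast_eq_zero_iff _ _).2 h
    rw [Nat.cast_sub hq1] at this
    rw [pow_one]
    push_cast at this
    linear_combination this

include hs in
/-- an element of odd prime order `p ∣ q² + 1` is fixed-point-free. -/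
lemma fpf_of_prime_order (hnt : ∃ y : F, s y ≠ y ^ 2) {p : ℕ} [hp : Fact p.Prime] (hp2 : p ≠ 2)
    (hdvd : p ∣ Nat.card F ^ 2 + 1) {x : G s} (hx : orderOf x = p) : IsFpf s x := by
  intro α hα
  have hmem : x ∈ MulAction.stabilizer (G s) α := hα
  have h1 : orderOf (⟨x, hmem⟩ : MulAction.stabilizer (G s) α) ∣
      Nat.card (MulAction.stabilizer (G s) α) := orderOf_dvd_natCard _
  rw [Subgroup.orderOf_mk, hx, card_stab s hs hnt α] at h1
  exact not_dvd_card_stab s hs hp2 hdvd h1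

include hs in
/-- a nonidentity element commuting with a fixed-point-free element of odd prime order is
fixed-point-free. -/
lemma fpf_of_commute_prime (hnt : ∃ y : F, s y ≠ y ^ 2) {p : ℕ} [hp : Fact p.Prime]
    (hp2 : p ≠ 2) {x : G s} (hx : orderOf x = p) (hxf : IsFpf s x) {u : G s} (hu1 : u ≠ 1)
    (hc : u * x = x * u) : IsFpf s u := by
  intro α hα
  apply hxf α
  have hfix : ∀ β : Ov s, u • β = β → u • (x • β) = x • β := by
    intro β hβ
    rw [← mul_smul, hc, mul_smul, hβ]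
  by_contra hxα
  have h1 : u • (x • α) = x • α := hfix α hα
  have h2 : u • (x • x • α) = x • x • α := hfix _ h1
  have hne : x • x • α ≠ x • α := fun h => hxα (MulAction.injective x h)
  have h3 : x • x • α = α := by
    by_contra h3
    exact hu1 (three_point s hs hnt u α (x • α) (x • x • α) (Ne.symm hxα) (Ne.symm hne)
      (Ne.symm h3) hα h1 h2)
  -- `x ^ 2` fixes `α`, and `x` has odd order
  have hodd : p % 2 = 1 := by
    rcases hp.out.eq_two_or_odd with h | h
    · exact absurd h hp2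
    · exact h
  obtain ⟨j, hj⟩ : ∃ j, p = 2 * j + 1 := ⟨p / 2, by omega⟩
  have hx2 : (x ^ 2) • α = α := by rw [sq, mul_smul]; exact h3
  have hx2j : ∀ i : ℕ, ((x ^ 2) ^ i) • α = α := by
    intro i
    induction i with
    | zero => simp
    | succ i ih => rw [pow_succ, mul_smul, hx2, ih]
  have hxp : x ^ p = 1 := by rw [← hx]; exact pow_orderOf_eq_one x
  rw [hj, pow_succ, pow_mul] at hxp
  have : ((x ^ 2) ^ j * x) • α = α := by rw [hxp, one_smul]
  rw [mul_smul] at this
  have h4 : x • α = ((x ^ 2) ^ j)⁻¹ • α := by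
    rw [eq_inv_smul_iff]; exact this
  apply hxα
  rw [h4, inv_smul_eq_iff, hx2j j]

include hs in
lemma exists_prime_pow_of_fpf (hnt : ∃ y : F, s y ≠ y ^ 2) {k : ℕ} (hk : Nat.card F = 2 ^ k)
    {g : G s} (hg : IsFpf s g) :
    ∃ (p : ℕ) (x : G s), p.Prime ∧ p ≠ 2 ∧ p ∣ Nat.card F ^ 2 + 1 ∧ orderOf x = p ∧
      ∃ j : ℕ, x = g ^ j := by
  have hg1 : g ≠ 1 := by
    rintro rfl
    exact hg (oinf s) (one_smul _ _)
  have hn1 : orderOf g ≠ 1 := fun h => hg1 (orderOf_eq_one_iff.1 h)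
  obtain ⟨p, hp, hpg⟩ := Nat.exists_prime_and_dvd hn1
  have : Fact p.Prime := ⟨hp⟩
  obtain ⟨hp2, hdvd⟩ := prime_dvd_of_fpf s hs hnt hk hg hpg
  have hn0 : orderOf g ≠ 0 := (orderOf_pos g).ne'
  exact ⟨p, g ^ (orderOf g / p), hp, hp2, hdvd, orderOf_pow_orderOf_div hn0 hpg, _, rfl⟩

include hs in
/-- the centralizer of a fixed-point-free element is the centralizer of each of its nonidentity
elements, and these are all fixed-point-free. -/
theorem centralizer_eq_of_mem (hnt : ∃ y : F, s y ≠ y ^ 2) {k : ℕ} (hk : Nat.card F = 2 ^ k)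
    {g : G s} (hg : IsFpf s g) {u : G s} (hu : u ∈ Subgroup.centralizer ({g} : Set (G s)))
    (hu1 : u ≠ 1) :
    IsFpf s u ∧ Subgroup.centralizer ({u} : Set (G s)) = Subgroup.centralizer ({g} : Set (G s)) := by
  obtain ⟨p, x, hp, hp2, hdvd, hxo, j, hxj⟩ := exists_prime_pow_of_fpf s hs hnt hk hg
  have : Fact p.Prime := ⟨hp⟩
  have hxf := fpf_of_prime_order s hs hnt hp2 hdvd hxo
  have hxp : x ^ p = 1 := by rw [← hxo]; exact pow_orderOf_eq_one x
  have hx1 : x ≠ 1 := by
    intro h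
    rw [h, orderOf_one] at hxo
    exact hp.one_lt.ne hxo
  have hg1 : g ≠ 1 := by
    rintro rfl
    exact hg (oinf s) (one_smul _ _)
  -- centralizer of any nonidentity element commuting with `x` is `C(x)`
  have key : ∀ v : G s, v ≠ 1 → v * x = x * v →
      IsFpf s v ∧ ∀ h : G s, h * v = v * h ↔ h * x = x * h := by
    intro v hv1 hvx
    have hvf := fpf_of_commute_prime s hs hnt hp2 hxo hxf hv1 hvx
    refine ⟨hvf, fun h => ⟨fun hh => ?_, fun hh => ?_⟩⟩
    · exact comm_centralizer_of_fpf s hs hnt hk hv1 hvf hh hvx.symm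
    · exact commute_of_commute_prime s hp2 hdvd hxp hx1 hh hvx
  have hgx : g * x = x * g := by
    rw [hxj]; exact ((Commute.refl g).pow_right j).eq
  have hux : u * x = x * u := by
    rw [Subgroup.mem_centralizer_singleton_iff] at hu
    rw [hxj]; exact ((show Commute u g from hu).pow_right j).eq
  obtain ⟨-, kg⟩ := key g hg1 hgx
  obtain ⟨huf, ku⟩ := key u hu1 hux
  refine ⟨huf, ?_⟩
  ext h
  rw [Subgroup.mem_centralizer_singleton_iff, Subgroup.mem_centralizer_singleton_iff, ku, kg]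

include hs in
theorem isCyclic_centralizer_fpf (hnt : ∃ y : F, s y ≠ y ^ 2) {k : ℕ} (hk : Nat.card F = 2 ^ k)
    {g : G s} (hg : IsFpf s g) : IsCyclic (Subgroup.centralizer ({g} : Set (G s))) := by
  obtain ⟨p, x, hp, hp2, hdvd, hxo, j, hxj⟩ := exists_prime_pow_of_fpf s hs hnt hk hg
  have : Fact p.Prime := ⟨hp⟩
  have hxp : x ^ p = 1 := by rw [← hxo]; exact pow_orderOf_eq_one x
  have hx1 : x ≠ 1 := by
    intro h
    rw [h, orderOf_one] at hxo
    exact hp.one_lt.ne hxo
  apply isCyclic_of_centralizes s hp2 hdvd hxp hx1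
  intro h hh
  rw [Subgroup.mem_centralizer_singleton_iff] at hh
  rw [hxj]; exact ((show Commute h g from hh).pow_right j).eq

include hs in
theorem ti_centralizer_fpf (hnt : ∃ y : F, s y ≠ y ^ 2) {k : ℕ} (hk : Nat.card F = 2 ^ k)
    {g : G s} (hg : IsFpf s g) :
    Cfsg.IsTISubset ((Subgroup.centralizer ({g} : Set (G s)) : Subgroup (G s)) : Set (G s)) := by
  intro y hy u hu hyu
  by_contra hu1
  apply hy
  obtain ⟨-, h1⟩ := centralizer_eq_of_mem s hs hnt hk hg hu hu1
  have hyu1 : y * u * y⁻¹ ≠ 1 := by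
    intro h
    apply hu1
    have : u = y⁻¹ * (y * u * y⁻¹) * y := by group
    rw [this, h]; group
  obtain ⟨-, h2⟩ := centralizer_eq_of_mem s hs hnt hk hg hyu hyu1
  rw [Subgroup.mem_normalizer_iff]
  intro h
  constructor
  · intro hh
    rw [← h1, Subgroup.mem_centralizer_singleton_iff] at hh
    rw [← h2, Subgroup.mem_centralizer_singleton_iff]
    calc y * h * y⁻¹ * (y * u * y⁻¹) = y * (h * u) * y⁻¹ := by group
      _ = y * (u * h) * y⁻¹ := by rw [hh]
      _ = _ := by group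
  · intro hh
    rw [← h2, Subgroup.mem_centralizer_singleton_iff] at hh
    rw [← h1, Subgroup.mem_centralizer_singleton_iff]
    calc h * u = y⁻¹ * (y * h * y⁻¹ * (y * u * y⁻¹)) * y := by group
      _ = y⁻¹ * ((y * u * y⁻¹) * (y * h * y⁻¹)) * y := by rw [hh]
      _ = _ := by group

include hs in
theorem card_centralizer_fpf (hnt : ∃ y : F, s y ≠ y ^ 2) {k : ℕ} (hk : Nat.card F = 2 ^ k)
    {g : G s} (hg : IsFpf s g) :
    Nat.card (Subgroup.centralizer ({g} : Set (G s))) ∣ Nat.card F ^ 2 + 1 ∧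
      5 ≤ Nat.card (Subgroup.centralizer ({g} : Set (G s))) := by
  set U := Subgroup.centralizer ({g} : Set (G s)) with hU
  have hg1 : g ≠ 1 := by
    rintro rfl
    exact hg (oinf s) (one_smul _ _)
  have hcop : Nat.Coprime (Nat.card U) (Nat.card F ^ 2 * (Nat.card F - 1)) := by
    apply Nat.Coprime.symm
    apply Nat.coprime_of_dvd
    intro p hp hp1 hp2
    have : Fact p.Prime := ⟨hp⟩
    obtain ⟨⟨u, huU⟩, hu⟩ := exists_prime_orderOf_dvd_card' p hp2
    have huo : orderOf u = p := (Subgroup.orderOf_mk u huU).symm.trans hu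
    have hu1 : u ≠ 1 := by
      intro h
      rw [h, orderOf_one] at huo
      exact hp.one_lt.ne huo
    obtain ⟨huf, -⟩ := centralizer_eq_of_mem s hs hnt hk hg huU hu1
    obtain ⟨hp2', hdvd⟩ := prime_dvd_of_fpf s hs hnt hk huf (p := p) (by rw [huo])
    exact not_dvd_card_stab s hs hp2' hdvd hp1
  have hdvdG : Nat.card U ∣ (Nat.card F ^ 2 + 1) * (Nat.card F ^ 2 * (Nat.card F - 1)) := by
    rw [← card_G s hs hnt]; exact Subgroup.card_subgroup_dvd_card U
  have hdvd : Nat.card U ∣ Nat.card F ^ 2 + 1 := hcop.dvd_of_dvd_mul_right hdvdG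
  refine ⟨hdvd, ?_⟩
  have h1 : 1 < Nat.card U := by
    rw [Finite.one_lt_card_iff_nontrivial]
    exact ⟨⟨⟨g, Subgroup.mem_centralizer_singleton_iff.2 rfl⟩, 1, fun h => hg1 (congrArg Subtype.val h)⟩⟩
  -- `q² + 1` is odd and not divisible by `3`
  have hk0 : k ≠ 0 := by
    rintro rfl
    obtain ⟨y, hy⟩ := hnt
    have hc : Nat.card F = 1 := by rw [hk, pow_zero]
    have := (Nat.card_eq_one_iff_unique.1 hc).1
    exact hy (Subsingleton.elim _ _)
  have hodd : ¬ 2 ∣ Nat.card F ^ 2 + 1 := by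
    rw [hk, ← pow_mul]
    intro h
    have : 2 ∣ 2 ^ (k * 2) := dvd_pow_self 2 (by omega)
    omega
  have h3 : ¬ 3 ∣ Nat.card F ^ 2 + 1 := by
    intro h
    have hmod : (Nat.card F ^ 2 + 1) % 3 = 0 := Nat.mod_eq_zero_of_dvd h
    have : Nat.card F % 3 = 0 ∨ Nat.card F % 3 = 1 ∨ Nat.card F % 3 = 2 := by omega
    rcases this with h' | h' | h' <;> simp [Nat.add_mod, Nat.pow_mod, h'] at hmod
  have h2U : ¬ 2 ∣ Nat.card U := fun h => hodd (h.trans hdvd)
  have h3U : ¬ 3 ∣ Nat.card U := fun h => h3 (h.trans hdvd)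
  omega

end tori

end Cfsg.Agent.Lib.Helper6.Sz
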