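import Cfsg.Agent.Lib.Helper6.SzTori
import Cfsg.Agent.Lib.Helper6.SingerNorm
import Cfsg.Agent.Lib.Helper6.TI

set_option autoImplicit false

/-! # Suzuki groups: conjugacy classes of tori, Sylow subgroups inside tori -/

namespace Cfsg.Agent.Lib.Helper6.Sz

open scoped Pointwise
open Cfsg.Agent.Lib.Helper6.TI

section tori2
variable {F : Type*} [Field F] [CharP F 2] [Finite F] (s : F →+* F)
  (hs : ∀ x, s (s x) = x ^ 2)

lemma fpf_conj {g : G s} (hg : IsFpf s g) (a : G s) : IsFpf s (a * g * a⁻¹) := by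
  intro α hα
  apply hg (a⁻¹ • α)
  rw [mul_smul, mul_smul] at hα
  rw [eq_inv_smul_iff]
  exact hα

lemma fpf_ne_one {g : G s} (hg : IsFpf s g) : g ≠ 1 := by
  rintro rfl
  exact hg (oinf s) (one_smul _ _)

lemma mem_centralizer_self (g : G s) : g ∈ Subgroup.centralizer ({g} : Set (G s)) :=
  Subgroup.mem_centralizer_singleton_iff.2 rfl

lemma mem_conjSet_self {g : G s} (hg : IsFpf s g) :
    g ∈ conjSet (Subgroup.centralizer ({g} : Set (G s))) :=
  ⟨fpf_ne_one s hg, 1, by simpa using mem_centralizer_self s g⟩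

include hs in
lemma fpf_of_mem_conjSet (hnt : ∃ y : F, s y ≠ y ^ 2) {k : ℕ} (hk : Nat.card F = 2 ^ k)
    {g : G s} (hg : IsFpf s g) {z : G s}
    (hz : z ∈ conjSet (Subgroup.centralizer ({g} : Set (G s)))) : IsFpf s z := by
  obtain ⟨hz1, a, ha⟩ := hz
  have h1 : a * z * a⁻¹ ≠ 1 := by
    intro h
    apply hz1
    have : z = a⁻¹ * (a * z * a⁻¹) * a := by group
    rw [this, h]; group
  have h2 := (centralizer_eq_of_mem s hs hnt hk hg ha h1).1
  have := fpf_conj s h2 a⁻¹
  have e : a⁻¹ * (a * z * a⁻¹) * a⁻¹⁻¹ = z := by group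
  rwa [e] at this

include hs in
/-- two tori whose sets of conjugates meet are conjugate. -/
lemma mem_conjSet_of_inter (hnt : ∃ y : F, s y ≠ y ^ 2) {k : ℕ} (hk : Nat.card F = 2 ^ k)
    {g g' : G s} (hg : IsFpf s g) (hg' : IsFpf s g') {z : G s}
    (hz : z ∈ conjSet (Subgroup.centralizer ({g} : Set (G s))))
    (hz' : z ∈ conjSet (Subgroup.centralizer ({g'} : Set (G s)))) :
    g' ∈ conjSet (Subgroup.centralizer ({g} : Set (G s))) := by
  obtain ⟨hz1, a, ha⟩ := hz
  obtain ⟨-, b, hb⟩ := hz'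
  have hne : ∀ c : G s, c * z * c⁻¹ ≠ 1 := by
    intro c h
    apply hz1
    have : z = c⁻¹ * (c * z * c⁻¹) * c := by group
    rw [this, h]; group
  have h1 := (centralizer_eq_of_mem s hs hnt hk hg ha (hne a)).2
  have h2 := (centralizer_eq_of_mem s hs hnt hk hg' hb (hne b)).2
  refine ⟨fpf_ne_one s hg', a * b⁻¹, ?_⟩
  rw [← h1, Subgroup.mem_centralizer_singleton_iff]
  have h3 : g' * (b * z * b⁻¹) = (b * z * b⁻¹) * g' := by
    have := mem_centralizer_self s g'
    rw [← h2, Subgroup.mem_centralizer_singleton_iff] at this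
    exact this
  calc a * b⁻¹ * g' * (a * b⁻¹)⁻¹ * (a * z * a⁻¹)
      = a * b⁻¹ * (g' * (b * z * b⁻¹)) * b * a⁻¹ := by group
    _ = a * b⁻¹ * ((b * z * b⁻¹) * g') * b * a⁻¹ := by rw [h3]
    _ = _ := by group

include hs in
lemma conjSet_subset_of_mem (hnt : ∃ y : F, s y ≠ y ^ 2) {k : ℕ} (hk : Nat.card F = 2 ^ k)
    {g g' : G s} (hg : IsFpf s g) (hg' : IsFpf s g')
    (h : g' ∈ conjSet (Subgroup.centralizer ({g} : Set (G s)))) :
    Nat.card (Subgroup.centralizer ({g'} : Set (G s))) =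
      Nat.card (Subgroup.centralizer ({g} : Set (G s))) := by
  obtain ⟨h1, a, ha⟩ := h
  have hne : a * g' * a⁻¹ ≠ 1 := by
    intro h
    apply h1
    have : g' = a⁻¹ * (a * g' * a⁻¹) * a := by group
    rw [this, h]; group
  have h2 := (centralizer_eq_of_mem s hs hnt hk hg ha hne).2
  rw [← h2]
  apply Nat.card_congr
  refine Equiv.ofBijective (fun h : Subgroup.centralizer ({g'} : Set (G s)) =>
    (⟨a * h * a⁻¹, ?_⟩ : Subgroup.centralizer ({a * g' * a⁻¹} : Set (G s)))) ⟨?_, ?_⟩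
  · have := h.2
    rw [Subgroup.mem_centralizer_singleton_iff] at this ⊢
    calc a * h * a⁻¹ * (a * g' * a⁻¹) = a * (h * g') * a⁻¹ := by group
      _ = a * (g' * h) * a⁻¹ := by rw [this]
      _ = _ := by group
  · intro h h' hh
    have := congrArg Subtype.val hh
    exact Subtype.ext (mul_left_cancel (mul_right_cancel this))
  · rintro ⟨h, hh⟩
    refine ⟨⟨a⁻¹ * h * a, ?_⟩, Subtype.ext ?_⟩
    · rw [Subgroup.mem_centralizer_singleton_iff] at hh ⊢
      calc a⁻¹ * h * a * g' = a⁻¹ * (h * (a * g' * a⁻¹)) * a := by group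
        _ = a⁻¹ * ((a * g' * a⁻¹) * h) * a := by rw [hh]
        _ = _ := by group
    · show a * (a⁻¹ * h * a) * a⁻¹ = h
      group

include hs in
/-- a Sylow subgroup meeting a torus nontrivially lies in it. -/
lemma sylow_le_centralizer_fpf (hnt : ∃ y : F, s y ≠ y ^ 2) {k : ℕ} (hk : Nat.card F = 2 ^ k)
    {p : ℕ} [hp : Fact p.Prime] {g : G s} (hg : IsFpf s g) (S : Sylow p (G s)) {x : G s}
    (hxS : x ∈ (S : Subgroup (G s))) (hx1 : x ≠ 1)
    (hxg : x ∈ Subgroup.centralizer ({g} : Set (G s))) :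
    (S : Subgroup (G s)) ≤ Subgroup.centralizer ({g} : Set (G s)) := by
  have hPG : IsPGroup p S := S.isPGroup'
  have hnt' : Nontrivial S := ⟨⟨⟨x, hxS⟩, 1, fun h => hx1 (congrArg Subtype.val h)⟩⟩
  have hcn : Nontrivial (Subgroup.center S) := hPG.center_nontrivial
  obtain ⟨⟨z, hzc⟩, hz1⟩ := exists_ne (1 : Subgroup.center S)
  have hz1' : (z : G s) ≠ 1 := by
    intro h
    apply hz1
    apply Subtype.ext
    apply Subtype.ext
    exact h
  have hzx : (z : G s) * x = x * z := by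
    have := (Subgroup.mem_center_iff.1 hzc) ⟨x, hxS⟩
    exact (congrArg Subtype.val this).symm
  have h1 := (centralizer_eq_of_mem s hs hnt hk hg hxg hx1).2
  have hzg : (z : G s) ∈ Subgroup.centralizer ({g} : Set (G s)) := by
    rw [← h1, Subgroup.mem_centralizer_singleton_iff]; exact hzx
  have h2 := (centralizer_eq_of_mem s hs hnt hk hg hzg hz1').2
  intro h hh
  rw [← h2, Subgroup.mem_centralizer_singleton_iff]
  have := (Subgroup.mem_center_iff.1 hzc) ⟨h, hh⟩
  exact congrArg Subtype.val this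

include hs in
/-- tori whose orders have a common prime divisor are conjugate. -/
theorem mem_conjSet_of_common_prime (hnt : ∃ y : F, s y ≠ y ^ 2) {k : ℕ}
    (hk : Nat.card F = 2 ^ k) {g g' : G s} (hg : IsFpf s g) (hg' : IsFpf s g') {p : ℕ}
    (hp : p.Prime) (h1 : p ∣ Nat.card (Subgroup.centralizer ({g} : Set (G s))))
    (h2 : p ∣ Nat.card (Subgroup.centralizer ({g'} : Set (G s)))) :
    g' ∈ conjSet (Subgroup.centralizer ({g} : Set (G s))) := by
  have : Fact p.Prime := ⟨hp⟩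
  obtain ⟨⟨x, hxU⟩, hx⟩ := exists_prime_orderOf_dvd_card' p h1
  obtain ⟨⟨x', hxU'⟩, hx'⟩ := exists_prime_orderOf_dvd_card' p h2
  have hxo : orderOf x = p := (Subgroup.orderOf_mk x hxU).symm.trans hx
  have hxo' : orderOf x' = p := (Subgroup.orderOf_mk x' hxU').symm.trans hx'
  have hx1 : x ≠ 1 := by
    intro h
    rw [h, orderOf_one] at hxo
    exact hp.one_lt.ne hxo
  have hx1' : x' ≠ 1 := by
    intro h
    rw [h, orderOf_one] at hxo'
    exact hp.one_lt.ne hxo'
  have hpx : IsPGroup p (Subgroup.zpowers x) :=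
    IsPGroup.of_card (n := 1) (by rw [Nat.card_zpowers, hxo, pow_one])
  have hpx' : IsPGroup p (Subgroup.zpowers x') :=
    IsPGroup.of_card (n := 1) (by rw [Nat.card_zpowers, hxo', pow_one])
  obtain ⟨S, hS⟩ := hpx.exists_le_sylow
  obtain ⟨S', hS'⟩ := hpx'.exists_le_sylow
  obtain ⟨y, hy⟩ := MulAction.exists_smul_eq (G s) S S'
  have hxS : x ∈ (S : Subgroup (G s)) := hS (Subgroup.mem_zpowers x)
  have hxS' : x' ∈ (S' : Subgroup (G s)) := hS' (Subgroup.mem_zpowers x')
  have hle := sylow_le_centralizer_fpf s hs hnt hk hg S hxS hx1 hxU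
  have hle' := sylow_le_centralizer_fpf s hs hnt hk hg' S' hxS' hx1' hxU'
  have hS'eq : (S' : Subgroup (G s)) = (S : Subgroup (G s)).map (MulAut.conj y).toMonoidHom := by
    rw [← hy]; rfl
  have hyx : y * x * y⁻¹ ∈ (S' : Subgroup (G s)) := by
    rw [hS'eq]; exact ⟨x, hxS, rfl⟩
  apply mem_conjSet_of_inter s hs hnt hk hg hg' (z := x)
  · exact ⟨hx1, 1, by simpa using hxU⟩
  · exact ⟨hx1, y, hle' hyx⟩

include hs in
/-- every prime power dividing `q² + 1` exactly divides the order of some torus. -/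
theorem exists_fpf_sylow (hnt : ∃ y : F, s y ≠ y ^ 2) {k : ℕ} (hk : Nat.card F = 2 ^ k)
    {p : ℕ} (hp : p.Prime) (hdvd : p ∣ Nat.card F ^ 2 + 1) :
    ∃ x : G s, IsFpf s x ∧
      p ^ (Nat.card F ^ 2 + 1).factorization p ∣
        Nat.card (Subgroup.centralizer ({x} : Set (G s))) := by
  have : Fact p.Prime := ⟨hp⟩
  have hk0 : k ≠ 0 := by
    rintro rfl
    obtain ⟨y, hy⟩ := hnt
    have hc : Nat.card F = 1 := by rw [hk, pow_zero]
    have := (Nat.card_eq_one_iff_unique.1 hc).1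
    exact hy (Subsingleton.elim _ _)
  have hp2 : p ≠ 2 := by
    rintro rfl
    rw [hk, ← pow_mul] at hdvd
    have : 2 ∣ 2 ^ (k * 2) := dvd_pow_self 2 (by omega)
    omega
  have hndvd := not_dvd_card_stab s hs hp2 hdvd
  have S : Sylow p (G s) := default
  have hcard : Nat.card S = p ^ (Nat.card F ^ 2 + 1).factorization p := by
    rw [S.card_eq_multiplicity, card_G s hs hnt, Nat.factorization_mul (by positivity),
      Finsupp.add_apply, Nat.factorization_eq_zero_of_not_dvd hndvd, add_zero]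
    intro h
    rw [h] at hndvd
    exact hndvd (dvd_zero p)
  have hpos : 0 < (Nat.card F ^ 2 + 1).factorization p :=
    hp.factorization_pos_of_dvd (by positivity) hdvd
  have hpS : p ∣ Nat.card S := by
    rw [hcard]; exact dvd_pow_self p hpos.ne'
  obtain ⟨⟨x, hxS⟩, hx⟩ := exists_prime_orderOf_dvd_card' p hpS
  have hxo : orderOf x = p := (Subgroup.orderOf_mk x hxS).symm.trans hx
  have hx1 : x ≠ 1 := by
    intro h
    rw [h, orderOf_one] at hxo
    exact hp.one_lt.ne hxo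
  have hxf := fpf_of_prime_order s hs hnt hp2 hdvd hxo
  refine ⟨x, hxf, ?_⟩
  rw [← hcard]
  exact Subgroup.card_dvd_of_le
    (sylow_le_centralizer_fpf s hs hnt hk hxf S hxS hx1 (mem_centralizer_self s x))

include hs in
/-- the normalizer of a torus has index `1`, `2` or `4` over it. -/
theorem card_normalizer_fpf (hnt : ∃ y : F, s y ≠ y ^ 2) {k : ℕ} (hk : Nat.card F = 2 ^ k)
    (hko : Odd k) {g : G s} (hg : IsFpf s g) :
    ∃ n : ℕ, (n = 1 ∨ n = 2 ∨ n = 4) ∧
      Nat.card (Subgroup.normalizer ((Subgroup.centralizer ({g} : Set (G s)) : Subgroup (G s)) :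
        Set (G s))) = n * Nat.card (Subgroup.centralizer ({g} : Set (G s))) := by
  obtain ⟨p, x, hp, hp2, hdvd, hxo, j, hxj⟩ := exists_prime_pow_of_fpf s hs hnt hk hg
  have : Fact p.Prime := ⟨hp⟩
  have hxp : x ^ p = 1 := by rw [← hxo]; exact pow_orderOf_eq_one x
  have hx1 : x ≠ 1 := by
    intro h
    rw [h, orderOf_one] at hxo
    exact hp.one_lt.ne hxo
  have hxg : x ∈ Subgroup.centralizer ({g} : Set (G s)) := by
    rw [Subgroup.mem_centralizer_singleton_iff, hxj]
    exact ((Commute.refl g).pow_left j).eq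
  have hC := (centralizer_eq_of_mem s hs hnt hk hg hxg hx1).2
  obtain ⟨hq, hord⟩ := ord_four hp2 hdvd
  have hbound := Singer.card_normalizer_le p (linHom s x) (by rw [← map_pow, hxp, map_one]) hq
    (by rw [Module.finrank_fin_fun]; exact hord)
    (fun h1 => hx1 (linHom_injective s (by rw [h1, map_one])))
    (linHom s) (linHom_injective s) x rfl
  rw [hC, Module.finrank_fin_fun] at hbound
  set U := Subgroup.centralizer ({g} : Set (G s)) with hU
  have hle : U ≤ Subgroup.normalizer (U : Set (G s)) := Subgroup.le_normalizer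
  obtain ⟨n, hn⟩ := Subgroup.card_dvd_of_le hle
  have hUpos : 0 < Nat.card U := Nat.card_pos
  have hNpos : 0 < Nat.card (Subgroup.normalizer (U : Set (G s))) := Nat.card_pos
  rw [mul_comm] at hn
  have hn4 : n ≤ 4 := by
    rw [hn] at hbound
    exact Nat.le_of_mul_le_mul_right hbound hUpos
  have hn0 : n ≠ 0 := by
    rintro rfl
    rw [zero_mul] at hn
    omega
  have hn3 : n ≠ 3 := by
    rintro rfl
    have h3 : 3 ∣ Nat.card (G s) :=
      (Dvd.intro _ hn.symm).trans (Subgroup.card_subgroup_dvd_card _)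
    rw [card_G s hs hnt, hk] at h3
    obtain ⟨m, rfl⟩ := hko
    have hmod : (2 ^ (2 * m + 1)) % 3 = 2 := by
      rw [pow_succ, pow_mul, Nat.mul_mod, Nat.pow_mod]
      norm_num
    have hpos : 1 ≤ 2 ^ (2 * m + 1) := Nat.one_le_two_pow
    generalize 2 ^ (2 * m + 1) = Q at h3 hmod hpos
    have h1 : (Q ^ 2 + 1) % 3 = 2 := by
      rw [Nat.add_mod, Nat.pow_mod, hmod]
    have h2 : (Q ^ 2) % 3 = 1 := by
      rw [Nat.pow_mod, hmod]
    have h4 : (Q - 1) % 3 = 1 := by omega
    have := Nat.mod_eq_zero_of_dvd h3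
    rw [Nat.mul_mod, Nat.mul_mod (Q ^ 2), h1, h2, h4] at this
    norm_num at this
  refine ⟨n, ?_, hn⟩
  omega

end tori2

end Cfsg.Agent.Lib.Helper6.Sz
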