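import Cfsg.Agent.Lib.Helper6.SzTori2
import Cfsg.Agent.Lib.Helper6.SzArith

set_option autoImplicit false

/-! # Suzuki groups: the two classes of non-split tori -/

namespace Cfsg.Agent.Lib.Helper6.Sz

open scoped Pointwise
open Cfsg.Agent.Lib.Helper6.TI Cfsg.Agent.Lib.Helper6.SzArith

section classes
variable {F : Type*} [Field F] [CharP F 2] [Finite F] (s : F →+* F)
  (hs : ∀ x, s (s x) = x ^ 2)

include hs in
/-- numerical data of a torus. -/
theorem torus_data (hnt : ∃ y : F, s y ≠ y ^ 2) {m : ℕ} (hk : Nat.card F = 2 ^ (2 * m + 1))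
    {g : G s} (hg : IsFpf s g) :
    ∃ n idx : ℕ, (n = 1 ∨ n = 2 ∨ n = 4) ∧ 0 < idx ∧
      Nat.card (Subgroup.normalizer ((Subgroup.centralizer ({g} : Set (G s)) : Subgroup (G s)) :
        Set (G s))) = n * Nat.card (Subgroup.centralizer ({g} : Set (G s))) ∧
      idx * (n * Nat.card (Subgroup.centralizer ({g} : Set (G s)))) =
        ((2 ^ (2 * m + 1)) ^ 2 + 1) * ((2 ^ (2 * m + 1)) ^ 2 * (2 ^ (2 * m + 1) - 1)) ∧
      (conjSet (Subgroup.centralizer ({g} : Set (G s)))).ncard =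
        idx * (Nat.card (Subgroup.centralizer ({g} : Set (G s))) - 1) := by
  obtain ⟨n, hn, hcard⟩ := card_normalizer_fpf s hs hnt hk ⟨m, rfl⟩ hg
  refine ⟨n, (Subgroup.normalizer ((Subgroup.centralizer ({g} : Set (G s)) : Subgroup (G s)) :
        Set (G s))).index, hn, ?_, hcard, ?_, ?_⟩
  · exact Nat.pos_of_ne_zero (Subgroup.index_ne_zero_of_finite)
  · rw [← hcard, Subgroup.index_mul_card, card_G s hs hnt, hk]
  · rw [← Nat.card_coe_set_eq]
    exact card_conjSet _ (ti_centralizer_fpf s hs hnt hk hg)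

include hs in
theorem tori_classification (hnt : ∃ y : F, s y ≠ y ^ 2) {m : ℕ} (hm : 1 ≤ m)
    (hk : Nat.card F = 2 ^ (2 * m + 1)) :
    ∃ g₁ g₂ : G s, IsFpf s g₁ ∧ IsFpf s g₂ ∧
      Nat.card (Subgroup.centralizer ({g₁} : Set (G s))) = 2 ^ (2 * m + 1) + 2 ^ (m + 1) + 1 ∧
      Nat.card (Subgroup.centralizer ({g₂} : Set (G s))) + 2 ^ (m + 1) = 2 ^ (2 * m + 1) + 1 ∧
      Nat.card (Subgroup.normalizer ((Subgroup.centralizer ({g₁} : Set (G s)) : Subgroup (G s)) :
        Set (G s))) = 4 * Nat.card (Subgroup.centralizer ({g₁} : Set (G s))) ∧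
      Nat.card (Subgroup.normalizer ((Subgroup.centralizer ({g₂} : Set (G s)) : Subgroup (G s)) :
        Set (G s))) = 4 * Nat.card (Subgroup.centralizer ({g₂} : Set (G s))) ∧
      ∀ g : G s, IsFpf s g → g ∈ conjSet (Subgroup.centralizer ({g₁} : Set (G s))) ∨
        g ∈ conjSet (Subgroup.centralizer ({g₂} : Set (G s))) := by
  have hr : 2 ^ (2 * m + 1) = 2 * (2 ^ m) ^ 2 := by
    rw [pow_succ, pow_mul, mul_comm]
    congr 1
    rw [← pow_mul, ← pow_mul, mul_comm]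
  have h2r : 2 ^ (m + 1) = 2 * 2 ^ m := by rw [pow_succ, mul_comm]
  have hq3 : 3 ≤ 2 ^ (2 * m + 1) := by
    calc 3 ≤ 2 ^ 3 := by norm_num
      _ ≤ 2 ^ (2 * m + 1) := Nat.pow_le_pow_right (by norm_num) (by omega)
  set q := 2 ^ (2 * m + 1) with hq
  have hcardF : Nat.card F = q := hk
  let FP : Set (G s) := {g | IsFpf s g}
  have hFPcard : 2 * FP.ncard = q ^ 3 * (q - 1) ^ 2 := by
    have := card_fpf s hs hnt
    rw [hcardF] at this
    rw [← this, ← Nat.card_coe_set_eq]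
    rfl
  have hFPne : FP.Nonempty := by
    by_contra h
    rw [Set.not_nonempty_iff_eq_empty] at h
    rw [h, Set.ncard_empty, mul_zero] at hFPcard
    have : 0 < q ^ 3 * (q - 1) ^ 2 := by
      apply Nat.mul_pos (by positivity)
      apply Nat.pow_pos
      omega
    omega
  have hsub : ∀ g : G s, IsFpf s g →
      conjSet (Subgroup.centralizer ({g} : Set (G s))) ⊆ FP :=
    fun g hg z hz => fpf_of_mem_conjSet s hs hnt hk hg hz
  have hdisj : ∀ g g' : G s, IsFpf s g → IsFpf s g' →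
      g' ∉ conjSet (Subgroup.centralizer ({g} : Set (G s))) →
      Disjoint (conjSet (Subgroup.centralizer ({g} : Set (G s))))
        (conjSet (Subgroup.centralizer ({g'} : Set (G s)))) := by
    intro g g' hg hg' hnot
    rw [Set.disjoint_left]
    intro z hz hz'
    exact hnot (mem_conjSet_of_inter s hs hnt hk hg hg' hz hz')
  obtain ⟨g₁, hg₁⟩ := hFPne
  have hg₁' : IsFpf s g₁ := hg₁
  obtain ⟨n₁, idx₁, hn₁, hidx₁, hN₁, hG₁, hc₁⟩ := torus_data s hs hnt hk hg₁'
  obtain ⟨hd₁, hu₁⟩ := card_centralizer_fpf s hs hnt hk hg₁'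
  rw [hcardF] at hd₁
  by_cases h1 : FP ⊆ conjSet (Subgroup.centralizer ({g₁} : Set (G s)))
  · exfalso
    have heq : FP = conjSet (Subgroup.centralizer ({g₁} : Set (G s))) :=
      Set.Subset.antisymm h1 (hsub g₁ hg₁')
    rw [heq, hc₁] at hFPcard
    exact single_class_absurd hq3 hu₁ hn₁ hidx₁ hFPcard hG₁
  obtain ⟨g₂, hg₂, hg₂A⟩ := Set.not_subset.1 h1
  have hg₂' : IsFpf s g₂ := hg₂
  obtain ⟨n₂, idx₂, hn₂, hidx₂, hN₂, hG₂, hc₂⟩ := torus_data s hs hnt hk hg₂'
  obtain ⟨hd₂, hu₂⟩ := card_centralizer_fpf s hs hnt hk hg₂'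
  rw [hcardF] at hd₂
  have hdisj12 := hdisj g₁ g₂ hg₁' hg₂' hg₂A
  by_cases h2 : FP ⊆ conjSet (Subgroup.centralizer ({g₁} : Set (G s))) ∪
      conjSet (Subgroup.centralizer ({g₂} : Set (G s)))
  · -- exactly two classes
    have heq : FP = conjSet (Subgroup.centralizer ({g₁} : Set (G s))) ∪
        conjSet (Subgroup.centralizer ({g₂} : Set (G s))) :=
      Set.Subset.antisymm h2 (Set.union_subset (hsub g₁ hg₁') (hsub g₂ hg₂'))
    rw [heq, Set.ncard_union_eq hdisj12, hc₁, hc₂] at hFPcard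
    -- coprimality
    have hcop : Nat.Coprime (Nat.card (Subgroup.centralizer ({g₁} : Set (G s))))
        (Nat.card (Subgroup.centralizer ({g₂} : Set (G s)))) := by
      apply Nat.coprime_of_dvd
      intro p hp hp1 hp2
      exact hg₂A (mem_conjSet_of_common_prime s hs hnt hk hg₁' hg₂' hp hp1 hp2)
    -- Hall property
    have hhall : ∀ p, p.Prime → p ∣ q ^ 2 + 1 →
        p ^ (q ^ 2 + 1).factorization p ∣ Nat.card (Subgroup.centralizer ({g₁} : Set (G s))) ∨
        p ^ (q ^ 2 + 1).factorization p ∣ Nat.card (Subgroup.centralizer ({g₂} : Set (G s))) := by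
      intro p hp hpd
      rw [← hcardF] at hpd
      obtain ⟨x, hxf, hxd⟩ := exists_fpf_sylow s hs hnt hk hp hpd
      rw [hcardF] at hxd
      rcases h2 hxf with hx | hx
      · left
        rw [← conjSet_subset_of_mem s hs hnt hk hg₁' hxf hx]; exact hxd
      · right
        rw [← conjSet_subset_of_mem s hs hnt hk hg₂' hxf hx]; exact hxd
    have hprod := mul_eq_of_hall (by positivity) hd₁ hd₂ hcop hhall
    obtain ⟨e1, e2, hcases⟩ := two_class hq3 hr hu₁ hu₂ hn₁ hn₂ hFPcard hG₁ hG₂ hprod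
    subst e1 e2
    rcases hcases with ⟨k1, k2⟩ | ⟨k1, k2⟩
    · refine ⟨g₁, g₂, hg₁', hg₂', ?_, ?_, hN₁, hN₂, fun g hg => h2 hg⟩
      · rw [k1, h2r]
      · rw [h2r]; exact k2
    · refine ⟨g₂, g₁, hg₂', hg₁', ?_, ?_, hN₂, hN₁, fun g hg => (h2 hg).symm⟩
      · rw [k1, h2r]
      · rw [h2r]; exact k2
  · exfalso
    obtain ⟨g₃, hg₃, hg₃A⟩ := Set.not_subset.1 h2
    have hg₃' : IsFpf s g₃ := hg₃
    obtain ⟨n₃, idx₃, hn₃, hidx₃, hN₃, hG₃, hc₃⟩ := torus_data s hs hnt hk hg₃'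
    obtain ⟨hd₃, hu₃⟩ := card_centralizer_fpf s hs hnt hk hg₃'
    have hg₃A1 : g₃ ∉ conjSet (Subgroup.centralizer ({g₁} : Set (G s))) :=
      fun h => hg₃A (Or.inl h)
    have hg₃A2 : g₃ ∉ conjSet (Subgroup.centralizer ({g₂} : Set (G s))) :=
      fun h => hg₃A (Or.inr h)
    have hdisj13 := hdisj g₁ g₃ hg₁' hg₃' hg₃A1
    have hdisj23 := hdisj g₂ g₃ hg₂' hg₃' hg₃A2
    have hunion : (conjSet (Subgroup.centralizer ({g₁} : Set (G s))) ∪
        conjSet (Subgroup.centralizer ({g₂} : Set (G s))) ∪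
        conjSet (Subgroup.centralizer ({g₃} : Set (G s)))).ncard =
        idx₁ * (Nat.card (Subgroup.centralizer ({g₁} : Set (G s))) - 1) +
        idx₂ * (Nat.card (Subgroup.centralizer ({g₂} : Set (G s))) - 1) +
        idx₃ * (Nat.card (Subgroup.centralizer ({g₃} : Set (G s))) - 1) := by
      rw [Set.ncard_union_eq (Set.disjoint_union_left.2 ⟨hdisj13, hdisj23⟩),
        Set.ncard_union_eq hdisj12, hc₁, hc₂, hc₃]
    have hle : (conjSet (Subgroup.centralizer ({g₁} : Set (G s))) ∪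
        conjSet (Subgroup.centralizer ({g₂} : Set (G s))) ∪
        conjSet (Subgroup.centralizer ({g₃} : Set (G s)))).ncard ≤ FP.ncard :=
      Set.ncard_le_ncard (Set.union_subset (Set.union_subset (hsub g₁ hg₁') (hsub g₂ hg₂'))
        (hsub g₃ hg₃'))
    rw [hunion] at hle
    exact three_class_absurd (by omega)
      (class_large hu₁ hn₁ rfl hG₁) (class_large hu₂ hn₂ rfl hG₂) (class_large hu₃ hn₃ rfl hG₃)
      hle hFPcard (by omega)

end classes

end Cfsg.Agent.Lib.Helper6.Sz
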