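import Cfsg.Agent.Lib.Helper6.SzForm
import Cfsg.Prelude.Def_LieExceptional

set_option autoImplicit false

/-! # The action of the Suzuki group on the ovoid: Zassenhaus properties -/

namespace Cfsg.Agent.Lib.Helper6.Sz

open Matrix
open scoped Pointwise

section general
variable {G Ω : Type*} [Group G] [MulAction G Ω]

lemma eq_one_of_comm_of_regular (N : Subgroup G)
    (hreg : ∀ a : Ω, MulAction.stabilizer N a = ⊥) {ω : Ω} {z : G}
    (hz : ∀ p : Ω, z • p = p → p = ω) (hzω : z • ω = ω) {n : G} (hn : n ∈ N)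
    (hcomm : z * n = n * z) : n = 1 := by
  have h1 : z • (n • ω) = n • ω := by rw [← mul_smul, hcomm, mul_smul, hzω]
  have h2 : n • ω = ω := hz _ h1
  have h3 : (⟨n, hn⟩ : N) ∈ MulAction.stabilizer N ω := by
    rw [MulAction.mem_stabilizer_iff]; exact h2
  rw [hreg ω, Subgroup.mem_bot] at h3
  exact congrArg Subtype.val h3

lemma inverts_of_regular [Finite G] (N : Subgroup G) [hN : N.Normal]
    (hreg : ∀ a : Ω, MulAction.stabilizer N a = ⊥) {ω : Ω} {z : G}
    (hz : ∀ p : Ω, z • p = p → p = ω) (hzω : z • ω = ω) (hzz : z * z = 1) {n : G}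
    (hn : n ∈ N) : z * n * z⁻¹ = n⁻¹ := by
  let ψ : N → N := fun m => ⟨m.1⁻¹ * (z * m.1 * z⁻¹),
    N.mul_mem (N.inv_mem m.2) (hN.conj_mem m.1 m.2 z)⟩
  have hinj : Function.Injective ψ := by
    intro m m' h
    have h' : m.1⁻¹ * (z * m.1 * z⁻¹) = m'.1⁻¹ * (z * m'.1 * z⁻¹) := congrArg Subtype.val h
    have hconj : m'.1 * m.1⁻¹ = z * (m'.1 * m.1⁻¹) * z⁻¹ := by
      have e : z * (m'.1 * m.1⁻¹) * z⁻¹ = (z * m'.1 * z⁻¹) * (z * m.1 * z⁻¹)⁻¹ := by group
      have e2 : z * m'.1 * z⁻¹ = m'.1 * (m.1⁻¹ * (z * m.1 * z⁻¹)) := by rw [h']; group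
      rw [e, e2]; group
    have hc : z * (m'.1 * m.1⁻¹) = (m'.1 * m.1⁻¹) * z := by
      calc z * (m'.1 * m.1⁻¹) = (z * (m'.1 * m.1⁻¹) * z⁻¹) * z := by group
        _ = (m'.1 * m.1⁻¹) * z := by rw [← hconj]
    have h1 := eq_one_of_comm_of_regular N hreg hz hzω (N.mul_mem m'.2 (N.inv_mem m.2)) hc
    exact Subtype.ext (mul_inv_eq_one.1 h1).symm
  have hsurj : Function.Surjective ψ := Finite.injective_iff_surjective.1 hinj
  obtain ⟨m, hm⟩ := hsurj ⟨n, hn⟩
  have hm' : m.1⁻¹ * (z * m.1 * z⁻¹) = n := congrArg Subtype.val hm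
  have hφφ : ∀ x, z * (z * x * z⁻¹) * z⁻¹ = x := by
    intro x
    calc z * (z * x * z⁻¹) * z⁻¹ = (z * z) * x * (z * z)⁻¹ := by group
      _ = x := by rw [hzz]; group
  rw [← hm']
  calc z * (m.1⁻¹ * (z * m.1 * z⁻¹)) * z⁻¹
      = (z * m.1 * z⁻¹)⁻¹ * (z * (z * m.1 * z⁻¹) * z⁻¹) := by group
    _ = (z * m.1 * z⁻¹)⁻¹ * m.1 := by rw [hφφ]
    _ = (m.1⁻¹ * (z * m.1 * z⁻¹))⁻¹ := by group

theorem eq_bot_of_regular_of_involutions [Finite G] (N : Subgroup G) [N.Normal]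
    (hreg : ∀ a : Ω, MulAction.stabilizer N a = ⊥) {ω : Ω} {z1 z2 : G}
    (h1 : ∀ p : Ω, z1 • p = p → p = ω) (h1ω : z1 • ω = ω) (h1z : z1 * z1 = 1)
    (h2 : ∀ p : Ω, z2 • p = p → p = ω) (h2ω : z2 • ω = ω) (h2z : z2 * z2 = 1)
    (h3 : ∀ p : Ω, (z1 * z2) • p = p → p = ω) (h3z : (z1 * z2) * (z1 * z2) = 1) : N = ⊥ := by
  rw [Subgroup.eq_bot_iff_forall]
  intro n hn
  have h3ω : (z1 * z2) • ω = ω := by rw [mul_smul, h2ω, h1ω]
  have e1 := inverts_of_regular N hreg h1 h1ω h1z hn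
  have e2 := inverts_of_regular N hreg h2 h2ω h2z hn
  have e4 : (z1 * z2) * n * (z1 * z2)⁻¹ = n := by
    calc (z1 * z2) * n * (z1 * z2)⁻¹ = z1 * (z2 * n * z2⁻¹) * z1⁻¹ := by group
      _ = z1 * n⁻¹ * z1⁻¹ := by rw [e2]
      _ = (z1 * n * z1⁻¹)⁻¹ := by group
      _ = n := by rw [e1, inv_inv]
  have hc : (z1 * z2) * n = n * (z1 * z2) := by
    calc (z1 * z2) * n = ((z1 * z2) * n * (z1 * z2)⁻¹) * (z1 * z2) := by group
      _ = n * (z1 * z2) := by rw [e4]
  exact eq_one_of_comm_of_regular N hreg h3 h3ω hn hc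

end general

section act
variable {F : Type*} [Field F] [CharP F 2] [Finite F] (s : F →+* F)
  (hs : ∀ x, s (s x) = x ^ 2)

/-- translations as elements of the group of the ovoid -/
def Tg (a b : F) : G s := ⟨T s a b, T_mem s hs a b⟩

/-- the torus elements of the group of the ovoid -/
def Dg (t : Fˣ) : G s := ⟨D s t, D_mem s hs t⟩

/-- the inversion as an element of the group of the ovoid -/
def Wg : G s := ⟨W, W_mem s hs⟩

/-- the point at infinity of the ovoid -/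
def oinf : Ov s := ⟨pinf, pinf_mem s⟩

/-- the affine points of the ovoid -/
def opt (x y : F) : Ov s := ⟨pt s x y, pt_mem s x y⟩

lemma Tg_smul_oinf (a b : F) : Tg s hs a b • oinf s = oinf s :=
  Subtype.ext (T_smul_pinf s a b)

lemma Tg_smul_opt (a b x y : F) :
    Tg s hs a b • opt s x y = opt s (x + a) (y + b + s a * x) :=
  Subtype.ext (T_smul_pt s hs a b x y)

lemma Tg_smul_opt00 (a b : F) : Tg s hs a b • opt s 0 0 = opt s a b :=
  Subtype.ext (T_smul_pt00 s hs a b)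

lemma Dg_smul_oinf (t : Fˣ) : Dg s hs t • oinf s = oinf s :=
  Subtype.ext (D_smul_pinf s t)

lemma Dg_smul_opt (t : Fˣ) (x y : F) :
    Dg s hs t • opt s x y = opt s (s t * x) ((t : F) ^ 2 * s t * y) :=
  Subtype.ext (D_smul_pt s hs t x y)

lemma Dg_smul_opt00 (t : Fˣ) : Dg s hs t • opt s 0 0 = opt s 0 0 :=
  Subtype.ext (D_smul_pt00 s hs t)

lemma Wg_smul_oinf : Wg s hs • oinf s = opt s 0 0 := Subtype.ext (W_smul_pinf s)

lemma Wg_smul_opt00 : Wg s hs • opt s 0 0 = oinf s := Subtype.ext (W_smul_pt00 s)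

omit [CharP F 2] [Finite F] in
lemma opt_ne_oinf (x y : F) : opt s x y ≠ oinf s := fun h =>
  pt_ne_pinf s x y (congrArg Subtype.val h)

omit [CharP F 2] [Finite F] in
lemma opt_inj {x y x' y' : F} (h : opt s x y = opt s x' y') : x = x' ∧ y = y' :=
  pt_inj s (congrArg Subtype.val h)

omit [CharP F 2] [Finite F] in
lemma Ov_cases (p : Ov s) : p = oinf s ∨ ∃ x y, p = opt s x y := by
  rcases mem_Ov_cases p.2 with h | ⟨x, y, h⟩
  · exact Or.inl (Subtype.ext h)
  · exact Or.inr ⟨x, y, Subtype.ext h⟩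

lemma Tg_mul (a b a' b' : F) :
    Tg s hs a b * Tg s hs a' b' = Tg s hs (a + a') (b + b' + s a * a') := by
  apply Subtype.ext; apply Subtype.ext
  exact Tm_mul s hs a b a' b'

lemma Tg_zero : Tg s hs 0 0 = 1 := by
  apply Subtype.ext; apply Subtype.ext
  exact Tm_zero s

lemma Dg_one : Dg s hs 1 = 1 := by
  apply Subtype.ext
  exact D_one s

lemma Dg_mul (t t' : Fˣ) : Dg s hs (t * t') = Dg s hs t * Dg s hs t' := by
  apply Subtype.ext
  exact D_mul s t t'

lemma Dg_injective : Function.Injective (Dg s hs) := fun _ _ h =>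
  D_injective s (congrArg Subtype.val h)

include hs in
lemma exists_smul_pair {p p' : Ov s} (h : p ≠ p') :
    ∃ g : G s, g • oinf s = p ∧ g • opt s 0 0 = p' := by
  obtain ⟨g1, hg1⟩ : ∃ g1 : G s, g1 • oinf s = p := by
    rcases Ov_cases s p with h | ⟨a, b, h⟩
    · exact ⟨1, by rw [one_smul, h]⟩
    · exact ⟨Tg s hs a b * Wg s hs, by rw [mul_smul, Wg_smul_oinf, Tg_smul_opt00, h]⟩
  have h2 : g1⁻¹ • p' ≠ oinf s := by
    intro h'
    apply h
    rw [← hg1, ← h', smul_inv_smul]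
  rcases Ov_cases s (g1⁻¹ • p') with h' | ⟨a, b, h'⟩
  · exact absurd h' h2
  · refine ⟨g1 * Tg s hs a b, ?_, ?_⟩
    · rw [mul_smul, Tg_smul_oinf, hg1]
    · rw [mul_smul, Tg_smul_opt00, ← h', smul_inv_smul]

include hs in
theorem is_two_trans : MulAction.IsMultiplyPretransitive (G s) (Ov s) 2 := by
  rw [MulAction.is_two_pretransitive_iff]
  intro a b c d hab hcd
  obtain ⟨g1, h1, h1'⟩ := exists_smul_pair s hs hab
  obtain ⟨g2, h2, h2'⟩ := exists_smul_pair s hs hcd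
  exact ⟨g2 * g1⁻¹, by rw [mul_smul, ← h1, inv_smul_smul, h2],
    by rw [mul_smul, ← h1', inv_smul_smul, h2']⟩

lemma eq_Dg_of_fix (hnt : ∃ y : F, s y ≠ y ^ 2) {g : G s} (h1 : g • oinf s = oinf s)
    (h2 : g • opt s 0 0 = opt s 0 0) : ∃ t, g = Dg s hs t := by
  have h1' : (g : Matrix.SpecialLinearGroup (Fin 4) F) •
      (pinf : Projectivization F (Fin 4 → F)) = pinf := congrArg Subtype.val h1
  have h2' : (g : Matrix.SpecialLinearGroup (Fin 4) F) • pt s 0 0 = pt s 0 0 :=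
    congrArg Subtype.val h2
  obtain ⟨α, hα⟩ := (smul_mk_eq_iff _ _ _).1 h1'
  obtain ⟨δ, hδ⟩ := (smul_mk_eq_iff _ _ _).1 h2'
  obtain ⟨t, ht⟩ := two_point_stab s hs hnt g.2 hα hδ
  exact ⟨t, Subtype.ext ht⟩

omit [Finite F] in
lemma sq_eq_one_char_two {x : F} (h : x ^ 2 = 1) : x = 1 := by
  have h2 : (2 : F) = 0 := CharTwo.two_eq_zero
  have : (x - 1) ^ 2 = 0 := by linear_combination h + (1 - x) * h2
  exact sub_eq_zero.1 (pow_eq_zero_iff (two_ne_zero) |>.1 this)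

lemma Dg_fix_third {t : Fˣ} {x y : F} (hxy : ¬(x = 0 ∧ y = 0))
    (h : Dg s hs t • opt s x y = opt s x y) : t = 1 := by
  rw [Dg_smul_opt] at h
  obtain ⟨h1, h2⟩ := opt_inj s h
  by_cases hx : x = 0
  · have hy : y ≠ 0 := fun hy => hxy ⟨hx, hy⟩
    have e1 : (t : F) ^ 2 * s t = 1 := by
      have : ((t : F) ^ 2 * s t - 1) * y = 0 := by linear_combination h2
      rcases mul_eq_zero.1 this with h' | h'
      · exact sub_eq_zero.1 h'
      · exact absurd h' hy
    have e2 : (s (t : F) * t) ^ 2 = 1 := by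
      have := congrArg s e1
      rw [map_mul, map_pow, hs, map_one] at this
      linear_combination this
    have e3 := sq_eq_one_char_two e2
    apply Units.ext
    rw [Units.val_one]
    linear_combination e1 - (t : F) * e3
  · have e1 : s (t : F) = 1 := by
      have : (s (t : F) - 1) * x = 0 := by linear_combination h1
      rcases mul_eq_zero.1 this with h' | h'
      · exact sub_eq_zero.1 h'
      · exact absurd h' hx
    apply Units.ext
    rw [Units.val_one]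
    apply s.injective
    rw [e1, map_one]

omit [Finite F] in
lemma exists_ne_zero_one (hnt : ∃ y : F, s y ≠ y ^ 2) : ∃ y : F, y ≠ 0 ∧ y ≠ 1 := by
  obtain ⟨y, hy⟩ := hnt
  refine ⟨y, ?_, ?_⟩
  · rintro rfl; simp at hy
  · rintro rfl; simp at hy

include hs in
theorem faithful (hnt : ∃ y : F, s y ≠ y ^ 2) : FaithfulSMul (G s) (Ov s) := by
  constructor
  intro g g' h
  have hk : ∀ p : Ov s, (g'⁻¹ * g) • p = p := by
    intro p
    rw [mul_smul, h p, inv_smul_smul]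
  obtain ⟨t, ht⟩ := eq_Dg_of_fix s hs hnt (hk _) (hk _)
  have h3 := hk (opt s 1 0)
  rw [ht] at h3
  have ht1 := Dg_fix_third s hs (x := 1) (y := 0) (by simp) h3
  rw [ht1, Dg_one] at ht
  exact (inv_mul_eq_one.1 ht).symm

include hs in
theorem three_point (hnt : ∃ y : F, s y ≠ y ^ 2) (g : G s) (a b c : Ov s) (hab : a ≠ b)
    (hbc : b ≠ c) (hac : a ≠ c) (ha : g • a = a) (hb : g • b = b) (hc : g • c = c) : g = 1 := by
  obtain ⟨h, h1, h2⟩ := exists_smul_pair s hs hab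
  have k1 : (h⁻¹ * g * h) • oinf s = oinf s := by
    rw [mul_smul, mul_smul, h1, ha, ← h1, inv_smul_smul]
  have k2 : (h⁻¹ * g * h) • opt s 0 0 = opt s 0 0 := by
    rw [mul_smul, mul_smul, h2, hb, ← h2, inv_smul_smul]
  have k3 : (h⁻¹ * g * h) • (h⁻¹ • c) = h⁻¹ • c := by
    rw [mul_smul, mul_smul, smul_inv_smul, hc]
  obtain ⟨t, ht⟩ := eq_Dg_of_fix s hs hnt k1 k2
  rcases Ov_cases s (h⁻¹ • c) with hc' | ⟨x, y, hc'⟩
  · exfalso; apply hac
    rw [← h1, ← hc', smul_inv_smul]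
  · have hxy : ¬(x = 0 ∧ y = 0) := by
      rintro ⟨rfl, rfl⟩
      apply hbc
      rw [← h2, ← hc', smul_inv_smul]
    rw [hc', ht] at k3
    have ht1 := Dg_fix_third s hs hxy k3
    rw [ht1, Dg_one] at ht
    have : g = h * 1 * h⁻¹ := by rw [← ht]; group
    rw [this]; group

include hs in
theorem exists_fix_two (hnt : ∃ y : F, s y ≠ y ^ 2) :
    ∃ g : G s, g ≠ 1 ∧ ∃ a b : Ov s, a ≠ b ∧ g • a = a ∧ g • b = b := by
  obtain ⟨y, hy0, hy1⟩ := exists_ne_zero_one s hnt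
  refine ⟨Dg s hs (Units.mk0 y hy0), ?_, oinf s, opt s 0 0, (opt_ne_oinf s 0 0).symm,
    Dg_smul_oinf s hs _, Dg_smul_opt00 s hs _⟩
  intro h
  rw [← Dg_one s hs] at h
  have := Dg_injective s hs h
  apply hy1
  have := congrArg Units.val this
  simpa using this

include hs in
theorem no_regular_normal (hnt : ∃ y : F, s y ≠ y ^ 2) (N : Subgroup (G s)) (hN : N.Normal)
    (htr : MulAction.IsPretransitive N (Ov s)) : ∃ a : Ov s, MulAction.stabilizer N a ≠ ⊥ := by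
  by_contra hcon
  push Not at hcon
  have h2 : (2 : F) = 0 := CharTwo.two_eq_zero
  obtain ⟨y, hy0, hy1⟩ := exists_ne_zero_one s hnt
  have hfix : ∀ b : F, b ≠ 0 → ∀ p : Ov s, Tg s hs 0 b • p = p → p = oinf s := by
    intro b hb p hp
    rcases Ov_cases s p with h | ⟨x, y', h⟩
    · exact h
    · exfalso
      rw [h, Tg_smul_opt] at hp
      obtain ⟨_, h2'⟩ := opt_inj s hp
      apply hb
      simp at h2'
      exact h2'
  have hsq : ∀ b : F, Tg s hs 0 b * Tg s hs 0 b = 1 := by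
    intro b
    rw [Tg_mul, ← Tg_zero s hs]
    congr 1
    · simp
    · simp; linear_combination b * h2
  have hmul : Tg s hs 0 1 * Tg s hs 0 y = Tg s hs 0 (1 + y) := by
    rw [Tg_mul]; congr 1
    · simp
    · simp
  have hy1' : (1 : F) + y ≠ 0 := by
    intro h
    apply hy1
    linear_combination h - h2
  have hbot : N = ⊥ := by
    have := hN
    apply eq_bot_of_regular_of_involutions N hcon (ω := oinf s) (z1 := Tg s hs 0 1)
      (z2 := Tg s hs 0 y)
    · exact hfix 1 one_ne_zero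
    · exact Tg_smul_oinf s hs 0 1
    · exact hsq 1
    · exact hfix y hy0
    · exact Tg_smul_oinf s hs 0 y
    · exact hsq y
    · rw [hmul]; exact hfix _ hy1'
    · rw [hmul]; exact hsq _
  obtain ⟨n, hn⟩ := htr.exists_smul_eq (oinf s) (opt s 0 0)
  have hn1 : n = 1 := by
    apply Subtype.ext
    have h3 : (n : G s) ∈ (⊥ : Subgroup (G s)) := hbot ▸ n.2
    exact Subgroup.mem_bot.1 h3
  rw [hn1, one_smul] at hn
  exact opt_ne_oinf s 0 0 hn.symm

include hs in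
theorem isZassenhaus (hnt : ∃ y : F, s y ≠ y ^ 2) : Cfsg.IsZassenhausGroup (G s) (Ov s) :=
  ⟨faithful s hs hnt, is_two_trans s hs, three_point s hs hnt, exists_fix_two s hs hnt,
    no_regular_normal s hs hnt⟩

end act

end Cfsg.Agent.Lib.Helper6.Sz
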